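import Cfsg.Agent.ConwayType.Separate

/-!
# Exactly three classes of involutions
-/

set_option autoImplicit false

namespace CfsgLib.ConwayType

open CfsgLib.LargeExtraspecial

namespace Frame

variable {G : Type*} [Group G] [Finite G] {z s : G} {Q P : Subgroup G} {π : G → V8}
  (F : Frame z Q π P s)
include F

theorem three_classes : ∃ a b c : G, orderOf a = 2 ∧ orderOf b = 2 ∧ orderOf c = 2 ∧
    ¬ IsConj a b ∧ ¬ IsConj a c ∧ ¬ IsConj b c ∧
    ∀ x : G, orderOf x = 2 → IsConj x a ∨ IsConj x b ∨ IsConj x c := by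
  have : Fact (Nat.Prime 2) := ⟨Nat.prime_two⟩
  obtain ⟨hT1, hT2, hT3, hT4, hT5, -, hT7, -⟩ := std_TS
  obtain ⟨hN1, hN2, hN3, hN4, hN5, -, hN7, -⟩ := std_AN
  obtain ⟨aS, wS, haS, haSs, hwS, hwSz, hAS, hUS, hS2⟩ :=
    F.exists_type hT1 hT2 (by rw [hT3, hT5]) (by rw [hT4, hT5])
  obtain ⟨aU, wU, haU, haUs, hwU, hwUz, hAU, hUU, hU2⟩ :=
    F.exists_type hN1 hN2 (by rw [hN3, hN5]) (by rw [hN4, hN5])
  have hne : ∀ {a w : G}, a ∈ Q → w ∈ P → F.ups w ≠ 0 → a * w ≠ 1 := fun {a w} ha hw hu e => hu (by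
    have hwQ : w ∈ Q := by
      rw [show w = a⁻¹ by rw [eq_inv_of_mul_eq_one_right e]]; exact inv_mem ha
    rw [F.ups_memE (F.memE_of_mem hwQ hw)])
  have hzS := F.not_isConj_TS haS haSs hwS hwSz hAS hUS hS2
  have hzU := F.not_isConj_AN haU haUs hwU hwUz hAU hUU hU2
  have hnc : ∀ a' w', a' ∈ Q → a' * s = s * a' → w' ∈ P → w' * z = z * w' →
      q8 (cls π a') = true → q8 (F.ups w') = true → b8 (cls π a') (F.ups w') = true →
      ¬ IsConj z (a' * w') := by
    intro a' w' ha' has' hw' hwz' h1 h2 h3 h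
    obtain ⟨n, hn⟩ := F.exists_moves_AN (cls_inU π a') (F.ups_inU w') h1 h2 h3
    exact hzU (h.trans (F.isConj_moves haU haUs hwU hwUz hAU hUU fuse_AN ha' has' hw' hwz' hn).symm)
  refine ⟨z, aS * wS, aU * wU, F.data.sub.two,
    orderOf_eq_prime (by rw [pow_two, hS2]) (hne haS hwS (by rw [hUS]; exact hT7)),
    orderOf_eq_prime (by rw [pow_two, hU2]) (hne haU hwU (by rw [hUU]; exact hN7)), hzS, hzU, ?_,
    fun x hx => F.classify haS haSs hwS hwSz hAS hUS haU haUs hwU hwUz hAU hUU hx⟩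
  intro hconj
  obtain ⟨g, hg⟩ := isConj_iff.1 hconj
  obtain ⟨H, hHp, hHx, hH⟩ := F.exists_large haS haSs hwS hwSz hAS hUS
  have hle := F.card_le_of_centralizing haU haUs hwU hwUz hAU hUU hnc
    (S := H.map (MulAut.conj g).toMonoidHom) (hHp.map _) (by
      rintro _ ⟨h, hh, rfl⟩
      refine Subgroup.mem_centralizer_singleton_iff.2 ?_
      have h1 := (Commute.conj_iff g).2
        (show Commute h (aS * wS) from Subgroup.mem_centralizer_singleton_iff.1 (hHx hh))
      rw [hg] at h1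
      simpa using h1.eq)
  rw [Subgroup.card_map_of_injective (MulAut.conj g).injective] at hle
  omega

end Frame

end CfsgLib.ConwayType
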