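import Cfsg.Agent.ConwayType.Bits
import Cfsg.Agent.LargeExtraspecial.Pair
import Cfsg.Agent.LargeExtraspecial.Simplicity
import Cfsg.Agent.ExtraspecialOut.Coords
import Cfsg.Agent.Forms4.OrthogonalOrders
import Cfsg.Agent.OPlusEightTwo.Cover
import Cfsg.Agent.Forms.OrthIndex
import Cfsg.Agent.Spinor.StdForms

/-!
# Coordinates for an extraspecial group of order `2^9` inside its involution centralizer
-/

set_option autoImplicit false
set_option linter.style.haveILetI false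

namespace CfsgLib.ConwayType

open CfsgLib.LargeExtraspecial
open Matrix (mulVec)
open scoped Matrix

/-- What is used about `z`, `Q` and the coordinates `π` on `Q / ⟨z⟩`. -/
structure Data {G : Type*} [Group G] (z : G) (Q : Subgroup G) (π : G → V8) : Prop where
  sub : IsZSub Q z
  card : Nat.card Q = 512
  map_mul : ∀ x ∈ Q, ∀ y ∈ Q, π (x * y) = π x + π y
  ker : ∀ x ∈ Q, π x = 0 ↔ x = 1 ∨ x = z
  surj : ∀ v, ∃ x ∈ Q, π x = v
  sq : ∀ x ∈ Q, x * x = 1 ↔ q8 (π x) = false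
  pairs : ∀ p, okPair p = true →
    ∃ c, c * z = z * c ∧ ∀ x ∈ Q, π (c * x * c⁻¹) = pr p (π x)
  faithful : ∀ c, c * z = z * c → (∀ x ∈ Q, π (c * x * c⁻¹) = π x) → c ∈ Q
  card_cent : Nat.card (Subgroup.centralizer ({z} : Set G)) = 2 ^ 21 * 42525
  nwc : ∃ g, g * z * g⁻¹ ∈ Q ∧ g * z * g⁻¹ ≠ z

/-- The coordinate vector of a bit mask. -/
def dec (v : V8) : Fin 4 ⊕ Fin 4 → ZMod 2
  | .inl i => if v.bits.testBit (2 * i.val) then 1 else 0
  | .inr i => if v.bits.testBit (2 * i.val + 1) then 1 else 0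

theorem dec_add : ∀ u v : V8, dec (u + v) = dec u + dec v := by
  intro u v
  funext k
  have key : ∀ b c : Bool, (if xor b c then (1 : ZMod 2) else 0) =
      (if b then 1 else 0) + (if c then 1 else 0) := by decide
  rcases k with i | i <;> simp only [dec, bits_add, Nat.testBit_xor, Pi.add_apply, key]

theorem q8_dec : ∀ v : V8, Cfsg.quadFormPlus 4 (ZMod 2) (dec v) = if q8 v then 1 else 0 := by
  decide +kernel

theorem dec_bijective : Function.Bijective dec := by
  rw [Fintype.bijective_iff_injective_and_card]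
  refine ⟨fun u v h => ?_, (show Fintype.card (Fin 256) = _ by rw [Fintype.card_fin, Fintype.card_fun, Fintype.card_sum, Fintype.card_fin, ZMod.card]; norm_num)⟩
  refine V8.ext_bits (Nat.eq_of_testBit_eq fun k => ?_)
  by_cases hk : k < 8
  · have key : ∀ b c : Bool, (if b then (1 : ZMod 2) else 0) = (if c then 1 else 0) → b = c := by
      decide
    interval_cases k
    exacts [key _ _ (congrFun h (.inl 0)), key _ _ (congrFun h (.inr 0)),
      key _ _ (congrFun h (.inl 1)), key _ _ (congrFun h (.inr 1)),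
      key _ _ (congrFun h (.inl 2)), key _ _ (congrFun h (.inr 2)),
      key _ _ (congrFun h (.inl 3)), key _ _ (congrFun h (.inr 3))]
  · have h256 : (256 : ℕ) ≤ 2 ^ k := le_trans (by norm_num) (Nat.pow_le_pow_right (by norm_num) (not_lt.1 hk))
    rw [Nat.testBit_lt_two_pow (lt_of_lt_of_le u.bits_lt h256),
      Nat.testBit_lt_two_pow (lt_of_lt_of_le v.bits_lt h256)]

/-- Bit masks of coordinate vectors. -/
noncomputable def enc : (Fin 4 ⊕ Fin 4 → ZMod 2) → V8 :=
  (Equiv.ofBijective dec dec_bijective).symm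

theorem dec_enc (x : Fin 4 ⊕ Fin 4 → ZMod 2) : dec (enc x) = x :=
  Equiv.ofBijective_apply_symm_apply dec dec_bijective x

theorem enc_dec (v : V8) : enc (dec v) = v := (Equiv.ofBijective dec dec_bijective).symm_apply_apply v

theorem dec_zero : ∀ k, dec 0 k = 0 := by decide

theorem minus_anisotropic : ∀ z₁ z₂ : ZMod 2,
    z₁ ^ 2 + 1 * z₁ * z₂ + 1 * z₂ ^ 2 = 0 → z₁ = 0 ∧ z₂ = 0 := by decide

theorem ite_one_ne_zero : (1 : ZMod 2) ≠ 0 := by decide

/-- Conjugation gives a map to the isometry group, with kernel `Q`. -/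
theorem exists_rep {C : Type*} [Group C] [Finite C] (Q : Subgroup C) [Q.Normal]
    (hQ : Cfsg.IsExtraspecial 2 Q) (hcent : ∀ c : C, (∀ q ∈ Q, q * c = c * q) → c ∈ Q)
    {ι : Type} [Fintype ι] [DecidableEq ι] {Qf : (ι → ZMod 2) → ZMod 2}
    (K : CfsgLib.ExtraspecialOut.Cover Q ι Qf) :
    ∃ ρ : C →* Cfsg.isometryGroup (ZMod 2) Qf, ρ.ker = Q ∧
      ∀ (c : C) (x : Q), (((ρ c : Matrix.GeneralLinearGroup ι (ZMod 2))) : Matrix ι ι (ZMod 2)).mulVec
        (K.π x) = K.π (MulAut.conjNormal c x) := by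
  refine ⟨K.isoHom.comp MulAut.conjNormal, le_antisymm (fun c hc => ?_) (fun c hc => ?_),
    fun c x => ?_⟩
  · have h : MulAut.conjNormal c ∈ K.isoHom.ker := hc
    rw [K.ker_eq hQ] at h
    obtain ⟨g, hg⟩ := h
    have hgc : (g : C)⁻¹ * c ∈ Q := hcent _ fun q hq => by
      have e : ((MulAut.conj g) ⟨q, hq⟩ : Q) = MulAut.conjNormal c ⟨q, hq⟩ := by rw [hg]
      have e' : (g : C) * q * (g : C)⁻¹ = c * q * c⁻¹ := by
        simpa using congrArg Subtype.val e
      calc q * ((g : C)⁻¹ * c) = (g : C)⁻¹ * ((g : C) * q * (g : C)⁻¹) * c := by group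
        _ = (g : C)⁻¹ * (c * q * c⁻¹) * c := by rw [e']
        _ = (g : C)⁻¹ * c * q := by group
    have := Q.mul_mem g.2 hgc
    rwa [mul_inv_cancel_left] at this
  · show MulAut.conjNormal c ∈ K.isoHom.ker
    rw [K.ker_eq hQ]
    exact ⟨⟨c, hc⟩, MulEquiv.ext fun x => Subtype.ext (by simp)⟩
  · show ((K.matHom (MulAut.conjNormal c) : GL ι (ZMod 2)) : Matrix ι ι (ZMod 2)).mulVec _ = _
    rw [K.matHom_mulVec, K.lin_apply]

/-- The data exist under the hypotheses of Conway type. -/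
theorem exists_data {G : Type*} [Group G] [Finite G] (z : G) (hz : orderOf z = 2)
    (Q : Subgroup (Subgroup.centralizer ({z} : Set G))) [Q.Normal]
    (hF : Cfsg.generalizedFittingSubgroup (Subgroup.centralizer ({z} : Set G)) = Q)
    (hQ : Cfsg.IsExtraspecial 2 Q) (hcard : Nat.card Q = 2 ^ 9)
    (e : (Subgroup.centralizer ({z} : Set G)) ⧸ Q ≃*
      Cfsg.Omega (ZMod 2) (Cfsg.quadFormPlus 4 (ZMod 2)))
    (hnwc : ∃ g : G, (∃ hq : g * z * g⁻¹ ∈ Subgroup.centralizer ({z} : Set G),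
      (⟨g * z * g⁻¹, hq⟩ : Subgroup.centralizer ({z} : Set G)) ∈ Q) ∧ g * z * g⁻¹ ≠ z) :
    ∃ (Q' : Subgroup G) (π : G → V8), Data z Q' π := by
  classical
  haveI := Fact.mk Nat.prime_two
  set Q' := Q.map (Subgroup.centralizer ({z} : Set G)).subtype with hQ'
  have hQC : Q' ≤ (Subgroup.centralizer ({z} : Set G)) := Subgroup.map_subtype_le _
  have hQ2 : Cfsg.IsExtraspecial 2 ↥Q' := CfsgLib.LargeExtraspecial.isExtraspecial_of_mulEquiv
    (Q.equivMapOfInjective _ (Subgroup.centralizer ({z} : Set G)).subtype_injective) hQ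
  have hsub : IsZSub Q' z := isZSub_of_generalizedFitting hz hQC (by rw [hF]) hQ2
  have hcardQ : Nat.card Q' = 512 := by
    rw [hQ', Subgroup.card_map_of_injective (Subgroup.centralizer ({z} : Set G)).subtype_injective, hcard]; norm_num
  have hcent : ∀ c : (Subgroup.centralizer ({z} : Set G)), (∀ q ∈ Q, q * c = c * q) → c ∈ Q := fun c hc => by
    have hm : c ∈ Subgroup.centralizer
        (Cfsg.generalizedFittingSubgroup (Subgroup.centralizer ({z} : Set G)) : Set (Subgroup.centralizer ({z} : Set G))) := by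
      rw [hF, Subgroup.mem_centralizer_iff]; exact hc
    have := CfsgLib.Components.centralizer_generalizedFitting_le_self hm
    rwa [hF] at this
  -- the order of the centralizer
  set Qm := CfsgLib.StdForms.plusQ 4 (ZMod 2) with hQm
  have hcoe : (⇑Qm : _ → ZMod 2) = Cfsg.quadFormPlus 4 (ZMod 2) := CfsgLib.StdForms.coe_plusQ 4
  have hnd : (QuadraticMap.polarBilin Qm).Nondegenerate := CfsgLib.StdForms.plusQ_nondegenerate 4
  have hexc : Nat.card (ZMod 2) ≠ 2 ∨ Fintype.card (Fin 4 ⊕ Fin 4) ≠ 4 := Or.inr (by simp)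
  have hidx : (Cfsg.Omega (ZMod 2) ⇑Qm).index = 2 :=
    CfsgLib.Forms.index_omega_charTwo hnd (by simp) hexc
  have hO : Nat.card ↥(Cfsg.isometryGroup (ZMod 2) ⇑Qm) = 348364800 := by
    rw [hcoe, CfsgLib.Forms4.card_isometryGroup_quadFormPlus (ZMod.card 2) 4 (by norm_num)]
    simp [Finset.prod_range_succ]
  have hq : Nat.card ((Subgroup.centralizer ({z} : Set G)) ⧸ Q) = 174182400 := by
    rw [Nat.card_congr e.toEquiv]
    exact CfsgLib.OPlusEightTwo.card_omega
  have hC : Nat.card (Subgroup.centralizer ({z} : Set G)) = 2 ^ 21 * 42525 := by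
    rw [Subgroup.card_eq_card_quotient_mul_card_subgroup Q, hq, hcard]; norm_num
  -- the coordinates
  obtain ⟨a, ⟨K⟩⟩ := CfsgLib.ExtraspecialOut.exists_cover (n := 4) hQ hcard
  obtain ⟨K', hK'⟩ : ∃ K' : CfsgLib.ExtraspecialOut.Cover Q (Fin 4 ⊕ Fin 4) ⇑Qm, True := by
    rcases CfsgLib.ExtraspecialOut.zmod_two_cases (Cfsg.quadFormPlus 4 (ZMod 2) a) with h0 | h1
    · exact ⟨K.transport (CfsgLib.QuadTwo.shear a) fun v =>
        (CfsgLib.QuadTwo.plus_shear a h0 v).trans (congrFun hcoe.symm _), trivial⟩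
    · exfalso
      obtain ⟨g, hg⟩ := CfsgLib.QuadTwo.exists_minus a h1
      obtain ⟨ρ, hρ, -⟩ := exists_rep Q hQ hcent (K.transport g hg)
      have hcm := CfsgLib.Forms4.card_isometryGroup_quadFormMinus (ZMod.card 2) 4 (by norm_num)
        (1 : ZMod 2) 1 minus_anisotropic
      simp [Finset.prod_range_succ, -Nat.card_eq_fintype_card] at hcm
      have h1 := ρ.range.card_subgroup_dvd_card
      rw [hcm, ← Subgroup.index_ker, hρ, Subgroup.index_eq_card, hq] at h1
      exact absurd h1 (by decide)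
  obtain ⟨ρ, hρ, hact⟩ := exists_rep Q hQ hcent K'
  have hrange : ρ.range.index = 2 := by
    have h := ρ.range.card_mul_index
    rw [hO, ← Subgroup.index_ker, hρ, Subgroup.index_eq_card, hq] at h
    omega
  have hOm : ρ.range = Cfsg.Omega (ZMod 2) ⇑Qm := by
    haveI := Subgroup.normal_of_index_eq_two hrange
    have hle : Cfsg.Omega (ZMod 2) ⇑Qm ≤ ρ.range := by
      rw [Cfsg.Omega, commutator_def, Subgroup.commutator_le]
      intro x _ y _
      rw [← QuotientGroup.eq_one_iff (N := ρ.range), commutatorElement_def]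
      haveI : IsCyclic (↥(Cfsg.isometryGroup (ZMod 2) ⇑Qm) ⧸ ρ.range) :=
        isCyclic_of_prime_card (p := 2) (by rw [← Subgroup.index_eq_card, hrange])
      simp only [QuotientGroup.mk_mul, QuotientGroup.mk_inv]
      rw [(IsCyclic.commGroup).mul_comm (QuotientGroup.mk x) (QuotientGroup.mk y)]
      group
    refine (Subgroup.eq_of_le_of_card_ge hle ?_).symm
    have h1 := ρ.range.card_mul_index
    have h2 := (Cfsg.Omega (ZMod 2) ⇑Qm).card_mul_index
    rw [hrange] at h1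
    rw [hidx] at h2
    omega
  -- the map on `G`
  have hmem : ∀ {x : G}, x ∈ Q' ↔ ∃ hx : x ∈ (Subgroup.centralizer ({z} : Set G)), (⟨x, hx⟩ : (Subgroup.centralizer ({z} : Set G))) ∈ Q := fun {x} =>
    ⟨fun ⟨q, hq, e⟩ => e ▸ ⟨q.2, hq⟩, fun ⟨hx, hq⟩ => ⟨_, hq, rfl⟩⟩
  let π : G → V8 := fun x =>
    if hx : x ∈ (Subgroup.centralizer ({z} : Set G)) then (if hq : (⟨x, hx⟩ : (Subgroup.centralizer ({z} : Set G))) ∈ Q then enc (K'.π ⟨⟨x, hx⟩, hq⟩) else 0) else 0
  have hπ : ∀ q : Q, π ((q : (Subgroup.centralizer ({z} : Set G))) : G) = enc (K'.π q) := fun q => by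
    show dite _ _ _ = _
    rw [dif_pos (q : (Subgroup.centralizer ({z} : Set G))).2, dif_pos q.2]
  have hQel : ∀ x ∈ Q', ∃ q : Q, ((q : (Subgroup.centralizer ({z} : Set G))) : G) = x := fun x hx => by
    obtain ⟨hx', hq'⟩ := hmem.1 hx; exact ⟨⟨_, hq'⟩, rfl⟩
  have hzero : dec 0 = 0 := funext dec_zero
  have hcen : ∀ q : Q, q ∈ Subgroup.center Q ↔ ((q : (Subgroup.centralizer ({z} : Set G))) : G) = 1 ∨ ((q : (Subgroup.centralizer ({z} : Set G))) : G) = z := by
    intro q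
    have hqQ : ((q : (Subgroup.centralizer ({z} : Set G))) : G) ∈ Q' := hmem.2 ⟨(q : (Subgroup.centralizer ({z} : Set G))).2, q.2⟩
    constructor
    · intro hq
      refine hsub.mem_of_commutes fun x hx => ?_
      obtain ⟨x', rfl⟩ := hQel x hx
      exact congrArg (fun t : Q => ((t : (Subgroup.centralizer ({z} : Set G))) : G)) (Subgroup.mem_center_iff.1 hq x')
    · intro h
      refine Subgroup.mem_center_iff.2 fun x => Subtype.ext (Subtype.ext ?_)
      rcases h with h | h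
      · simp [h]
      · simp only [Subgroup.coe_mul, h]
        exact hsub.z_comm (hmem.2 ⟨(x : (Subgroup.centralizer ({z} : Set G))).2, x.2⟩)
  refine ⟨Q', π, hsub, hcardQ, ?_, ?_, ?_, ?_, ?_, ?_, hC, ?_⟩
  · intro x hx y hy
    obtain ⟨x', rfl⟩ := hQel x hx
    obtain ⟨y', rfl⟩ := hQel y hy
    rw [← Subgroup.coe_mul, ← Subgroup.coe_mul, hπ, hπ, hπ, K'.map_mul]
    exact dec_bijective.1 (by rw [dec_add, dec_enc, dec_enc, dec_enc])
  · intro x hx
    obtain ⟨x', rfl⟩ := hQel x hx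
    rw [hπ, ← hcen, ← K'.ker]
    exact ⟨fun h => by rw [← dec_enc (K'.π x'), h, hzero],
      fun h => by rw [h, ← hzero, enc_dec]⟩
  · intro v
    obtain ⟨x, hx⟩ := K'.surj (dec v)
    exact ⟨_, hmem.2 ⟨(x : (Subgroup.centralizer ({z} : Set G))).2, x.2⟩, by rw [hπ, hx, enc_dec]⟩
  · intro x hx
    obtain ⟨x', rfl⟩ := hQel x hx
    have h := K'.quad x'
    rw [show Qm (K'.π x') = if q8 (π ((x' : _) : G)) then 1 else 0 by
      rw [hπ]
      exact ((congrArg _ (dec_enc (K'.π x')).symm).trans (congrFun hcoe _)).trans (q8_dec _)] at h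
    rw [← pow_two]
    have e1 : (((x' : (Subgroup.centralizer ({z} : Set G))) : G)) ^ 2 = 1 ↔ x' ^ 2 = 1 :=
      ⟨fun h => Subtype.ext (Subtype.ext h), fun h => congrArg (fun t : Q => ((t : (Subgroup.centralizer ({z} : Set G))) : G)) h⟩
    rw [e1, ← h]
    cases q8 (π ((x' : (Subgroup.centralizer ({z} : Set G))) : G)) <;> simp
  · intro p hp
    simp only [okPair, Bool.and_eq_true] at hp
    have hr : ∀ u : V8, q8 u = true → Qm (dec u) ≠ 0 := fun u hu => by
      rw [hcoe, q8_dec, if_pos hu]; exact ite_one_ne_zero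
    have hmem' : CfsgLib.Spinor.reflIso Qm _ (hr _ hp.1) * CfsgLib.Spinor.reflIso Qm _ (hr _ hp.2) ∈
        ρ.range := by
      rw [hOm, CfsgLib.Forms.omega_eq_ker_charTwo hnd (CfsgLib.Forms.exists_isReflProd_charTwo hnd hexc)
        hexc, MonoidHom.mem_ker, map_mul, CfsgLib.Forms.parityHom_reflIso,
        CfsgLib.Forms.parityHom_reflIso]
      rfl
    obtain ⟨c, hc⟩ := hmem'
    refine ⟨c, Subgroup.mem_centralizer_singleton_iff.1 c.2, fun x hx => ?_⟩
    obtain ⟨x', rfl⟩ := hQel x hx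
    have e1 : (c : G) * ((x' : (Subgroup.centralizer ({z} : Set G))) : G) * (c : G)⁻¹ = ((MulAut.conjNormal c x' : Q) : (Subgroup.centralizer ({z} : Set G))) := by simp
    rw [e1, hπ, hπ, ← hact, hc]
    apply dec_bijective.1
    rw [dec_enc]
    have hrf : ∀ a v : V8, q8 a = true →
        Cfsg.reflectionMatrix (⇑Qm) (dec a) *ᵥ dec v = dec (rf a v) := fun a v ha => by
      rw [CfsgLib.Spinor.reflectionMatrix_mulVec, CfsgLib.Spinor.refl_apply, QuadraticMap.polar,
        hcoe, ← dec_add, q8_dec, q8_dec, q8_dec, rf, b8, ha, add_comm v a, if_pos rfl]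
      cases q8 (a + v) <;> cases q8 v <;> simp [dec_add, add_comm, CharTwo.sub_eq_add]
    show (CfsgLib.Spinor.mat Qm _ * CfsgLib.Spinor.mat Qm _) *ᵥ _ = _
    rw [← Matrix.mulVec_mulVec, CfsgLib.Spinor.mat_reflIso, CfsgLib.Spinor.mat_reflIso]
    conv_lhs => rw [← dec_enc (K'.π x')]
    rw [hrf _ _ hp.2, hrf _ _ hp.1]
    rfl
  · intro c hc hfix
    obtain ⟨c', rfl⟩ : ∃ c' : (Subgroup.centralizer ({z} : Set G)), (c' : G) = c :=
      ⟨⟨c, Subgroup.mem_centralizer_singleton_iff.2 hc⟩, rfl⟩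
    refine hmem.2 ⟨c'.2, ?_⟩
    rw [← hρ, MonoidHom.mem_ker]
    refine CfsgLib.Spinor.mat_ext Qm (Matrix.ext_iff_mulVec.2 fun v => ?_)
    obtain ⟨x, rfl⟩ := K'.surj v
    rw [hact, CfsgLib.Spinor.mat_one, Matrix.one_mulVec]
    have h := hfix _ (hmem.2 ⟨(x : (Subgroup.centralizer ({z} : Set G))).2, x.2⟩)
    have e1 : (c' : G) * ((x : (Subgroup.centralizer ({z} : Set G))) : G) * (c' : G)⁻¹ = ((MulAut.conjNormal c' x : Q) : (Subgroup.centralizer ({z} : Set G))) := by simp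
    rw [e1, hπ, hπ] at h
    rw [← dec_enc (K'.π x), ← h, dec_enc]
  · obtain ⟨g, ⟨hq, hgQ⟩, hne⟩ := hnwc
    exact ⟨g, hmem.2 ⟨hq, hgQ⟩, hne⟩

end CfsgLib.ConwayType
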