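import Cfsg.Agent.ConwayType.NotCentral

/-!
# The subgroup `C_Q(s) C_P(z)` and centralizers in it
-/

set_option autoImplicit false

namespace CfsgLib.ConwayType

open CfsgLib.LargeExtraspecial

namespace Frame

variable {G : Type*} [Group G] {z s : G} {Q P : Subgroup G} {π : G → V8} (F : Frame z Q π P s)
include F

/-- Membership of `C_Q(s) C_P(z)`, described by the action. -/
def InR (g : G) : Prop :=
  g * z = z * g ∧ g * s = s * g ∧ ∀ v, b8 v s0 = false → pU (F.data.act g v) = pU v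

theorem inR_mul {g h : G} (hg : F.InR g) (hh : F.InR h) : F.InR (g * h) :=
  ⟨(Commute.mul_left hg.1 hh.1).eq, (Commute.mul_left hg.2.1 hh.2.1).eq, fun v hv => by
    rw [F.data.act_mul hg.1 hh.1, hg.2.2 _ ((F.data.act_iso hh.1).orth_s0 (F.act_s hh.1 hh.2.1) hv),
      hh.2.2 v hv]⟩

/-- The subgroup `C_Q(s) C_P(z)`. -/
def rGrp : Subgroup G where
  carrier := {g | F.InR g}
  one_mem' := ⟨by simp, by simp, fun v _ => by rw [F.data.act_one]⟩
  mul_mem' := fun hg hh => F.inR_mul hg hh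
  inv_mem' := fun {g} hg => ⟨(Commute.inv_left hg.1).eq, (Commute.inv_left hg.2.1).eq, fun v hv => by
    have h1 := hg.2.2 (F.data.act g⁻¹ v) ((F.data.act_iso (Commute.inv_left hg.1).eq).orth_s0
      (F.act_s (Commute.inv_left hg.1).eq (Commute.inv_left hg.2.1).eq) hv)
    rw [(F.data.act_cancel hg.1 v).2] at h1
    exact h1.symm⟩

theorem mem_rGrp {g : G} : g ∈ F.rGrp ↔ F.InR g := Iff.rfl

variable [Finite G]

theorem inR_decomp {g : G} (hg : F.InR g) :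
    ∃ a w, a ∈ Q ∧ a * s = s * a ∧ w ∈ P ∧ w * z = z * w ∧ g = a * w := by
  obtain ⟨hgz, hgs, hgU⟩ := hg
  have hs := F.act_s hgz hgs
  have hsie := (F.data.act_iso hgz).eq_sie hs fun v hv => pU_eq_zero _
    (by rw [pU_add, hgU v hv, add_self8])
    (by rw [b8_add_left, (F.data.act_iso hgz).orth_s0 hs hv, hv]; rfl)
  obtain ⟨w, hw, hwz, hwu⟩ := F.exists_ups (u := pU (F.data.act g d0)) (pU_pU _)
  have hwi : w⁻¹ * z = z * w⁻¹ := (Commute.inv_left hwz).eq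
  have haz : g * w⁻¹ * z = z * (g * w⁻¹) := (Commute.mul_left hgz hwi).eq
  refine ⟨g * w⁻¹, w, F.data.mem_of_act haz fun v => ?_,
    (Commute.mul_left hgs (Commute.inv_left (F.W_comm_s hw))).eq, hw, hwz, by group⟩
  rw [F.data.act_mul hgz hwi, hsie, ← hwu, ← F.act_W hw hwz, ← F.data.act_mul hwz hwi,
    mul_inv_cancel, F.data.act_one]

theorem inR_mk {a w : G} (ha : a ∈ Q) (has : a * s = s * a) (hw : w ∈ P) (hwz : w * z = z * w) :
    F.InR (a * w) := by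
  refine ⟨(Commute.mul_left (F.data.Q_comm ha) hwz).eq, (Commute.mul_left has (F.W_comm_s hw)).eq,
    fun v hv => ?_⟩
  rw [F.data.act_mul (F.data.Q_comm ha) hwz, F.data.act_of_mem ha, F.act_W hw hwz]
  have h := pU_sie (F.ups w) v (F.ups_inU w)
  rw [hv, pU_add] at h
  exact eq_of_add_eq_zero8 h

theorem classes_unique {a w a' w' : G} (ha : a ∈ Q) (hw : w ∈ P) (hwz : w * z = z * w)
    (ha' : a' ∈ Q) (hw' : w' ∈ P) (hwz' : w' * z = z * w') (h : a * w = a' * w') :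
    cls π a = cls π a' ∧ F.ups w = F.ups w' := by
  constructor
  · have hE : MemE z s (a'⁻¹ * a) := by
      refine F.memE_of_mem (mul_mem (inv_mem ha') ha) ?_
      rw [show a'⁻¹ * a = w' * w⁻¹ by
        calc a'⁻¹ * a = a'⁻¹ * (a * w) * w⁻¹ := by group
          _ = w' * w⁻¹ := by rw [h]; group]
      exact mul_mem hw' (inv_mem hw)
    have h1 := F.cls_memE hE
    rw [F.cls_mul (inv_mem ha') ha, F.cls_inv ha'] at h1
    exact (eq_of_add_eq_zero8 h1).symm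
  · have h1 : ∀ {b v : G}, b ∈ Q → v * z = z * v →
        pU (F.data.act (b * v) d0) = pU (F.data.act v d0) := fun hb hv => by
      rw [F.data.act_mul (F.data.Q_comm hb) hv, F.data.act_of_mem hb]
    show pU (F.data.act w d0) = pU (F.data.act w' d0)
    rw [← h1 ha hwz, h, h1 ha' hwz']

theorem conj_RR {a w a' w' : G} (ha : a ∈ Q) (has : a * s = s * a) (hw : w ∈ P)
    (hwz : w * z = z * w) (ha' : a' ∈ Q) (has' : a' * s = s * a') (hw' : w' ∈ P)
    (hwz' : w' * z = z * w') :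
    (a' * w') * (a * w) * (a' * w')⁻¹ =
      ee z s (zExp (cls π a) (F.ups w) (cls π a') (F.ups w'))
        (sExp (cls π a) (F.ups w) (cls π a') (F.ups w')) * (a * w) := by
  obtain ⟨β, hβ⟩ : ∃ β, β = b8 (cls π a) (F.ups w') := ⟨_, rfl⟩
  obtain ⟨γ, hγ⟩ : ∃ γ, γ = b8 (cls π a') (F.ups w) := ⟨_, rfl⟩
  obtain ⟨μ, hμ⟩ : ∃ μ, μ = b8 (F.ups w') (F.ups w) := ⟨_, rfl⟩
  obtain ⟨δ, hδ⟩ : ∃ δ, δ = b8 (cls π a') (cls π a) := ⟨_, rfl⟩
  have h1 := (F.comm_QW ha has hw' hwz').1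
  have h2 := F.conj_WW hw hwz hw' hwz'
  have h3 := F.conj_QQ ha has ha' has'
  have h4 := (F.comm_QW ha' has' hw hwz).2
  rw [← hβ] at h1
  rw [← hμ] at h2
  rw [← hδ] at h3
  rw [← hγ] at h4
  rw [zExp, sExp, ← hβ, ← hδ, ← hγ, ← hμ]
  have hc := F.data.Q_comm ha'
  calc (a' * w') * (a * w) * (a' * w')⁻¹ = a' * ((w' * a * w'⁻¹) * (w' * w * w'⁻¹)) * a'⁻¹ := by group
    _ = (a' * ee z s β β * a'⁻¹) * (a' * a * a'⁻¹) * (a' * ee z s false μ * a'⁻¹) * (a' * w * a'⁻¹) := by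
      rw [h1, h2]; group
    _ = ee z s β β * ee z s δ false * (a * (ee z s false μ * ee z s γ γ)) * w := by
      rw [F.conj_ee _ _ hc has', F.conj_ee _ _ hc has', h3, h4]; group
    _ = ee z s β β * ee z s δ false * ((ee z s false μ * ee z s γ γ) * a) * w := by
      rw [F.ee_mul false μ γ γ, F.ee_comm _ _ (F.data.Q_comm ha) has]
    _ = (ee z s β β * ee z s δ false) * (ee z s false μ * ee z s γ γ) * (a * w) := by group
    _ = _ := by
      rw [F.ee_mul, F.ee_mul, F.ee_mul]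
      cases β <;> cases δ <;> cases γ <;> cases μ <;> rfl

theorem commute_RR_iff {a w a' w' : G} (ha : a ∈ Q) (has : a * s = s * a) (hw : w ∈ P)
    (hwz : w * z = z * w) (ha' : a' ∈ Q) (has' : a' * s = s * a') (hw' : w' ∈ P)
    (hwz' : w' * z = z * w') :
    (a' * w') * (a * w) = (a * w) * (a' * w') ↔
      zExp (cls π a) (F.ups w) (cls π a') (F.ups w') = false ∧
        sExp (cls π a) (F.ups w) (cls π a') (F.ups w') = false := by
  have h := F.conj_RR ha has hw hwz ha' has' hw' hwz'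
  constructor
  · intro hc
    rw [mul_inv_eq_iff_eq_mul.2 hc] at h
    have h' : ee z s false false * (a * w) =
        ee z s (zExp (cls π a) (F.ups w) (cls π a') (F.ups w'))
          (sExp (cls π a) (F.ups w) (cls π a') (F.ups w')) * (a * w) := by
      rw [ee_false, one_mul]; exact h
    obtain ⟨h1, h2⟩ := F.ee_mul_inj h'
    exact ⟨h1.symm, h2.symm⟩
  · rintro ⟨h1, h2⟩
    rw [h1, h2, ee_false, one_mul] at h
    exact mul_inv_eq_iff_eq_mul.1 h

theorem rGrp_isPGroup : IsPGroup 2 F.rGrp := by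
  rintro ⟨g, hg⟩
  refine ⟨3, Subtype.ext ?_⟩
  show g ^ 2 ^ 3 = 1
  obtain ⟨a, w, ha, has, hw, hwz, rfl⟩ := F.inR_decomp hg
  have hz2 : (a * w) * z = z * (a * w) := (Commute.mul_left (F.data.Q_comm ha) hwz).eq
  have hsq : a * w * (a * w) ∈ Q := by
    refine F.data.mem_of_act (Commute.mul_left hz2 hz2).eq fun v => ?_
    rw [F.data.act_mul hz2 hz2, F.data.act_mul (F.data.Q_comm ha) hwz,
      F.data.act_of_mem ha, F.act_W hw hwz, F.data.act_mul (F.data.Q_comm ha) hwz,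
      F.data.act_of_mem ha, F.act_W hw hwz, sie_sie _ (mem_uVecs _ (F.ups_inU w))]
  rcases F.data.sub.sq_eq hsq with e | e
  · calc (a * w) ^ 2 ^ 3 = (a * w * (a * w) * (a * w * (a * w))) *
          (a * w * (a * w) * (a * w * (a * w))) := by simp [pow_succ, mul_assoc]
      _ = 1 := by rw [e, one_mul]
  · calc (a * w) ^ 2 ^ 3 = (a * w * (a * w) * (a * w * (a * w))) *
          (a * w * (a * w) * (a * w * (a * w))) := by simp [pow_succ, mul_assoc]
      _ = 1 := by rw [e, F.data.sub.mul_self]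

theorem exists_type' {A u : V8} (hA : InU A) (hu : InU u) :
    ∃ a w, a ∈ Q ∧ a * s = s * a ∧ w ∈ P ∧ w * z = z * w ∧ cls π a = A ∧ F.ups w = u := by
  obtain ⟨a, ha, has, hπ⟩ := F.exists_mem A (inU_orth _ hA).1
  obtain ⟨w, hw, hwz, hu'⟩ := F.exists_ups hu
  exact ⟨a, w, ha, has, hw, hwz, by rw [cls, hπ]; exact hA, hu'⟩

/-- The order of a centralizer in `C_Q(s) C_P(z)`. -/
theorem card_cent_rGrp {a₀ w₀ : G} (ha₀ : a₀ ∈ Q) (has₀ : a₀ * s = s * a₀) (hw₀ : w₀ ∈ P)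
    (hwz₀ : w₀ * z = z * w₀) :
    Nat.card ↥(F.rGrp ⊓ Subgroup.centralizer ({a₀ * w₀} : Set G)) =
      (solSet (cls π a₀) (F.ups w₀)).card * 4 := by
  classical
  choose ra rw' hra hras hrw hrwz hrA hrU using fun p : {p : V8 × V8 //
      InU p.1 ∧ InU p.2} => F.exists_type' p.2.1 p.2.2
  obtain ⟨S, hS⟩ : ∃ S, S = solSet (cls π a₀) (F.ups w₀) := ⟨_, rfl⟩
  rw [← hS]
  have hmem : ∀ {A u : V8}, (A, u) ∈ S ↔ (InU A ∧ InU u) ∧
      zExp (cls π a₀) (F.ups w₀) A u = false ∧ sExp (cls π a₀) (F.ups w₀) A u = false := by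
    intro A u
    rw [hS]
    exact mem_solSet
  have hmemS : ∀ p : S, InU p.1.1 ∧ InU p.1.2 := fun ⟨(A, u), h⟩ => (hmem.1 h).1
  let g : S → G := fun p => ra ⟨p.1, hmemS p⟩ * rw' ⟨p.1, hmemS p⟩
  have hR : ∀ (i j : Bool) (p : S), ee z s i j * g p ∈
      F.rGrp ⊓ Subgroup.centralizer ({a₀ * w₀} : Set G) := by
    intro i j p
    have hE := F.memE_mem (F.ee_memE i j)
    have hEz := F.data.Q_comm hE.1
    have hEs := F.W_comm_s hE.2
    refine ⟨F.inR_mul ⟨hEz, hEs, fun v _ => by rw [F.data.act_of_mem hE.1]⟩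
      (F.inR_mk (hra _) (hras _) (hrw _) (hrwz _)), Subgroup.mem_centralizer_singleton_iff.2 ?_⟩
    have h1 : g p * (a₀ * w₀) = a₀ * w₀ * g p := (F.commute_RR_iff ha₀ has₀ hw₀ hwz₀ (hra _)
      (hras _) (hrw _) (hrwz _)).2 (by
        rw [hrA, hrU]
        exact (hmem (A := p.1.1) (u := p.1.2)).1 p.2 |>.2)
    have h2 : ee z s i j * (a₀ * w₀) = a₀ * w₀ * ee z s i j :=
      (F.ee_comm i j (Commute.mul_left (F.data.Q_comm ha₀) hwz₀).eq
        (Commute.mul_left has₀ (F.W_comm_s hw₀)).eq).symm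
    exact (Commute.mul_left h2 h1).eq
  let f : S × Bool × Bool → ↥(F.rGrp ⊓ Subgroup.centralizer ({a₀ * w₀} : Set G)) :=
    fun q => ⟨ee z s q.2.1 q.2.2 * g q.1, hR _ _ _⟩
  have hinj : Function.Injective f := by
    rintro ⟨p, i, j⟩ ⟨p', i', j'⟩ h
    have h' : ee z s i j * ra ⟨p.1, hmemS p⟩ * rw' ⟨p.1, hmemS p⟩ =
        ee z s i' j' * ra ⟨p'.1, hmemS p'⟩ * rw' ⟨p'.1, hmemS p'⟩ := by
      rw [mul_assoc, mul_assoc]; exact congrArg Subtype.val h
    have hE := (F.memE_mem (F.ee_memE i j)).1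
    have hE' := (F.memE_mem (F.ee_memE i' j')).1
    obtain ⟨h1, h2⟩ := F.classes_unique (mul_mem hE (hra _)) (hrw _) (hrwz _)
      (mul_mem hE' (hra _)) (hrw _) (hrwz _) h'
    rw [F.cls_mul hE (hra _), F.cls_mul hE' (hra _), F.cls_memE (F.ee_memE i j),
      F.cls_memE (F.ee_memE i' j'), zero_add, zero_add, hrA, hrA] at h1
    rw [hrU, hrU] at h2
    obtain rfl : p = p' := Subtype.ext (Prod.ext h1 h2)
    obtain ⟨e1, e2⟩ := F.ee_mul_inj (mul_right_cancel h')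
    simp [e1, e2]
  have hsurj : Function.Surjective f := by
    rintro ⟨x, hx, hxc⟩
    obtain ⟨a, w, ha, has, hw, hwz, rfl⟩ := F.inR_decomp hx
    obtain ⟨h1, h2⟩ := (F.commute_RR_iff ha₀ has₀ hw₀ hwz₀ ha has hw hwz).1
      (Subgroup.mem_centralizer_singleton_iff.1 hxc)
    have hp : (cls π a, F.ups w) ∈ S := hmem.2 ⟨⟨cls_inU π a, F.ups_inU w⟩, h1, h2⟩
    obtain ⟨r, hr⟩ : ∃ r : {p : V8 × V8 // InU p.1 ∧ InU p.2},
        r = ⟨(cls π a, F.ups w), hmemS ⟨_, hp⟩⟩ := ⟨_, rfl⟩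
    obtain ⟨e, he, heq⟩ := F.eq_memE_mul (hra r) (hras r) (hrw r) (hrwz r)
      ha has hw hwz (by rw [hrA, hr]) (by rw [hrU, hr])
    subst hr
    obtain ⟨i, j, rfl⟩ := exists_ee he
    exact ⟨(⟨_, hp⟩, i, j), Subtype.ext heq.symm⟩
  rw [← Nat.card_congr (Equiv.ofBijective f ⟨hinj, hsurj⟩), Nat.card_prod, Nat.card_prod,
    Nat.card_eq_finsetCard, Nat.card_eq_fintype_card, Fintype.card_bool]

end Frame

end CfsgLib.ConwayType
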