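import Cfsg.Agent.ConwayType.Bits

/-!
# Finite facts for the involutions of the model space
-/

set_option autoImplicit false
set_option maxRecDepth 100000

namespace CfsgLib.ConwayType

/-- The map with the given images of the standard basis. -/
def app8 (l : List V8) (v : V8) : V8 := bitsum l v.bits

theorem IsIso8.app8_code {f : V8 → V8} (hf : IsIso8 f) (v : V8) :
    app8 (basis8.map f) v = f v := by
  rw [app8, bitsum_map hf.add hf.zero, bitsum_basis8]

theorem appU_map {f : V8 → V8} (hadd : ∀ u v, f (u + v) = f u + f v) (h0 : f 0 = 0) (v : V8) :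
    appU (basisU.map f) v = f (pU v) := by
  rw [appU, bitsum_map hadd h0, ← appU, appU_basisU]

theorem bool_ext_bitsum {f g : V8 → Bool} (hf : ∀ u v, f (u + v) = xor (f u) (f v))
    (hg : ∀ u v, g (u + v) = xor (g u) (g v)) :
    ∀ (l : List V8), (∀ x ∈ l, f x = g x) → ∀ n, f (bitsum l n) = g (bitsum l n)
  | [], _, _ => by
    have h1 := hf 0 0
    have h2 := hg 0 0
    rw [add_zero] at h1 h2
    show f 0 = g 0
    cases hf0 : f 0 <;> cases hg0 : g 0 <;> simp_all
  | x :: l, h, n => by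
    have h1 := hf 0 0
    have h2 := hg 0 0
    rw [add_zero] at h1 h2
    have h0 : f 0 = g 0 := by cases hf0 : f 0 <;> cases hg0 : g 0 <;> simp_all
    rw [bitsum, hf, hg, bool_ext_bitsum hf hg l (fun y hy => h y (List.mem_cons_of_mem x hy))]
    congr 1
    split
    · exact h x List.mem_cons_self
    · exact h0

/-- Additive truth valued functions equal on the standard basis are equal. -/
theorem bool_ext8 {f g : V8 → Bool} (hf : ∀ u v, f (u + v) = xor (f u) (f v))
    (hg : ∀ u v, g (u + v) = xor (g u) (g v)) (h : ∀ x ∈ basis8, f x = g x) (v : V8) : f v = g v := by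
  rw [← bitsum_basis8 v]
  exact bool_ext_bitsum hf hg _ h _

/-- A map of the orthogonal of `s0` and `d0`, extended by the identity. -/
def ext8 (l : List V8) : List V8 := s0 :: d0 :: l

/-- Words generating a Sylow `2`-subgroup of the stabilizer of `s0` and `d0`. -/
def tGens : List (List (ℕ × ℕ)) :=
  [[(12, 28)], [(12, 76)], [(12, 92)], [(44, 108)], [(52, 116)], [(192, 196), (208, 212)], [(28, 12)],
    [(76, 12)], [(92, 12)], [(108, 44)], [(116, 52)], [(212, 208), (196, 192)]]

/-- That subgroup, by the images of the basis. -/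
def tList : List (List V8) :=
  ([[84, 8, 16, 104, 64, 152], [20, 72, 16, 104, 64, 132], [20, 72, 16, 40, 64, 148], [84, 8, 16, 40,
    64, 136], [68, 8, 16, 32, 64, 136], [4, 72, 16, 32, 64, 132], [68, 72, 80, 96, 64, 188], [84,
    72, 80, 104, 64, 164], [68, 24, 16, 36, 64, 152], [4, 88, 80, 36, 64, 160], [4, 88, 16, 36, 64,
    132], [68, 24, 80, 36, 64, 188], [4, 88, 16, 100, 64, 148], [20, 8, 80, 40, 64, 168], [68, 24,
    16, 100, 64, 136], [20, 88, 16, 60, 64, 148], [84, 24, 16, 124, 64, 136], [84, 8, 80, 40, 64,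
    160], [20, 72, 80, 40, 64, 188], [20, 88, 16, 124, 64, 132], [68, 88, 80, 100, 64, 168], [4, 24,
    16, 100, 64, 144], [4, 24, 80, 36, 64, 164], [4, 72, 16, 96, 64, 148], [20, 8, 16, 104, 64,
    144], [20, 24, 80, 60, 64, 188], [84, 72, 80, 40, 64, 244], [20, 72, 80, 104, 64, 236], [84, 8,
    80, 104, 64, 240], [4, 72, 80, 32, 64, 164], [20, 8, 80, 104, 64, 248], [84, 24, 16, 60, 64,
    152], [68, 8, 80, 32, 64, 168], [4, 8, 80, 96, 64, 240], [84, 88, 80, 124, 64, 160], [4, 8, 16,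
    96, 64, 144], [4, 24, 80, 100, 64, 244], [68, 24, 80, 100, 64, 236], [84, 72, 16, 40, 64, 220],
    [68, 88, 16, 100, 64, 204], [4, 88, 80, 100, 64, 240], [84, 24, 80, 60, 64, 164], [20, 88, 80,
    124, 64, 248], [68, 88, 80, 36, 64, 248], [68, 8, 16, 96, 64, 152], [84, 72, 16, 104, 64, 204],
    [20, 88, 80, 60, 64, 168], [84, 88, 80, 60, 64, 240], [68, 88, 16, 36, 64, 220], [68, 8, 80, 96,
    64, 248], [4, 8, 80, 32, 64, 160], [20, 24, 16, 124, 64, 144], [20, 8, 16, 40, 64, 128], [84,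
    24, 80, 124, 64, 244], [20, 24, 80, 124, 64, 236], [68, 72, 16, 96, 64, 220], [84, 88, 16, 60,
    64, 204], [4, 24, 16, 36, 64, 128], [4, 72, 80, 96, 64, 244], [68, 72, 80, 32, 64, 236], [84,
    88, 16, 124, 64, 220], [68, 72, 16, 32, 64, 204], [20, 24, 16, 60, 64, 128], [4, 8, 16, 32, 64,
    128]] : List (List ℕ)).map fun l => l.map mk8

theorem tGens_ok : ∀ w ∈ tGens, ∀ p ∈ w, okPair p = true ∧ pr p s0 = s0 := by decide +kernel

theorem tList_chain : chainOK (tGens.map fun w (l : List V8) => l.map (pw w)) basis8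
    (tList.map ext8) = true := by decide +kernel

theorem tList_facts : tList.length = 64 ∧ tList.Nodup ∧ basisU ∈ tList := by decide +kernel

theorem tList_closed : ∀ l ∈ tList, ∀ m ∈ tList, m.map (appU l) ∈ tList := by decide +kernel

theorem tList_inU : ∀ l ∈ tList, l.map pU = l := by decide +kernel

/-- The standard element of rank four. -/
def ell (v : V8) : V8 := v + sm (b8 v (mk8 4)) (mk8 16) + sm (b8 v (mk8 16)) (mk8 4)

theorem ell_add (u v : V8) : ell (u + v) = ell u + ell v := by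
  simp only [ell, b8_add_left, sm_xor]
  abel

theorem ell_iso : IsIso8 ell := ⟨ell_add, by decide +kernel⟩

theorem ell_fix : ell s0 = s0 ∧ ell d0 = d0 ∧ ∀ v : V8, pU (ell v) = ell (pU v) := by decide +kernel

/-- Its images of the basis. -/
def ellCode : List V8 := basisU.map ell

/-- Pairs used for conjugating it. -/
def hgGens : List (ℕ × ℕ) :=
  [(172, 12), (212, 228), (184, 252), (216, 196), (12, 172), (228, 212), (252, 184), (196, 216)]

theorem hgGens_ok : ∀ p ∈ hgGens, okPair p = true ∧ pr p s0 = s0 ∧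
    okPair (p.2, p.1) = true ∧ pr (p.2, p.1) s0 = s0 ∧ ∀ v : V8, pr p (pr (p.2, p.1) v) = v := by
  decide +kernel

/-- Conjugation of a map by a pair. -/
def conjU (p : ℕ × ℕ) (l : List V8) : List V8 :=
  basisU.map fun e => prU p (appU l (prU (p.2, p.1) e))

/-- Conjugates of `ellCode`. -/
def ellClass : List (List V8) :=
  ([[4, 24, 16, 100, 64, 144], [4, 72, 16, 32, 64, 132], [68, 8, 16, 96, 64, 152], [20, 8, 16, 104, 64,
    144], [4, 152, 128, 68, 36, 16], [84, 8, 16, 40, 64, 136], [84, 8, 16, 104, 64, 152], [68, 72,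
    80, 96, 64, 188], [4, 8, 16, 96, 64, 144], [4, 152, 16, 36, 68, 128], [4, 8, 80, 32, 64, 160],
    [4, 88, 16, 36, 64, 132], [4, 88, 16, 100, 64, 148], [160, 96, 220, 32, 40, 36], [68, 8, 16, 32,
    64, 136], [4, 248, 68, 132, 20, 36], [36, 8, 24, 32, 64, 128], [100, 104, 204, 64, 32, 60],
    [128, 64, 16, 32, 8, 4], [4, 72, 80, 32, 64, 164], [4, 40, 148, 32, 96, 128], [68, 8, 80, 32,
    64, 168], [4, 104, 20, 32, 64, 132], [144, 80, 16, 236, 24, 20], [20, 8, 16, 40, 64, 128], [4,
    248, 20, 36, 68, 132], [20, 24, 16, 236, 80, 144], [4, 72, 16, 96, 64, 148], [4, 40, 20, 32, 64,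
    128], [160, 16, 8, 132, 88, 128], [4, 24, 16, 36, 64, 128]] : List (List ℕ)).map fun l => l.map mk8

theorem ellClass_chain : chainOK (hgGens.map conjU) ellCode ellClass = true := by decide +kernel

theorem alt_cases : ∀ l ∈ tList, (∀ e ∈ basisU, appU l (appU l e) = e) →
    (∀ v : V8, InU v → q8 (appU l v + v) = false) → l = basisU ∨ l ∈ ellClass := by
  decide +kernel

/-- The vectors of the orthogonal of `s0` and `d0`. -/
def uVecs : List V8 := (List.range 64).map fun n => mk8 (4 * n)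

theorem mem_uVecs : ∀ v : V8, InU v → v ∈ uVecs := by decide +kernel

theorem exists_axis : ∀ t ∈ tList, ∀ c ∈ uVecs,
    (∀ e ∈ basis8, app8 (ext8 t) (sie c (app8 (ext8 t) (sie c e))) = e) →
    (∀ e ∈ basis8, app8 (ext8 t) (sie c e) = e) ∨
    ∃ k ∈ List.range 256,
      q8 (bitsum (basis8.map fun e => app8 (ext8 t) (sie c e) + e) k) = false ∧
      bitsum (basis8.map fun e => app8 (ext8 t) (sie c e) + e) k ≠ 0 ∧
      ((∀ e ∈ basis8, q8 (app8 (ext8 t) (sie c e) + e) = false) ∨
        ∀ e ∈ basis8, q8 (app8 (ext8 t) (sie c e) + e) =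
          b8 e (bitsum (basis8.map fun e => app8 (ext8 t) (sie c e) + e) k)) := by
  decide +kernel

/-- The vectors `c` for which `ell` times the transformation of `c` reduces to a transformation. -/
def iList : List V8 := [0, 4, 16, 20].map mk8

theorem ell_sie_fixed : ∀ c : V8, InU c → (∀ e ∈ basis8, ell (sie c (ell (sie c e))) = e) →
    ell c = c := by decide +kernel

theorem iList_axis : ∀ c ∈ iList, ∃ w : V8, q8 w = false ∧ w ≠ 0 ∧ ell (sie c w) = w ∧
    ∀ v : V8, b8 v w = false → ell (sie c v) + v = 0 ∨ ell (sie c v) + v = w := by decide +kernel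

theorem ell_sie_image : ∀ c : V8, InU c → ell c = c → c ∉ iList →
    16 ≤ (Finset.univ.image fun v => ell (sie c v) + v).card := by decide +kernel

theorem ell_sie_kernel : ∀ c : V8, InU c → ell c = c →
    16 ≤ (Finset.univ.filter fun v => ell (sie c v) = v).card := by decide +kernel

theorem sie_kernel : ∀ u : V8, InU u →
    16 ≤ (Finset.univ.filter fun v => sie u v = v).card := by decide +kernel

theorem iList_facts : (∀ u : V8, InU u → ell u + u ∈ iList) ∧ (∀ u ∈ iList, InU u ∧ q8 u = false) ∧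
    ∀ u ∈ iList, ∀ v ∈ iList, u + v ∈ iList := by decide +kernel

theorem b8_fixed_pair : ∀ c ∈ uVecs, ∀ c2 ∈ uVecs, ell c = c → ell c2 = c2 → c ∉ iList →
    c2 ∉ iList → c + c2 ∉ iList → b8 c c2 = true := by decide +kernel

/-- A word carrying `ell` to a transformation. -/
def gWord : List (ℕ × ℕ) := [(3, 13), (184, 252), (196, 216), (3, 13), (212, 228), (172, 12), (3, 13)]

theorem gWord_ok : (∀ p ∈ gWord, okPair p = true) ∧
    ∀ v : V8, pw gWord (ell v) = sie (mk8 40) (pw gWord v) := by decide +kernel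

theorem no_transport : ∀ c ∈ uVecs, ∀ c2 ∈ uVecs, ¬ (ell c = c ∧ ell c2 = c2 ∧
    c ∉ iList ∧ c2 ∉ iList ∧ c + c2 ∉ iList ∧ ∃ A ∈ uVecs, q8 A = false ∧ b8 A (mk8 40) = false ∧
    b8 (pU (pw gWord s0)) A = false ∧ b8 (pU (pw gWord c)) A = (!q8 c) ∧
    b8 (pU (pw gWord c2)) A = (!q8 c2)) := by decide +kernel

end CfsgLib.ConwayType
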