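import Mathlib

/-!
# The eight dimensional plus type quadratic space over two elements, on bit masks

Bits `2i`, `2i + 1` span hyperbolic planes.
-/

set_option autoImplicit false

namespace CfsgLib.ConwayType

/-- Eight bit vectors. -/
def V8 : Type := Fin 256
deriving DecidableEq, Fintype

/-- The vector with the given bits. -/
def mk8 (n : ℕ) : V8 := (⟨n % 256, Nat.mod_lt _ (by decide)⟩ : Fin 256)

/-- The bits of a vector. -/
def V8.bits (v : V8) : ℕ := Fin.val v

theorem V8.bits_lt (v : V8) : v.bits < 256 := Fin.isLt v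

theorem V8.ext_bits {u v : V8} (h : u.bits = v.bits) : u = v := Fin.ext h

theorem bits_mk8 {n : ℕ} (h : n < 256) : (mk8 n).bits = n := Nat.mod_eq_of_lt h

instance : Zero V8 := ⟨mk8 0⟩

instance : Add V8 := ⟨fun u v => mk8 (u.bits ^^^ v.bits)⟩

instance : Neg V8 := ⟨id⟩

theorem bits_add (u v : V8) : (u + v).bits = u.bits ^^^ v.bits :=
  Nat.mod_eq_of_lt (Nat.xor_lt_two_pow (n := 8) u.bits_lt v.bits_lt)

theorem add_self8 (v : V8) : v + v = 0 := V8.ext_bits (by rw [bits_add, Nat.xor_self]; rfl)

instance : AddCommGroup V8 where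
  add_assoc u v w := V8.ext_bits (by simp only [bits_add, Nat.xor_assoc])
  zero_add u := V8.ext_bits (by rw [bits_add]; exact Nat.zero_xor _)
  add_zero u := V8.ext_bits (by rw [bits_add]; exact Nat.xor_zero _)
  neg_add_cancel := add_self8
  add_comm u v := V8.ext_bits (by simp only [bits_add, Nat.xor_comm])
  nsmul := nsmulRec
  zsmul := zsmulRec

theorem eq_of_add_eq_zero8 {u v : V8} (h : u + v = 0) : u = v := by
  rw [← add_zero u, ← add_self8 v, ← add_assoc, h, zero_add]

theorem add_add_cancel8 (u v : V8) : u + v + v = u := by rw [add_assoc, add_self8, add_zero]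

/-- The quadratic form: a vector is nonsingular when its bit in the mask is set. -/
def q8 (v : V8) : Bool := Nat.testBit 54518767989058627813427907899653103368520125748912612456443496272599911528584 v.bits

theorem q8_eq : ∀ v : V8, q8 v =
    ((v.bits.testBit 0 && v.bits.testBit 1) ^^ (v.bits.testBit 2 && v.bits.testBit 3) ^^ (v.bits.testBit 4 && v.bits.testBit 5) ^^ (v.bits.testBit 6 && v.bits.testBit 7)) := by
  decide +kernel

/-- The polar form. -/
def b8 (u v : V8) : Bool := xor (xor (q8 (u + v)) (q8 u)) (q8 v)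

/-- Scalar multiples by a truth value. -/
def sm (c : Bool) (v : V8) : V8 := if c then v else 0

theorem q8_add (u v : V8) : q8 (u + v) = xor (xor (q8 u) (q8 v)) (b8 u v) := by
  unfold b8
  cases q8 (u + v) <;> cases q8 u <;> cases q8 v <;> rfl

/-- The polar form in coordinates. -/
theorem b8_eq (u v : V8) : b8 u v =
    ((((u.bits.testBit 0 && v.bits.testBit 1) ^^ (u.bits.testBit 1 && v.bits.testBit 0)) ^^ ((u.bits.testBit 2 && v.bits.testBit 3) ^^ (u.bits.testBit 3 && v.bits.testBit 2))) ^^
      (((u.bits.testBit 4 && v.bits.testBit 5) ^^ (u.bits.testBit 5 && v.bits.testBit 4)) ^^ ((u.bits.testBit 6 && v.bits.testBit 7) ^^ (u.bits.testBit 7 && v.bits.testBit 6)))) := by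
  simp only [b8, q8_eq, bits_add, Nat.testBit_xor]
  have key : ∀ a b c d : Bool, (((a ^^ c) && (b ^^ d)) ^^ (a && b) ^^ (c && d)) =
      ((a && d) ^^ (b && c)) := by decide
  rw [← key (u.bits.testBit 0) (u.bits.testBit 1) (v.bits.testBit 0) (v.bits.testBit 1), ← key (u.bits.testBit 2) (u.bits.testBit 3) (v.bits.testBit 2) (v.bits.testBit 3), ← key (u.bits.testBit 4) (u.bits.testBit 5) (v.bits.testBit 4) (v.bits.testBit 5), ← key (u.bits.testBit 6) (u.bits.testBit 7) (v.bits.testBit 6) (v.bits.testBit 7)]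
  have regroup : ∀ a b c d a₁ b₁ c₁ d₁ a₂ b₂ c₂ d₂ : Bool,
      ((a ^^ b ^^ c ^^ d) ^^ (a₁ ^^ b₁ ^^ c₁ ^^ d₁) ^^ (a₂ ^^ b₂ ^^ c₂ ^^ d₂)) =
        (((a ^^ a₁ ^^ a₂) ^^ (b ^^ b₁ ^^ b₂)) ^^ ((c ^^ c₁ ^^ c₂) ^^ (d ^^ d₁ ^^ d₂))) := by
    intro a b c d a₁ b₁ c₁ d₁ a₂ b₂ c₂ d₂
    simp only [Bool.xor_assoc, Bool.xor_comm, Bool.xor_left_comm]
  exact regroup _ _ _ _ _ _ _ _ _ _ _ _

theorem b8_add_left (u v w : V8) : b8 (u + v) w = xor (b8 u w) (b8 v w) := by
  simp only [b8_eq, bits_add, Nat.testBit_xor, Bool.and_xor_distrib_right]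
  generalize (u.bits.testBit 0 && w.bits.testBit 1) = u0
  generalize (u.bits.testBit 2 && w.bits.testBit 3) = u2
  generalize (u.bits.testBit 4 && w.bits.testBit 5) = u4
  generalize (u.bits.testBit 6 && w.bits.testBit 7) = u6
  generalize (u.bits.testBit 1 && w.bits.testBit 0) = u1
  generalize (u.bits.testBit 3 && w.bits.testBit 2) = u3
  generalize (u.bits.testBit 5 && w.bits.testBit 4) = u5
  generalize (u.bits.testBit 7 && w.bits.testBit 6) = u7
  generalize (v.bits.testBit 0 && w.bits.testBit 1) = v0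
  generalize (v.bits.testBit 2 && w.bits.testBit 3) = v2
  generalize (v.bits.testBit 4 && w.bits.testBit 5) = v4
  generalize (v.bits.testBit 6 && w.bits.testBit 7) = v6
  generalize (v.bits.testBit 1 && w.bits.testBit 0) = v1
  generalize (v.bits.testBit 3 && w.bits.testBit 2) = v3
  generalize (v.bits.testBit 5 && w.bits.testBit 4) = v5
  generalize (v.bits.testBit 7 && w.bits.testBit 6) = v7
  have key : ∀ a b c d : Bool, xor (xor a b) (xor c d) = xor (xor a c) (xor b d) := by decide
  simp only [key]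

theorem b8_comm (u v : V8) : b8 u v = b8 v u := by
  simp only [b8, add_comm u v, Bool.xor_assoc, Bool.xor_comm (q8 u)]

theorem b8_add_right (u v w : V8) : b8 u (v + w) = xor (b8 u v) (b8 u w) := by
  rw [b8_comm, b8_add_left, b8_comm v, b8_comm w]

theorem b8_self : ∀ u : V8, b8 u u = false := by decide +kernel

theorem b8_zero_left : ∀ u : V8, b8 0 u = false := by decide +kernel

theorem b8_sm_left (c : Bool) (v w : V8) : b8 (sm c v) w = (c && b8 v w) := by
  cases c <;> simp [sm, b8_zero_left]

theorem b8_sm_right (c : Bool) (v w : V8) : b8 v (sm c w) = (c && b8 v w) := by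
  rw [b8_comm, b8_sm_left, b8_comm w]

theorem sm_xor (c d : Bool) (v : V8) : sm (xor c d) v = sm c v + sm d v := by
  cases c <;> cases d <;> simp [sm, add_self8]

/-- Reflection. -/
def rf (a v : V8) : V8 := if b8 v a then v + a else v

/-- A product of two reflections. -/
def pr (p : ℕ × ℕ) (v : V8) : V8 := rf (mk8 p.1) (rf (mk8 p.2) v)

/-- A word in products of two reflections. -/
def pw : List (ℕ × ℕ) → V8 → V8
  | [], v => v
  | p :: l, v => pr p (pw l v)

/-- Both vectors of a pair are nonsingular. -/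
def okPair (p : ℕ × ℕ) : Bool := q8 (mk8 p.1) && q8 (mk8 p.2)

/-- The standard singular vector. -/
def s0 : V8 := mk8 1

/-- Its partner. -/
def d0 : V8 := mk8 2

theorem q8_s0 : q8 s0 = false := by decide

theorem s0_ne_zero : s0 ≠ 0 := by decide

theorem b8_s0_d0 : b8 s0 d0 = true := by decide

/-- Projection to the orthogonal of `s0` and `d0`. -/
def pU (v : V8) : V8 := mk8 (v.bits &&& 252)

/-- Membership of that orthogonal. -/
abbrev InU (v : V8) : Prop := pU v = v

theorem pU_add (u v : V8) : pU (u + v) = pU u + pU v := by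
  refine V8.ext_bits ?_
  have h : ∀ w : V8, (pU w).bits = w.bits &&& 252 := fun w =>
    bits_mk8 (lt_of_le_of_lt Nat.and_le_left w.bits_lt)
  rw [bits_add, h, h, h, bits_add, Nat.and_xor_distrib_right]

theorem pU_pU : ∀ v : V8, pU (pU v) = pU v := by decide +kernel

theorem pU_eq_zero : ∀ v : V8, pU v = 0 → b8 v s0 = false → v = 0 ∨ v = s0 := by decide +kernel

theorem eq_pU_add : ∀ v : V8, b8 v s0 = false → v = pU v ∨ v = pU v + s0 := by decide +kernel

theorem q8_pU : ∀ v : V8, b8 v s0 = false → q8 (pU v) = q8 v := by decide +kernel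

theorem inU_orth : ∀ u : V8, InU u → b8 u s0 = false ∧ b8 u d0 = false := by decide +kernel

theorem pU_s0 : pU s0 = 0 := by decide

theorem pU_d0 : pU d0 = 0 := by decide

theorem b8_pU {v w : V8} (hv : b8 v s0 = false) (hw : b8 w s0 = false) :
    b8 (pU v) (pU w) = b8 v w := by
  have hs : b8 s0 s0 = false := b8_self _
  have h1 : b8 (pU v) s0 = false := (inU_orth _ (pU_pU v)).1
  have h2 : b8 s0 (pU w) = false := by rw [b8_comm]; exact (inU_orth _ (pU_pU w)).1
  rcases eq_pU_add v hv with e | e <;> rcases eq_pU_add w hw with f | f <;>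
    (conv_rhs => rw [e, f]) <;> simp [b8_add_left, b8_add_right, hs, h1, h2]

/-- Projection of `b8` against a vector of the orthogonal. -/
theorem b8_pU_left {v u : V8} (hv : b8 v s0 = false) (hu : InU u) : b8 (pU v) u = b8 v u := by
  conv_lhs => rw [← hu]
  exact b8_pU hv (inU_orth u hu).1

theorem inU_add {u v : V8} (hu : InU u) (hv : InU v) : InU (u + v) := by
  show pU (u + v) = u + v
  rw [pU_add, hu, hv]

/-- The Siegel transformation fixing `s0`. -/
def sie (u v : V8) : V8 := v + sm (b8 v s0) (u + sm (q8 u) s0) + sm (b8 v u) s0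

theorem sie_zero : ∀ v : V8, sie 0 v = v := by decide +kernel

theorem sie_add_orth (u v : V8) (hv : b8 v s0 = false) : sie u v + v = sm (b8 v u) s0 := by
  rw [sie, hv]
  show v + 0 + sm (b8 v u) s0 + v = _
  rw [add_zero, add_right_comm, add_self8, zero_add]

theorem pU_sm (c : Bool) (v : V8) : pU (sm c v) = sm c (pU v) := by
  cases c
  · show pU 0 = 0
    decide
  · rfl

theorem pU_sie (u v : V8) (hu : InU u) : pU (sie u v + v) = sm (b8 v s0) u := by
  have h : sie u v + v = sm (b8 v s0) (u + sm (q8 u) s0) + sm (b8 v u) s0 := by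
    rw [sie]
    calc v + sm (b8 v s0) (u + sm (q8 u) s0) + sm (b8 v u) s0 + v
        = sm (b8 v s0) (u + sm (q8 u) s0) + sm (b8 v u) s0 + (v + v) := by abel
      _ = _ := by rw [add_self8, add_zero]
  rw [h, pU_add, pU_sm, pU_sm, pU_add, pU_sm, pU_s0, hu]
  cases b8 v s0 <;> cases b8 v u <;> cases q8 u <;> simp [sm]

theorem sie_two (u : V8) (hu : InU u) : pU (sie u d0) = u := by
  have h := pU_sie u d0 hu
  rw [pU_add, pU_d0, add_zero, show b8 d0 s0 = true from by decide] at h
  exact h

theorem sie_diag (u : V8) (hu : InU u) (v : V8) (hv : b8 v s0 = true) :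
    pU (sie u v + v) = u := by
  rw [pU_sie u v hu, hv]; rfl

theorem sie_sie_two (u : V8) (hu : InU u) (w : V8) (hw : InU w) :
    pU (sie u (sie w d0)) = u + w := by
  have h1 : b8 (sie w d0) s0 = true := by
    have : ∀ x : V8, InU x → b8 (sie x d0) s0 = true := by decide +kernel
    exact this w hw
  have h := pU_sie u (sie w d0) hu
  rw [pU_add, sie_two w hw, h1] at h
  rw [← add_add_cancel8 (pU (sie u (sie w d0))) w, h]
  rfl

theorem sie_moves (u : V8) (hu : InU u) (hu0 : u ≠ 0) (v : V8)
    (h : sie u v + v = 0 ∨ sie u v + v = s0) : b8 v s0 = false := by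
  cases hv : b8 v s0
  · rfl
  · exfalso
    apply hu0
    rw [← sie_diag u hu v hv]
    rcases h with e | e <;> rw [e]
    · decide
    · exact pU_s0

theorem sie_fixed {u v : V8} (hv : b8 v s0 = false) (h : b8 v u = false) : sie u v = v := by
  simp [sie, hv, h, sm]

theorem d0_image : ∀ y : V8, q8 y = false → b8 y s0 = true →
    y = d0 + pU y + sm (q8 (pU y)) s0 := by decide +kernel

/-- Additive maps preserving the form. -/
structure IsIso8 (f : V8 → V8) : Prop where
  add : ∀ u v, f (u + v) = f u + f v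
  quad : ∀ v, q8 (f v) = q8 v

namespace IsIso8

variable {f : V8 → V8} (hf : IsIso8 f)
include hf

theorem zero : f 0 = 0 := by
  have h := hf.add 0 0
  rw [add_zero] at h
  exact left_eq_add.1 h

theorem polar (u v : V8) : b8 (f u) (f v) = b8 u v := by
  simp only [b8, ← hf.add, hf.quad]

theorem map_sm (c : Bool) (v : V8) : f (sm c v) = sm c (f v) := by
  cases c <;> simp [sm, hf.zero]

theorem orth_s0 (hs : f s0 = s0) {v : V8} (hv : b8 v s0 = false) : b8 (f v) s0 = false := by
  rw [← hs, hf.polar]; exact hv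

/-- An isometry fixing `s0` and inducing the identity on its orthogonal modulo `s0`. -/
theorem eq_sie (hs : f s0 = s0) (hx : ∀ x, b8 x s0 = false → f x + x = 0 ∨ f x + x = s0) (v : V8) :
    f v = sie (pU (f d0)) v := by
  set y := f d0 with hy
  set u := pU y with hu
  have hy2 : y = d0 + u + sm (q8 u) s0 := d0_image y (by rw [hy, hf.quad]; decide)
    (by rw [hy, ← hs, hf.polar]; decide)
  have huo := inU_orth u (by rw [hu]; exact pU_pU y)
  -- the action on the orthogonal of `s0`
  have key : ∀ x, b8 x s0 = false → f x = x + sm (b8 x u) s0 := by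
    intro x hxs
    have h1 : b8 (f x) y = b8 x d0 := hf.polar x d0
    rcases hx x hxs with e | e
    · have e' := eq_of_add_eq_zero8 e
      rw [e', hy2, b8_add_right, b8_add_right, b8_sm_right, hxs, Bool.and_false, Bool.xor_false] at h1
      have : b8 x u = false := by
        cases hxu : b8 x u
        · rfl
        · rw [hxu] at h1; simp at h1
      rw [e', this]; simp [sm]
    · have e' : f x = x + s0 := by rw [← add_add_cancel8 (f x) x, e, add_comm]
      have hd : b8 s0 y = true := by rw [hy, ← hs, hf.polar]; exact b8_s0_d0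
      rw [e', b8_add_left, hd, hy2, b8_add_right, b8_add_right, b8_sm_right, hxs,
        Bool.and_false, Bool.xor_false] at h1
      have : b8 x u = true := by
        cases hxu : b8 x u
        · rw [hxu] at h1; simp at h1
        · rfl
      rw [e', this]; simp [sm]
  cases hv : b8 v s0
  · rw [key v hv, sie, hv]; simp [sm]
  · have hxs : b8 (v + d0) s0 = false := by rw [b8_add_left, hv]; decide
    have h := key _ hxs
    have hb : b8 (v + d0) u = b8 v u := by rw [b8_add_left, b8_comm d0 u, huo.2, Bool.xor_false]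
    rw [hb, hf.add, ← hy] at h
    rw [sie, hv]
    have e1 : f v = f v + y + y := (add_add_cancel8 _ _).symm
    rw [e1, h, hy2, show sm true (u + sm (q8 u) s0) = u + sm (q8 u) s0 from rfl]
    calc v + d0 + sm (b8 v u) s0 + (d0 + u + sm (q8 u) s0)
        = v + (u + sm (q8 u) s0) + sm (b8 v u) s0 + (d0 + d0) := by abel
      _ = v + (u + sm (q8 u) s0) + sm (b8 v u) s0 := by rw [add_self8, add_zero]

theorem b8_pU_map (hs : f s0 = s0) {u v : V8} (hu : b8 u s0 = false) (hv : b8 v s0 = false) :
    b8 (pU (f u)) (pU (f v)) = b8 u v := by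
  rw [b8_pU (hf.orth_s0 hs hu) (hf.orth_s0 hs hv), hf.polar]

theorem q8_pU_map (hs : f s0 = s0) {u : V8} (hu : b8 u s0 = false) : q8 (pU (f u)) = q8 u := by
  rw [q8_pU _ (hf.orth_s0 hs hu), hf.quad]

theorem pU_map_pU (hs : f s0 = s0) {v : V8} (hv : b8 v s0 = false) :
    pU (f (pU v)) = pU (f v) := by
  rcases eq_pU_add v hv with e | e
  · rw [← e]
  · conv_rhs => rw [e, hf.add, hs, pU_add, show pU s0 = 0 from by decide, add_zero]

/-- Conjugation of Siegel transformations. -/
theorem conj_sie (hs : f s0 = s0) {u : V8} (hu : InU u) (v : V8) :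
    f (sie u v) = sie (pU (f u)) (f v) := by
  have huo := (inU_orth u hu).1
  have hq : q8 (pU (f u)) = q8 u := hf.q8_pU_map hs huo
  have h1 : b8 (f v) s0 = b8 v s0 := by
    conv_lhs => rw [← hs, hf.polar]
  have hfu := hf.orth_s0 hs huo
  unfold sie
  simp only [hf.add, hf.map_sm, hs, h1, hq]
  rcases eq_pU_add (f u) hfu with e | e
  · rw [← e, hf.polar]
  · have h2 : b8 (f v) (pU (f u)) = xor (b8 v u) (b8 v s0) := by
      have h3 : pU (f u) = f u + s0 := by conv_rhs => rw [e, add_add_cancel8]
      rw [h3, b8_add_right, hf.polar, h1]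
    rw [h2, sm_xor]
    conv_lhs => rw [e]
    cases b8 v s0
    · simp [sm]
    · simp only [sm, if_true]
      abel

end IsIso8

/-- Each entry is the image of a later one under one of the maps. -/
def chainOK {α : Type*} [DecidableEq α] (gs : List (α → α)) (x₀ : α) : List α → Bool
  | [] => true
  | x :: l => (decide (x = x₀) || gs.any fun g => l.any fun y => decide (g y = x)) && chainOK gs x₀ l

theorem chainOK_prop {α : Type*} [DecidableEq α] {gs : List (α → α)} {x₀ : α} {P : α → Prop}
    (h0 : P x₀) (hg : ∀ g ∈ gs, ∀ x, P x → P (g x)) :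
    ∀ l : List α, chainOK gs x₀ l = true → ∀ x ∈ l, P x
  | [], _, x, hx => absurd hx List.not_mem_nil
  | y :: l, h, x, hx => by
      simp only [chainOK, Bool.and_eq_true, Bool.or_eq_true, decide_eq_true_eq, List.any_eq_true] at h
      have ih := chainOK_prop h0 hg l h.2
      rcases List.mem_cons.1 hx with rfl | hx
      · rcases h.1 with e | ⟨g, hgm, y', hy', e⟩
        · exact e ▸ h0
        · exact e ▸ hg g hgm y' (ih y' hy')
      · exact ih x hx

/-- Generators of the stabilizer of `s0` and `d0`. -/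
def hsGens : List (ℕ × ℕ) := [(172, 12), (212, 228), (184, 252), (216, 196)]

/-- One more pair, moving `s0`. -/
def allGens : List (ℕ × ℕ) := (3, 13) :: hsGens

/-- Pairs used to single out a vector by its stabilizer. -/
def stabPairs : List (ℕ × ℕ) :=
  [(12, 28), (44, 52), (48, 56), (76, 108), (92, 116), (140, 176), (172, 184), (192, 196), (156,
    224), (112, 208), (120, 180), (216, 252), (116, 200), (92, 212), (12, 228), (44, 184),
    (48, 212), (12, 92), (48, 176)]

theorem allGens_ok : ∀ p ∈ allGens, okPair p = true := by decide +kernel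

theorem hsGens_ok : ∀ p ∈ hsGens, okPair p = true ∧ pr p s0 = s0 := by decide +kernel

theorem stabPairs_ok : ∀ p ∈ stabPairs, okPair p = true ∧ pr p s0 = s0 := by decide +kernel

/-- The singular vectors, in the order they are reached from `s0`. -/
def singList : List V8 :=
  ([96, 204, 160, 24, 32, 128, 22, 132, 220, 138, 80, 40, 36, 38, 42, 144, 240, 68, 74, 242, 236,
    124, 164, 64, 6, 66, 170, 20, 26, 238, 8, 16, 84, 100, 21, 4, 60, 188, 88, 190, 90, 162,
    106, 10, 86, 206, 137, 152, 150, 37, 136, 41, 134, 146, 73, 72, 70, 241, 98, 5, 168, 65,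
    169, 148, 166, 154, 25, 222, 237, 79, 18, 189, 89, 244, 161, 105, 104, 9, 85, 248, 250,
    102, 246, 205, 149, 82, 175, 133, 145, 62, 69, 130, 255, 97, 165, 153, 126, 221, 227, 179,
    17, 249, 101, 245, 34, 195, 81, 159, 61, 119, 129, 59, 111, 55, 125, 211, 31, 33, 123, 95,
    51, 215, 143, 199, 115, 187, 47, 219, 231, 203, 183, 235, 15, 2, 1] : List ℕ).map mk8

theorem singList_facts : chainOK (allGens.map pr) s0 singList = true ∧
    ∀ v : V8, q8 v = false → v ≠ 0 → v ∈ singList := by decide +kernel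

/-- The map induced on the orthogonal of `s0` and `d0`. -/
def prU (p : ℕ × ℕ) (v : V8) : V8 := pU (pr p v)

/-- The singular vectors of that space. -/
def uSingList : List V8 :=
  ([16, 84, 32, 144, 72, 68, 40, 188, 100, 160, 20, 244, 60, 36, 240, 168, 124, 80, 204, 128,
    248, 136, 104, 24, 152, 8, 132, 236, 96, 88, 148, 220, 64, 164, 4] : List ℕ).map mk8

theorem uSingList_facts : chainOK (hsGens.map prU) (mk8 4) uSingList = true ∧
    ∀ v : V8, InU v → q8 v = false → v ≠ 0 → v ∈ uSingList := by decide +kernel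

/-- The nonsingular vectors of that space. -/
def uNsList : List V8 :=
  ([76, 172, 252, 224, 176, 192, 156, 116, 56, 108, 52, 208, 28, 120, 92, 48, 212, 140, 196, 112,
    184, 44, 216, 228, 200, 180, 232, 12] : List ℕ).map mk8

theorem uNsList_facts : chainOK (hsGens.map prU) (mk8 12) uNsList = true ∧
    ∀ v : V8, InU v → q8 v = true → v ∈ uNsList := by decide +kernel

/-- The standard totally singular pair. -/
def aT : V8 := mk8 16

/-- The standard totally singular pair. -/
def uT : V8 := mk8 64

/-- The standard anisotropic pair. -/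
def aN : V8 := mk8 12

/-- The standard anisotropic pair. -/
def uN : V8 := mk8 52

/-- Pairs fixing `aT`. -/
def tsGens : List (ℕ × ℕ) := [(12, 196), (28, 140), (12, 76)]

/-- The partners of `aT`. -/
def tsList : List V8 := ([152, 144, 80, 84, 72, 68, 148, 8, 88, 220, 20, 128, 4, 24, 132, 204, 136, 64] : List ℕ).map mk8

/-- Pairs fixing `aN`. -/
def anGens : List (ℕ × ℕ) := [(28, 224), (12, 44), (76, 92)]

/-- The partners of `aN`. -/
def anList : List V8 := ([184, 228, 180, 216, 116, 196, 232, 212, 120, 56, 200, 52] : List ℕ).map mk8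

theorem tsList_facts : chainOK (tsGens.map prU) uT tsList = true ∧
    (∀ p ∈ tsGens, okPair p = true ∧ pr p s0 = s0 ∧ prU p aT = aT) ∧
    ∀ v : V8, InU v → q8 v = false → v ≠ 0 → v ≠ aT → b8 aT v = false → v ∈ tsList := by
  decide +kernel

theorem anList_facts : chainOK (anGens.map prU) uN anList = true ∧
    (∀ p ∈ anGens, okPair p = true ∧ pr p s0 = s0 ∧ prU p aN = aN) ∧
    ∀ v : V8, InU v → q8 v = true → b8 aN v = true → v ∈ anList := by
  decide +kernel

theorem std_TS : InU aT ∧ InU uT ∧ q8 aT = false ∧ q8 uT = false ∧ b8 aT uT = false ∧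
    aT ≠ 0 ∧ uT ≠ 0 ∧ aT ≠ uT := by decide

theorem std_AN : InU aN ∧ InU uN ∧ q8 aN = true ∧ q8 uN = true ∧ b8 aN uN = true ∧
    aN ≠ 0 ∧ uN ≠ 0 ∧ aN ≠ uN := by decide

theorem fuse_TS : ∀ i j : Bool, ∃ v : V8, InU v ∧ b8 v aT = i ∧ b8 v uT = j := by decide +kernel

theorem fuse_AN : ∀ i j : Bool, ∃ v : V8, InU v ∧ b8 v aN = i ∧ b8 v uN = j := by decide +kernel

theorem eq_zero_of_orth : ∀ a : V8, InU a → (∀ k ∈ [4, 8, 16, 32, 64, 128],
    b8 (mk8 k) a = false) → a = 0 := by decide +kernel

theorem inU_basis : ∀ k ∈ [4, 8, 16, 32, 64, 128], InU (mk8 k) := by decide +kernel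

theorem eq_of_stab : ∀ u : V8, InU u → ∀ m : V8, InU m →
    (∀ p ∈ stabPairs, prU p u = u → prU p m = m) → m = 0 ∨ m = u := by decide +kernel

theorem moved_by_gens : ∀ e : V8, q8 e = false → b8 e s0 = false → e ≠ 0 → e ≠ s0 →
    ∃ p ∈ hsGens ++ stabPairs, b8 e (pr p e) = true := by decide +kernel

theorem card_U : Fintype.card {v : V8 // InU v} = 64 := by decide +kernel

theorem card_orth_s0 : Fintype.card ({v : V8 // b8 v s0 = false} × Bool) = 256 := by decide +kernel

/-- Combination of the list entries selected by bits. -/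
def bitsum : List V8 → ℕ → V8
  | [], _ => 0
  | x :: l, n => (if n % 2 = 1 then x else 0) + bitsum l (n / 2)

theorem bitsum_map {f : V8 → V8} (hadd : ∀ u v, f (u + v) = f u + f v) (h0 : f 0 = 0) :
    ∀ (l : List V8) (n : ℕ), bitsum (l.map f) n = f (bitsum l n)
  | [], _ => h0.symm
  | x :: l, n => by
    simp only [List.map_cons, bitsum, bitsum_map hadd h0 l, hadd]
    split <;> simp [h0]

/-- The standard basis. -/
def basis8 : List V8 := [1, 2, 4, 8, 16, 32, 64, 128].map mk8

theorem bitsum_basis8 : ∀ v : V8, bitsum basis8 v.bits = v := by decide +kernel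

theorem IsIso8.ext_basis {f g : V8 → V8} (hf : IsIso8 f) (hg : IsIso8 g)
    (h : basis8.map f = basis8.map g) (v : V8) : f v = g v := by
  rw [← bitsum_basis8 v, ← bitsum_map hf.add hf.zero, ← bitsum_map hg.add hg.zero, h]

/-- The standard basis of the orthogonal of `s0` and `d0`. -/
def basisU : List V8 := [4, 8, 16, 32, 64, 128].map mk8

/-- The map of that space with the given images of its basis. -/
def appU (l : List V8) (v : V8) : V8 := bitsum l (v.bits / 4)

theorem appU_basisU : ∀ v : V8, appU basisU v = pU v := by decide +kernel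

end CfsgLib.ConwayType
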