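import Cfsg.Agent.ConwayType.Bits

/-!
# Finite facts used to separate the classes
-/

set_option autoImplicit false
set_option maxRecDepth 100000

namespace CfsgLib.ConwayType

/-- Vectors orthogonal to `s0`, `aT` and `uT`. -/
def fixT : List V8 := [1, 4, 8, 16, 64].map mk8

/-- Vectors orthogonal to `s0`, `aN` and `uN`. -/
def fixN : List V8 := [1, 48, 28, 64, 128].map mk8

/-- The vectors that could be the image of `e` under an isometry fixing a list. -/
def candOf (L : List V8) (e : V8) : List V8 :=
  ((List.range 256).map mk8).filter fun y => q8 y == q8 e && L.all fun l => b8 y l == b8 e l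

/-- The possible images of three vectors. -/
def cand3 (L : List V8) (e₁ e₂ e₃ : V8) : List (V8 × V8 × V8) :=
  (candOf L e₁).flatMap fun y₁ =>
    ((candOf L e₂).filter fun y₂ => b8 y₂ y₁ == b8 e₂ e₁).flatMap fun y₂ =>
      ((candOf L e₃).filter fun y₃ => b8 y₃ y₁ == b8 e₃ e₁ && b8 y₃ y₂ == b8 e₃ e₂).map
        fun y₃ => (y₁, y₂, y₃)

theorem mem_range_mk8 : ∀ v : V8, v ∈ (List.range 256).map mk8 := by decide +kernel

theorem fixT_facts : (∀ v ∈ fixT, b8 v s0 = false ∧ b8 v aT = false ∧ b8 v uT = false) ∧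
    (cand3 fixT (mk8 2) (mk8 32) (mk8 128)).length = 8 ∧
    ∀ v : V8, ∃ k ∈ List.range 256, bitsum (fixT ++ [mk8 2, mk8 32, mk8 128]) k = v := by
  decide +kernel

theorem fixN_facts : (∀ v ∈ fixN, b8 v s0 = false ∧ b8 v aN = false ∧ b8 v uN = false) ∧
    (cand3 fixN (mk8 2) (mk8 4) (mk8 16)).length ≤ 24 ∧
    ∀ v : V8, ∃ k ∈ List.range 256, bitsum (fixN ++ [mk8 2, mk8 4, mk8 16]) k = v := by
  decide +kernel

theorem pr_fixN : okPair (12, 52) = true ∧ (∀ v ∈ fixN, pr (12, 52) v = v) ∧
    (∃ v : V8, pr (12, 52) v ≠ v) ∧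
    ∀ v : V8, pr (12, 52) (pr (12, 52) (pr (12, 52) v)) = v := by decide +kernel

theorem fixed_pair_T : InU (mk8 4) ∧ b8 aT (mk8 4) = false ∧ b8 uT (mk8 4) = false := by decide

/-- The exponent of `z` in a commutator of two elements with given classes. -/
def zExp (A u A' u' : V8) : Bool := xor (xor (b8 A u') (b8 A' A)) (b8 A' u)

/-- The exponent of `s` in a commutator of two elements with given classes. -/
def sExp (A u A' u' : V8) : Bool := xor (xor (b8 A u') (b8 u' u)) (b8 A' u)

/-- The vectors of the orthogonal of `s0` and `d0`. -/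
def uAll : List V8 := (List.range 64).map fun n => mk8 (4 * n)

theorem mem_uAll : ∀ v : V8, InU v → v ∈ uAll := by decide +kernel

/-- Classes of the elements commuting with the one of classes `A`, `u`. -/
def solSet (A u : V8) : Finset (V8 × V8) :=
  ((Finset.univ.filter fun v : V8 => InU v) ×ˢ (Finset.univ.filter fun v : V8 => InU v)).filter
    fun p => zExp A u p.1 p.2 = false ∧ sExp A u p.1 p.2 = false

theorem mem_solSet {A u A' u' : V8} :
    (A', u') ∈ solSet A u ↔ (InU A' ∧ InU u') ∧ zExp A u A' u' = false ∧ sExp A u A' u' = false := by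
  simp [solSet]

theorem card_solN : (solSet aN uN).card = 1024 := by decide +kernel

theorem card_solT : (solSet aT uT).card = 1024 := by decide +kernel

theorem solN_fst : ∀ A ∈ uAll, ∃ u ∈ uAll, zExp aN uN A u = false ∧ sExp aN uN A u = false := by
  decide +kernel

/-- A few of the classes commuting with the standard anisotropic pair. -/
def solGens : List (V8 × V8) :=
  [(0, mk8 28), (0, mk8 44), (0, mk8 64), (0, mk8 128), (mk8 4, mk8 8)]

theorem solGens_all : (solGens.all fun p => decide (InU p.1 ∧ InU p.2 ∧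
    zExp aN uN p.1 p.2 = false ∧ sExp aN uN p.1 p.2 = false)) = true := by decide +kernel

theorem solGens_mem : ∀ p ∈ solGens, InU p.1 ∧ InU p.2 ∧ zExp aN uN p.1 p.2 = false ∧
    sExp aN uN p.1 p.2 = false := fun p hp =>
  of_decide_eq_true (List.all_eq_true.1 solGens_all p hp)

theorem central_all : (uAll.all fun A => uAll.all fun u =>
    !(solGens.all fun p => !zExp p.1 p.2 A u && !sExp p.1 p.2 A u) ||
      decide ((A = 0 ∧ u = 0) ∨ (q8 A = true ∧ q8 u = true ∧ b8 A u = true))) = true := by
  decide +kernel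

theorem central_types (A : V8) (hA : A ∈ uAll) (u : V8) (hu : u ∈ uAll)
    (h : ∀ p ∈ solGens, zExp p.1 p.2 A u = false ∧ sExp p.1 p.2 A u = false) :
    (A = 0 ∧ u = 0) ∨ (q8 A = true ∧ q8 u = true ∧ b8 A u = true) := by
  have h1 := List.all_eq_true.1 (List.all_eq_true.1 central_all A hA) u hu
  have h2 : (solGens.all fun p => !zExp p.1 p.2 A u && !sExp p.1 p.2 A u) = true :=
    List.all_eq_true.2 fun p hp => by simp [(h p hp).1, (h p hp).2]
  rw [h2] at h1
  simpa using h1

/-- The pair exchanging the two classes needed for the swap of `s` and `z * s`. -/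
def swapPair : ℕ × ℕ := (28, 52)

theorem swap_facts : okPair swapPair = true ∧ pr swapPair s0 = s0 ∧
    prU swapPair (aN + uN) = aN ∧ prU swapPair uN = uN := by decide +kernel

theorem sieN_image : ∀ v : V8, q8 (sie uN v + v) = false → sie uN v + v = 0 ∨ sie uN v + v = s0 := by
  decide +kernel

theorem sieN_s0 : ∃ e : V8, sie uN e + e = s0 := by decide +kernel

/-- The vectors of the orthogonal of `s0` and `d0` that could be the image of `e` under an isometry
fixing `aN` and `uN`. -/
def candU (e : V8) : List V8 :=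
  uAll.filter fun y => q8 y == q8 e && b8 y aN == b8 e aN && b8 y uN == b8 e uN

/-- The possible images of `4`, `16`, `64` and `128`. -/
def cand4 : List (V8 × V8 × V8 × V8) :=
  (candU (mk8 4)).flatMap fun a =>
    ((candU (mk8 16)).filter fun b => b8 b a == b8 (mk8 16) (mk8 4)).flatMap fun b =>
      ((candU (mk8 64)).filter fun c =>
          b8 c a == b8 (mk8 64) (mk8 4) && b8 c b == b8 (mk8 64) (mk8 16)).flatMap fun c =>
        ((candU (mk8 128)).filter fun d => b8 d a == b8 (mk8 128) (mk8 4) &&
            b8 d b == b8 (mk8 128) (mk8 16) && b8 d c == b8 (mk8 128) (mk8 64)).map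
          fun d => (a, b, c, d)

theorem cand4_card : cand4.length ≤ 120 := by decide +kernel

theorem spanU : ∀ v : V8, InU v → ∃ k ∈ List.range 64,
    bitsum [aN, uN, mk8 4, mk8 16, mk8 64, mk8 128] k = v := by decide +kernel

/-- A word inducing an element of order three on the classes. -/
def ord3 : List (ℕ × ℕ) := [(28, 44)]

/-- A word inducing an element of order five on the classes. -/
def ord5 : List (ℕ × ℕ) := [(28, 44), (92, 156)]

theorem ord3_facts : (∀ p ∈ ord3, okPair p = true ∧ pr p s0 = s0) ∧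
    pU (pw ord3 aN) = aN ∧ pU (pw ord3 uN) = uN ∧
    (∃ v : V8, InU v ∧ pU (pw ord3 v) ≠ v) ∧
    ∀ v : V8, InU v → pU (pw ord3 (pU (pw ord3 (pU (pw ord3 v))))) = v := by decide +kernel

theorem ord5_facts : (∀ p ∈ ord5, okPair p = true ∧ pr p s0 = s0) ∧
    pU (pw ord5 aN) = aN ∧ pU (pw ord5 uN) = uN ∧
    (∃ v : V8, InU v ∧ pU (pw ord5 v) ≠ v) ∧
    ∀ v : V8, InU v →
      pU (pw ord5 (pU (pw ord5 (pU (pw ord5 (pU (pw ord5 (pU (pw ord5 v))))))))) = v := by
  decide +kernel

end CfsgLib.ConwayType
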