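import Cfsg.Agent.ConwayType.Reduction

/-!
# The involutions of `C_Q(s) C_P(z)`
-/

set_option autoImplicit false

namespace CfsgLib.ConwayType

open CfsgLib.LargeExtraspecial

namespace Frame

variable {G : Type*} [Group G] [Finite G] {z s : G} {Q P : Subgroup G} {π : G → V8}
  (F : Frame z Q π P s)
include F

/-- The type of `a * w`: an involution exactly when both norms equal the scalar product. -/
theorem sq_iff {a w : G} (ha : a ∈ Q) (has : a * s = s * a) (hw : w ∈ P) (hwz : w * z = z * w) :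
    a * w * (a * w) = 1 ↔ q8 (cls π a) = b8 (cls π a) (F.ups w) ∧
      q8 (F.ups w) = b8 (cls π a) (F.ups w) := by
  obtain ⟨hz1, hs1, hzs, hzs1, hzsz, hzss⟩ := F.zs_facts
  have hc := F.comm_formula ha has hw hwz
  have hw2 := F.sq_formula hw hwz
  have ha2 : a * a = if q8 (cls π a) then z else 1 := by
    have h := F.data.sq a ha
    rw [← q8_pU _ ((F.comm_s_iff ha).1 has)] at h
    rcases F.data.sub.sq_eq ha with e | e
    · have h' : q8 (cls π a) = false := h.1 e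
      rw [e, h']; rfl
    · rw [e] at h
      cases hq : q8 (cls π a)
      · exact absurd (h.2 hq) hz1
      · exact e
  have hzz := F.data.sub.mul_self
  have hss := F.s_mul_self
  have hsz := F.s_comm
  have key : a * w * (a * w) = a * ((w * a * w⁻¹) * (w * w)) := by group
  have hza : a * z = z * a := F.data.Q_comm ha
  have e1 : a * (z * s * a) = z * s * (a * a) := by
    rw [← mul_assoc, ← mul_assoc, hza, mul_assoc z a s, has, ← mul_assoc, mul_assoc (z * s) a a]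
  have hzzs : z * (z * s) = s := by rw [← mul_assoc, hzz, one_mul]
  have hzsz' : z * s * z = s := by rw [mul_assoc, hsz, hzzs]
  rw [key, hc, hw2]
  cases hb : b8 (cls π a) (F.ups w) <;> cases hqa : q8 (cls π a) <;>
    cases hqu : q8 (F.ups w) <;> rw [hqa] at ha2 <;>
    simp only [Bool.false_eq_true, if_true, if_false, one_mul, mul_one] at ha2 ⊢
  · simp [ha2]
  · rw [← mul_assoc, ha2, one_mul]; simp [hs1]
  · simp [ha2, hz1]
  · rw [← mul_assoc, ha2]; simp [hzs1]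
  · rw [e1, ha2, mul_one]; simp [hzs1]
  · rw [← mul_assoc, e1, ha2, mul_one, mul_assoc, hss, mul_one]; simp [hz1]
  · rw [e1, ha2, hzsz']; simp [hs1]
  · rw [← mul_assoc, e1, ha2, hzsz', hss]; simp

omit [Finite G] in
theorem exists_not_comm : ∃ q ∈ Q, q * z = z * q ∧ q * s * q⁻¹ = z * s ∧
    q⁻¹ * s * q = z * s ∧ b8 (π q) s0 = true := by
  obtain ⟨q, hq, hqs⟩ := F.data.sub.exists_not_commute F.pair.subP.ne_one F.pair.ne
  refine ⟨q, hq, F.data.Q_comm hq, F.data.sub.conj_of_not_commute hq F.pair.mem hqs, ?_, ?_⟩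
  · have h : q⁻¹ * s ≠ s * q⁻¹ := fun h => hqs (by
      have := (show Commute q⁻¹ s from h).inv_left
      rwa [inv_inv] at this)
    have := F.data.sub.conj_of_not_commute (inv_mem hq) F.pair.mem h
    rwa [inv_inv] at this
  · cases hb : b8 (π q) s0
    · exact absurd ((F.comm_s_iff hq).2 hb) hqs
    · rfl

/-- The conjugate of an element of `W` by an element of `Q` moving `s`. -/
theorem conj_W_eq {q w : G} (hq : q ∈ Q) (hqs : q⁻¹ * s * q = z * s) (hb : b8 (π q) s0 = true)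
    (hw : w ∈ P) (hwz : w * z = z * w) :
    ∃ a ∈ Q, a * s = s * a ∧ cls π a = F.ups w ∧ q * w * q⁻¹ = a * w := by
  have hws := F.W_comm_s hw
  have hwi : w⁻¹ * z = z * w⁻¹ := (Commute.inv_left hwz).eq
  have haQ : q * w * q⁻¹ * w⁻¹ ∈ Q := by
    have := mul_mem hq (F.data.sub.conj_mem hwz (inv_mem hq))
    simpa [mul_assoc] using this
  refine ⟨q * w * q⁻¹ * w⁻¹, haQ, ?_, ?_, by group⟩
  · have h1 : Commute w (q⁻¹ * s * q) := by
      rw [hqs]; exact (show Commute w z from hwz).mul_right hws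
    have h2 : Commute (q * w * q⁻¹) (q * (q⁻¹ * s * q) * q⁻¹) := (Commute.conj_iff q).2 h1
    rw [show q * (q⁻¹ * s * q) * q⁻¹ = s by group] at h2
    exact (h2.mul_left (Commute.inv_left hws)).eq
  · have e : q * w * q⁻¹ * w⁻¹ = q * (w * q⁻¹ * w⁻¹) := by group
    rw [cls, e, F.data.map_mul q hq _ (F.data.sub.conj_mem hwz (inv_mem hq)),
      ← F.data.act_π hwz (inv_mem hq), F.data.π_inv hq, F.act_W hw hwz, add_comm]
    exact sie_diag _ (F.ups_inU w) _ hb

omit [Finite G] in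
theorem isConj_of_mem {x : G} (hx : x ∈ Q) (h2 : x * x = 1) (h1 : x ≠ 1) (hz : x ≠ z) :
    IsConj z x := by
  have hq : q8 (π x) = false := (F.data.sq x hx).1 h2
  have h0 : π x ≠ 0 := fun h => ((F.data.ker x hx).1 h).elim h1 hz
  have hreach : ∀ v ∈ singList, ∃ c, c * z = z * c ∧ F.data.act c s0 = v :=
    chainOK_prop (P := fun v => ∃ c, c * z = z * c ∧ F.data.act c s0 = v)
      ⟨1, by simp, F.data.act_one _⟩ (fun g hg v hv => by
        obtain ⟨p, hp, rfl⟩ := List.mem_map.1 hg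
        obtain ⟨c, hc, rfl⟩ := hv
        obtain ⟨d, hd, hdv⟩ := F.data.exists_pr (allGens_ok p hp)
        exact ⟨d * c, (Commute.mul_left hd hc).eq, by rw [F.data.act_mul hd hc, hdv]⟩)
      singList singList_facts.1
  obtain ⟨c, hc, hcv⟩ := hreach _ (singList_facts.2 _ hq h0)
  rw [← F.π_s, F.data.act_π hc F.pair.mem] at hcv
  have hzs : IsConj z (c * s * c⁻¹) := F.isConj_z_s.trans (isConj_iff.2 ⟨c, rfl⟩)
  rcases F.data.eq_or_eq_of_π_eq (F.data.sub.conj_mem hc F.pair.mem) hx hcv with e | e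
  · rwa [e]
  · obtain ⟨q, hq', hqx⟩ := F.data.sub.exists_not_commute h1 hz
    refine hzs.trans (IsConj.symm (isConj_iff.2 ⟨q, ?_⟩))
    rw [F.data.sub.conj_of_not_commute hq' hx hqx, e, ← mul_assoc, F.data.sub.mul_self, one_mul]

theorem isConj_of_mem_P {x : G} (hx : x ∈ P) (h2 : x * x = 1) (h1 : x ≠ 1) (hs : x ≠ s) :
    IsConj z x := by
  obtain ⟨y, hy0, hy1⟩ := F.exists_swap
  have hQ := (F.swap_mem hy0 hy1).2 hx
  have h : IsConj z (y * x * y⁻¹) := by
    refine F.isConj_of_mem hQ ?_ (fun e => h1 (conj_eq_one_iff.1 e)) fun e => hs ?_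
    · rw [show y * x * y⁻¹ * (y * x * y⁻¹) = y * (x * x) * y⁻¹ by group, h2]; group
    · rw [← hy1] at e; exact mul_left_cancel (mul_right_cancel e)
  exact h.trans (IsConj.symm (isConj_iff.2 ⟨y, rfl⟩))

theorem memE_mul {e f : G} (he : MemE z s e) (hf : MemE z s f) : MemE z s (e * f) := by
  obtain ⟨h1, h2⟩ := F.memE_mem he
  obtain ⟨h3, h4⟩ := F.memE_mem hf
  exact F.memE_of_mem (mul_mem h1 h3) (mul_mem h2 h4)

/-- Two products with the same classes differ by an element of `⟨z, s⟩`. -/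
theorem eq_memE_mul {a w a' w' : G} (ha : a ∈ Q) (has : a * s = s * a) (hw : w ∈ P)
    (hwz : w * z = z * w) (ha' : a' ∈ Q) (has' : a' * s = s * a') (hw' : w' ∈ P)
    (hwz' : w' * z = z * w') (hA : cls π a' = cls π a) (hU : F.ups w' = F.ups w) :
    ∃ e, MemE z s e ∧ a' * w' = e * (a * w) := by
  have hwi : w⁻¹ * z = z * w⁻¹ := (Commute.inv_left hwz).eq
  have e1 : MemE z s (a' * a⁻¹) := F.memE_of_cls (mul_mem ha' (inv_mem ha))
    ((Commute.mul_left has' (Commute.inv_left has)).eq)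
    (by rw [F.cls_mul ha' (inv_mem ha), F.cls_inv ha, hA, add_self8])
  have e2 : MemE z s (w' * w⁻¹) := by
    refine F.memE_of_ups (mul_mem hw' (inv_mem hw)) (Commute.mul_left hwz' hwi).eq ?_
    rw [F.ups_mul hw' hwz' (inv_mem hw) hwi, hU, ← F.ups_mul hw hwz (inv_mem hw) hwi,
      mul_inv_cancel, F.ups_memE (Or.inl rfl)]
  refine ⟨a' * a⁻¹ * (w' * w⁻¹), F.memE_mul e1 e2, ?_⟩
  have hc := F.memE_comm e2 (F.data.Q_comm ha) has
  calc a' * w' = a' * a⁻¹ * (a * (w' * w⁻¹)) * w := by group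
    _ = a' * a⁻¹ * ((w' * w⁻¹) * a) * w := by rw [hc]
    _ = a' * a⁻¹ * (w' * w⁻¹) * (a * w) := by group

/-- Conjugation by an element of `C_Q(s)`. -/
theorem conj_aw {a w q : G} (ha : a ∈ Q) (has : a * s = s * a) (hw : w ∈ P) (hwz : w * z = z * w)
    (hq : q ∈ Q) (hqs : q * s = s * q) :
    q * (a * w) * q⁻¹ = (if b8 (cls π q) (cls π a) then z else 1) *
      (if b8 (cls π q) (F.ups w) then z * s else 1) * (a * w) := by
  obtain ⟨c, hcdef⟩ : ∃ c, c = (if b8 (cls π q) (F.ups w) then z * s else 1) := ⟨_, rfl⟩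
  have hcE : MemE z s c := by
    rw [hcdef]; split
    · exact Or.inr (Or.inr (Or.inr rfl))
    · exact Or.inl rfl
  have hcc : c * c = 1 := by
    rw [hcdef]; split
    · rw [show z * s * (z * s) = (z * z) * (s * s) from
        Commute.mul_mul_mul_comm F.s_comm z s, F.data.sub.mul_self, F.s_mul_self, one_mul]
    · rw [mul_one]
  have h1 : q * w * q⁻¹ = c * w := by
    have h := F.comm_formula hq hqs hw hwz
    rw [← hcdef] at h
    calc q * w * q⁻¹ = c * (c * q) * w * q⁻¹ := by rw [← mul_assoc c c, hcc, one_mul]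
      _ = c * (w * q * w⁻¹) * w * q⁻¹ := by rw [h]
      _ = c * w := by group
  have h2 : q * a * q⁻¹ = (if b8 (cls π q) (cls π a) then z else 1) * a := by
    have hb : b8 (cls π q) (cls π a) = b8 (π q) (π a) :=
      b8_pU ((F.comm_s_iff hq).1 hqs) ((F.comm_s_iff ha).1 has)
    have hcm := F.data.commute_iff hq ha
    rw [hb]
    cases hbb : b8 (π q) (π a)
    · rw [mul_inv_eq_iff_eq_mul.2 (hcm.2 hbb)]; simp
    · rw [F.data.sub.conj_of_not_commute hq ha fun e => by simp [hcm.1 e] at hbb]; simp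
  rw [← hcdef]
  calc q * (a * w) * q⁻¹ = (q * a * q⁻¹) * (q * w * q⁻¹) := by group
    _ = (if b8 (cls π q) (cls π a) then z else 1) * (a * c) * w := by rw [h1, h2]; group
    _ = _ := by rw [F.memE_comm hcE (F.data.Q_comm ha) has]; group

/-- An element of `C_Q(s) C_P(z)` with given classes. -/
theorem exists_type {A u : V8} (hA : InU A) (hu : InU u) (hqA : q8 A = b8 A u)
    (hqu : q8 u = b8 A u) : ∃ a w, a ∈ Q ∧ a * s = s * a ∧ w ∈ P ∧ w * z = z * w ∧ cls π a = A ∧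
    F.ups w = u ∧ a * w * (a * w) = 1 := by
  obtain ⟨a, ha, has, hπ⟩ := F.exists_mem A (inU_orth _ hA).1
  obtain ⟨w, hw, hwz, hu'⟩ := F.exists_ups hu
  have hc : cls π a = A := by rw [cls, hπ]; exact hA
  exact ⟨a, w, ha, has, hw, hwz, hc, hu',
    (F.sq_iff ha has hw hwz).2 (by rw [hc, hu']; exact ⟨hqA, hqu⟩)⟩

/-- The two classes of a pair are moved by the action. -/
def Moves (n : G) (A u A' u' : V8) : Prop :=
  n * z = z * n ∧ n * s = s * n ∧ pU (F.data.act n A) = A' ∧ pU (F.data.act n u) = u'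

omit [Finite G] in
theorem moves_mul {n m : G} {A u A' u' A'' u'' : V8} (hA : InU A) (hu : InU u)
    (hn : F.Moves n A u A' u') (hm : F.Moves m A' u' A'' u'') :
    F.Moves (m * n) A u A'' u'' := by
  obtain ⟨hnz, hns, h1, h2⟩ := hn
  obtain ⟨hmz, hms, h3, h4⟩ := hm
  have hs := F.act_s hmz hms
  have hs' := F.act_s hnz hns
  refine ⟨(Commute.mul_left hmz hnz).eq, (Commute.mul_left hms hns).eq, ?_, ?_⟩
  · rw [F.data.act_mul hmz hnz, ← (F.data.act_iso hmz).pU_map_pU hs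
      ((F.data.act_iso hnz).orth_s0 hs' (inU_orth A hA).1), h1, h3]
  · rw [F.data.act_mul hmz hnz, ← (F.data.act_iso hmz).pU_map_pU hs
      ((F.data.act_iso hnz).orth_s0 hs' (inU_orth u hu).1), h2, h4]

omit [Finite G] in
theorem moves_inv {n : G} {A u A' u' : V8} (hA : InU A) (hu : InU u) (hn : F.Moves n A u A' u') :
    F.Moves n⁻¹ A' u' A u := by
  obtain ⟨hnz, hns, h1, h2⟩ := hn
  have hs := F.act_s hnz hns
  refine ⟨(Commute.inv_left hnz).eq, (Commute.inv_left hns).eq, ?_, ?_⟩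
  · rw [← h1, F.data.pU_act_cancel hnz hs (inU_orth A hA).1, hA]
  · rw [← h2, F.data.pU_act_cancel hnz hs (inU_orth u hu).1, hu]

omit [Finite G] in
/-- Reaching the entries of a list of vectors of the orthogonal. -/
theorem exists_reach (gs : List (ℕ × ℕ)) (l : List V8) (x₀ A : V8) (hx₀ : InU x₀) (hA : InU A)
    (hl : chainOK (gs.map prU) x₀ l = true)
    (hgs : ∀ p ∈ gs, okPair p = true ∧ pr p s0 = s0 ∧ prU p A = A) {v : V8} (hv : v ∈ l) :
    ∃ n, F.Moves n A x₀ A v := by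
  refine chainOK_prop (P := fun v => ∃ n, F.Moves n A x₀ A v)
    ⟨1, by simp, by simp, by rw [F.data.act_one]; exact hA, by rw [F.data.act_one]; exact hx₀⟩
    (fun g hg x hx => ?_) l hl v hv
  obtain ⟨p, hp, rfl⟩ := List.mem_map.1 hg
  obtain ⟨n, hn⟩ := hx
  obtain ⟨h1, h2, h3⟩ := hgs p hp
  obtain ⟨m, hm, hms, hmv⟩ := F.exists_pr h1 h2
  exact ⟨m * n, F.moves_mul hA hx₀ hn ⟨hm, hms, by rw [hmv]; exact h3, by rw [hmv]; rfl⟩⟩

omit [Finite G] in
/-- Moving a pair with first entry in a given orbit onto another one. -/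
theorem exists_moves {A₀ u₀ A u r : V8} (gs : List (ℕ × ℕ)) (L l : List V8)
    (hA₀ : InU A₀) (hu₀ : InU u₀) (hA : InU A) (hu : InU u) (hr : InU r)
    (hL : chainOK (hsGens.map prU) r L = true) (hmem₀ : A₀ ∈ L) (hmem : A ∈ L)
    (hl : chainOK (gs.map prU) u₀ l = true)
    (hgs : ∀ p ∈ gs, okPair p = true ∧ pr p s0 = s0 ∧ prU p A₀ = A₀)
    (hpart : ∀ v, InU v → q8 v = q8 u → b8 A₀ v = b8 A u → (v = A₀ ↔ u = A) → (v = 0 ↔ u = 0) →
      v ∈ l) :
    ∃ n, F.Moves n A₀ u₀ A u := by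
  have hzero : ∀ p ∈ hsGens, okPair p = true ∧ pr p s0 = s0 ∧ prU p 0 = 0 := fun p hp =>
    ⟨(hsGens_ok p hp).1, (hsGens_ok p hp).2, by
      have : ∀ p ∈ hsGens, prU p 0 = 0 := by decide +kernel
      exact this p hp⟩
  obtain ⟨n, hnz, hns, -, hn⟩ := F.exists_reach hsGens L r 0 hr (by decide) hL hzero hmem
  obtain ⟨m, hmz, hms, -, hm⟩ := F.exists_reach hsGens L r 0 hr (by decide) hL hzero hmem₀
  -- `k` carries `A₀` to `A`
  have hmi : F.Moves m⁻¹ A₀ A₀ r r := F.moves_inv hr hr ⟨hmz, hms, hm, hm⟩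
  obtain ⟨k, hk⟩ : ∃ k, F.Moves k A₀ A₀ A A :=
    ⟨n * m⁻¹, F.moves_mul hA₀ hA₀ hmi ⟨hnz, hns, hn, hn⟩⟩
  obtain ⟨hkz, hks, hkA, -⟩ := hk
  have hki : k⁻¹ * z = z * k⁻¹ := (Commute.inv_left hkz).eq
  have hks' := F.act_s hki (Commute.inv_left hks).eq
  have hkA' : pU (F.data.act k⁻¹ A) = A₀ := by
    rw [← hkA, F.data.pU_act_cancel hkz (F.act_s hkz hks) (inU_orth _ hA₀).1, hA₀]
  obtain ⟨v, hv⟩ : ∃ v, v = pU (F.data.act k⁻¹ u) := ⟨_, rfl⟩
  have hvU : InU v := hv ▸ pU_pU _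
  have hkv : pU (F.data.act k v) = u := by
    rw [hv]
    have h := F.data.pU_act_cancel hki hks' (inU_orth u hu).1
    rw [inv_inv, hu] at h
    exact h
  have hiso := F.data.act_iso hki
  obtain ⟨n2, hn2⟩ := F.exists_reach gs l u₀ A₀ hu₀ hA₀ hl hgs (hpart v hvU
    (by rw [hv]; exact hiso.q8_pU_map hks' (inU_orth u hu).1)
    (by rw [← hkA', hv]; exact hiso.b8_pU_map hks' (inU_orth A hA).1 (inU_orth u hu).1)
    ⟨fun e => by rw [← hkv, e, hkA], fun e => by rw [hv, e]; exact hkA'⟩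
    ⟨fun e => by rw [← hkv, e, (F.data.act_iso hkz).zero]; decide,
      fun e => by rw [hv, e, hiso.zero]; decide⟩)
  exact ⟨k * n2, F.moves_mul hA₀ hu₀ hn2 ⟨hkz, hks, hkA, hkv⟩⟩

omit [Finite G] in
theorem exists_moves_TS {A u : V8} (hA : InU A) (hu : InU u) (hA0 : A ≠ 0) (hu0 : u ≠ 0)
    (hne : A ≠ u) (hqA : q8 A = false) (hqu : q8 u = false) (hb : b8 A u = false) :
    ∃ n, F.Moves n aT uT A u := by
  obtain ⟨hT1, hT2, hT3, -, -, hT4, -⟩ := std_TS
  refine F.exists_moves tsGens uSingList tsList hT1 hT2 hA hu (by decide) uSingList_facts.1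
    (uSingList_facts.2 _ hT1 hT3 hT4) (uSingList_facts.2 _ hA hqA hA0) tsList_facts.1
    tsList_facts.2.1 fun v hv h1 h2 h3 h4 => tsList_facts.2.2 v hv (h1.trans hqu) ?_ ?_ (h2.trans hb)
  · exact fun e => hu0 (h4.1 e)
  · exact fun e => hne (h3.1 e).symm

omit [Finite G] in
theorem exists_moves_AN {A u : V8} (hA : InU A) (hu : InU u)
    (hqA : q8 A = true) (hqu : q8 u = true) (hb : b8 A u = true) :
    ∃ n, F.Moves n aN uN A u := by
  obtain ⟨hT1, hT2, hT3, -, -, -, -⟩ := std_AN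
  exact F.exists_moves anGens uNsList anList hT1 hT2 hA hu (by decide) uNsList_facts.1
    (uNsList_facts.2 _ hT1 hT3) (uNsList_facts.2 _ hA hqA) anList_facts.1
    anList_facts.2.1 fun v hv h1 h2 _ _ => anList_facts.2.2 v hv (h1.trans hqu) (h2.trans hb)

/-- Products whose classes are related by a move are conjugate. -/
theorem isConj_moves {a w a1 w1 : G} {A u : V8} (ha : a ∈ Q) (has : a * s = s * a) (hw : w ∈ P)
    (hwz : w * z = z * w) (hA : cls π a = A) (hU : F.ups w = u)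
    (hfuse : ∀ i j : Bool, ∃ v : V8, InU v ∧ b8 v A = i ∧ b8 v u = j)
    (ha1 : a1 ∈ Q) (has1 : a1 * s = s * a1) (hw1 : w1 ∈ P) (hwz1 : w1 * z = z * w1) {n : G}
    (hn : F.Moves n A u (cls π a1) (F.ups w1)) : IsConj (a * w) (a1 * w1) := by
  obtain ⟨hnz, hns, h1, h2⟩ := F.moves_inv (hA ▸ cls_inU π a) (hU ▸ F.ups_inU w) hn
  have hw' := F.conj_mem_W hnz hns hw1 hwz1
  have ha' := F.data.sub.conj_mem hnz ha1
  have has' : n⁻¹ * a1 * n⁻¹⁻¹ * s = s * (n⁻¹ * a1 * n⁻¹⁻¹) :=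
    ((Commute.mul_left hns has1).mul_left (Commute.inv_left hns)).eq
  obtain ⟨e, he, heq⟩ := F.eq_memE_mul ha has hw hwz ha' has' hw'.1 hw'.2
    (by rw [F.cls_conj hnz hns ha1 has1, h1, hA]) (by rw [F.ups_conj hnz hns hw1 hwz1, h2, hU])
  have hij : ∃ i j : Bool, (if i then z else 1) * (if j then z * s else 1) = e := by
    have hzzs : z * (z * s) = s := by rw [← mul_assoc, F.data.sub.mul_self, one_mul]
    rcases he with r | r | r | r
    · exact ⟨false, false, by simp [r]⟩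
    · exact ⟨true, false, by simp [r]⟩
    · exact ⟨true, true, by simp [r, hzzs]⟩
    · exact ⟨false, true, by simp [r]⟩
  obtain ⟨i, j, hij⟩ := hij
  obtain ⟨v, hv, hvi, hvj⟩ := hfuse i j
  obtain ⟨q, hq, hqs, hqv⟩ := F.exists_mem v (inU_orth v hv).1
  have hcq : cls π q = v := by rw [cls, hqv]; exact hv
  have hconj := F.conj_aw ha has hw hwz hq hqs
  rw [hA, hU, hcq, hvi, hvj, hij, ← heq] at hconj
  refine isConj_iff.2 ⟨n * q, ?_⟩
  calc n * q * (a * w) * (n * q)⁻¹ = n * (q * (a * w) * q⁻¹) * n⁻¹ := by group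
    _ = a1 * w1 := by rw [hconj]; group

/-- An involution acting as a transformation lies in `C_Q(s) C_P(z)`. -/
theorem sie_decomp {y : G} {u : V8} (hyz : y * z = z * y) (hyy : y * y = 1) (hu : InU u)
    (hu0 : u ≠ 0) (hact : ∀ v, F.data.act y v = sie u v) :
    ∃ a w, a ∈ Q ∧ a * s = s * a ∧ w ∈ P ∧ w * z = z * w ∧ F.ups w = u ∧ y = a * w := by
  obtain ⟨w, hw, hwz, hwu⟩ := F.exists_ups hu
  have hwi : w⁻¹ * z = z * w⁻¹ := (Commute.inv_left hwz).eq
  obtain ⟨a, haeq⟩ : ∃ a, y = a * w := ⟨y * w⁻¹, by group⟩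
  have haz : a * z = z * a := by
    rw [show a = y * w⁻¹ by rw [haeq]; group]; exact (Commute.mul_left hyz hwi).eq
  have haQ : a ∈ Q := F.data.mem_of_act haz fun v => by
    rw [show a = y * w⁻¹ by rw [haeq]; group, F.data.act_mul hyz hwi, hact, ← hwu,
      ← F.act_W hw hwz, ← F.data.act_mul hwz hwi, mul_inv_cancel, F.data.act_one]
  refine ⟨a, w, haQ, (F.comm_s_iff haQ).2 (sie_moves u hu hu0 _ ?_), hw, hwz, hwu, haeq⟩
  have hww : MemE z s (w * w) := by
    rw [F.sq_formula hw hwz]; split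
    · exact Or.inr (Or.inr (Or.inl rfl))
    · exact Or.inl rfl
  have hwwQ := (F.memE_mem hww).1
  have e : w * a * w⁻¹ = a⁻¹ * (w * w)⁻¹ := by
    have : a * w * (a * w) = 1 := by rw [← haeq]; exact hyy
    calc w * a * w⁻¹ = a⁻¹ * (a * w * (a * w)) * (w * w)⁻¹ := by group
      _ = a⁻¹ * (w * w)⁻¹ := by rw [this, mul_one]
  have hπ := congrArg π e
  rw [← F.data.act_π hwz haQ, F.act_W hw hwz, hwu, F.data.map_mul _ (inv_mem haQ) _ (inv_mem hwwQ),
    F.data.π_inv haQ, F.data.π_inv hwwQ] at hπ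
  rw [hπ, add_comm (π a), add_add_cancel8]
  exact (F.memE_iff_cls hwwQ).1 hww

/-- An involution of `C_Q(s) C_P(z)` is conjugate to `z` or to one of two standard ones. -/
theorem r_cases {aS wS aU wU a w : G}
    (haS : aS ∈ Q) (haSs : aS * s = s * aS) (hwS : wS ∈ P) (hwSz : wS * z = z * wS)
    (hAS : cls π aS = aT) (hUS : F.ups wS = uT)
    (haU : aU ∈ Q) (haUs : aU * s = s * aU) (hwU : wU ∈ P) (hwUz : wU * z = z * wU)
    (hAU : cls π aU = aN) (hUU : F.ups wU = uN)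
    (haQ : a ∈ Q) (has : a * s = s * a) (hw : w ∈ P) (hwz : w * z = z * w)
    (hu0 : F.ups w ≠ 0) (h2 : a * w * (a * w) = 1) :
    IsConj z (a * w) ∨ IsConj (aS * wS) (a * w) ∨ IsConj (aU * wU) (a * w) := by
  obtain ⟨hqA, hqU⟩ := (F.sq_iff haQ has hw hwz).1 h2
  by_cases hA0 : cls π a = 0
  · left
    refine F.isConj_of_mem_P (mul_mem (F.memE_mem (F.memE_of_cls haQ has hA0)).2 hw) h2 ?_ ?_
    · intro e
      apply hu0
      have hwQ : w ∈ Q := by
        rw [show w = a⁻¹ * (a * w) by group, e, mul_one]; exact inv_mem haQ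
      rw [F.ups_memE (F.memE_of_mem hwQ hw)]
    · intro e
      apply hu0
      have : w = a⁻¹ * s := by rw [← e]; group
      have hwQ : w ∈ Q := this ▸ mul_mem (inv_mem haQ) F.pair.mem
      rw [F.ups_memE (F.memE_of_mem hwQ hw)]
  cases hqu : q8 (F.ups w)
  · rw [hqu] at hqU
    rw [← hqU] at hqA
    by_cases hAu : cls π a = F.ups w
    · left
      obtain ⟨q, hq, hqz, hqs, hqs', hqb⟩ := F.exists_not_comm
      obtain ⟨a', ha', has', hA', heq'⟩ := F.conj_W_eq hq hqs' hqb hw hwz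
      obtain ⟨e, he, hee⟩ := F.eq_memE_mul ha' has' hw hwz haQ has hw hwz (hAu.trans hA'.symm) rfl
      rw [hee, ← heq']
      have heP : q⁻¹ * e * q ∈ P := by
        rcases he with r | r | r | r
        · rw [r]; simp
        · rw [r, mul_assoc, ← hqz, inv_mul_cancel_left]; exact F.pair.z_mem
        · rw [r, hqs']; exact mul_mem F.pair.z_mem F.pair.subP.z_mem
        · rw [r, show q⁻¹ * (z * s) * q = (q⁻¹ * z * q) * (q⁻¹ * s * q) by group, hqs',
            mul_assoc q⁻¹ z q, ← hqz, inv_mul_cancel_left]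
          exact mul_mem F.pair.z_mem (mul_mem F.pair.z_mem F.pair.subP.z_mem)
      obtain ⟨x', hx'⟩ : ∃ x', x' = q⁻¹ * e * q * w := ⟨_, rfl⟩
      have hconj : e * (q * w * q⁻¹) = q * x' * q⁻¹ := by rw [hx']; group
      rw [hconj]
      have hyq : a * w = q * x' * q⁻¹ := by rw [← hconj, heq', ← hee]
      refine (F.isConj_of_mem_P (hx' ▸ mul_mem heP hw) ?_ ?_ ?_).trans (isConj_iff.2 ⟨q, rfl⟩)
      · have e2 : q * (x' * x') * q⁻¹ = 1 := by
          rw [← h2, hyq]; group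
        exact conj_eq_one_iff.1 e2
      · intro e'
        apply hu0
        rw [e', mul_one, mul_inv_cancel] at hyq
        have hwQ : w ∈ Q := by
          rw [show w = a⁻¹ * (a * w) by group, hyq, mul_one]; exact inv_mem haQ
        rw [F.ups_memE (F.memE_of_mem hwQ hw)]
      · intro e'
        apply hu0
        rw [e', hqs] at hyq
        have hwQ : w ∈ Q := by
          rw [show w = a⁻¹ * (a * w) by group, hyq]
          exact mul_mem (inv_mem haQ) (mul_mem F.data.sub.z_mem F.pair.mem)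
        rw [F.ups_memE (F.memE_of_mem hwQ hw)]
    · right; left
      obtain ⟨n, hn⟩ := F.exists_moves_TS (cls_inU π a) (F.ups_inU w) hA0 hu0 hAu hqA hqu hqU.symm
      exact F.isConj_moves haS haSs hwS hwSz hAS hUS fuse_TS haQ has hw hwz hn
  · right; right
    rw [hqu] at hqU
    rw [← hqU] at hqA
    obtain ⟨n, hn⟩ := F.exists_moves_AN (cls_inU π a) (F.ups_inU w) hqA hqu hqU.symm
    exact F.isConj_moves haU haUs hwU hwUz hAU hUU fuse_AN haQ has hw hwz hn

end Frame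

end CfsgLib.ConwayType
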