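import Cfsg.Agent.ConwayType.Classes

/-!
# Calculating with the elements of `⟨z, s⟩`
-/

set_option autoImplicit false

namespace CfsgLib.ConwayType

open CfsgLib.LargeExtraspecial

/-- The element of `⟨z, s⟩` with given exponents. -/
def ee {G : Type*} [Group G] (z s : G) (i j : Bool) : G :=
  (if i then z else 1) * (if j then s else 1)

namespace Frame

variable {G : Type*} [Group G] {z s : G} {Q P : Subgroup G} {π : G → V8} (F : Frame z Q π P s)
include F

theorem ee_memE (i j : Bool) : MemE z s (ee z s i j) := by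
  cases i <;> cases j <;> simp [ee, MemE]

omit F in
theorem exists_ee {e : G} (h : MemE z s e) : ∃ i j, e = ee z s i j := by
  rcases h with r | r | r | r
  · exact ⟨false, false, by simp [ee, r]⟩
  · exact ⟨true, false, by simp [ee, r]⟩
  · exact ⟨false, true, by simp [ee, r]⟩
  · exact ⟨true, true, by simp [ee, r]⟩

theorem ee_mul (i j k l : Bool) :
    ee z s i j * ee z s k l = ee z s (xor i k) (xor j l) := by
  have hzz := F.data.sub.mul_self
  have hss := F.s_mul_self
  have hc : Commute s z := F.s_comm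
  have key : ∀ a b : Bool, (if a then z else 1) * (if b then z else 1) = if xor a b then z else 1 := by
    intro a b; cases a <;> cases b <;> simp [hzz]
  have key' : ∀ a b : Bool, (if a then s else 1) * (if b then s else 1) = if xor a b then s else 1 := by
    intro a b; cases a <;> cases b <;> simp [hss]
  have hcc : Commute (if j then s else 1) (if k then z else 1) := by
    cases j <;> cases k <;> simp [hc]
  rw [ee, ee, ee, hcc.mul_mul_mul_comm, key, key']

omit F in
theorem ee_false : ee z s false false = 1 := by simp [ee]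

theorem ee_self (i j : Bool) : ee z s i j * ee z s i j = 1 := by
  rw [F.ee_mul, Bool.xor_self, Bool.xor_self, ee_false]

theorem ee_inv (i j : Bool) : (ee z s i j)⁻¹ = ee z s i j :=
  inv_eq_of_mul_eq_one_right (F.ee_self i j)

theorem ee_π (i j : Bool) : π (ee z s i j) = sm j s0 := by
  cases i <;> cases j <;> simp [ee, sm, F.data.π_one, F.data.π_z, F.π_s, F.data.π_z_mul F.pair.mem]

theorem ee_comm (i j : Bool) {n : G} (hn : n * z = z * n) (hns : n * s = s * n) :
    n * ee z s i j = ee z s i j * n :=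
  F.memE_comm (F.ee_memE i j) hn hns

theorem conj_ee (i j : Bool) {n : G} (hn : n * z = z * n) (hns : n * s = s * n) :
    n * ee z s i j * n⁻¹ = ee z s i j :=
  mul_inv_eq_iff_eq_mul.2 (F.ee_comm i j hn hns)

theorem conj_ee_Q (i j : Bool) {q : G} (hq : q ∈ Q) (hqs : q * s * q⁻¹ = z * s) :
    q * ee z s i j * q⁻¹ = ee z s (xor i j) j := by
  have hqz : q * z * q⁻¹ = z := mul_inv_eq_iff_eq_mul.2 (F.data.Q_comm hq)
  cases i <;> cases j <;> simp only [ee, Bool.false_eq_true, if_true, if_false, one_mul, mul_one,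
    Bool.xor_false, Bool.xor_true, Bool.not_false, Bool.not_true, mul_inv_cancel]
  · exact hqs
  · exact hqz
  · rw [show q * (z * s) * q⁻¹ = (q * z * q⁻¹) * (q * s * q⁻¹) by group, hqz, hqs, ← mul_assoc,
      F.data.sub.mul_self, one_mul]

theorem conj_ee_P (i j : Bool) {p : G} (hp : p ∈ P) (hpz : p * z * p⁻¹ = s * z) :
    p * ee z s i j * p⁻¹ = ee z s i (xor i j) := by
  have hps : p * s * p⁻¹ = s := mul_inv_eq_iff_eq_mul.2 (F.W_comm_s hp)
  cases i <;> cases j <;> simp only [ee, Bool.false_eq_true, if_true, if_false, one_mul, mul_one,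
    Bool.xor_false, Bool.xor_true, Bool.false_xor, Bool.true_xor, Bool.not_false, Bool.not_true,
    mul_inv_cancel]
  · exact hps
  · rw [hpz, F.s_comm]
  · rw [show p * (z * s) * p⁻¹ = (p * z * p⁻¹) * (p * s * p⁻¹) by group, hpz, hps, F.s_comm,
      mul_assoc, F.s_mul_self, mul_one]

variable [Finite G]

theorem ee_inj {i j k l : Bool} (h : ee z s i j = ee z s k l) : i = k ∧ j = l := by
  obtain ⟨hz1, hs1, hzs, hzs1, hzsz, hzss⟩ := F.zs_facts
  have h' : ee z s (xor i k) (xor j l) = 1 := by rw [← F.ee_mul, h, F.ee_self]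
  have key : ∀ a b : Bool, ee z s a b = 1 → a = false ∧ b = false := by
    intro a b hab
    cases a <;> cases b <;> simp_all [ee]
  obtain ⟨h1, h2⟩ := key _ _ h'
  constructor
  · cases i <;> cases k <;> simp_all
  · cases j <;> cases l <;> simp_all

theorem ee_mul_inj {i j k l : Bool} {g : G} (h : ee z s i j * g = ee z s k l * g) : i = k ∧ j = l :=
  F.ee_inj (mul_right_cancel h)

theorem Q_sq {a : G} (ha : a ∈ Q) : a * a = ee z s (q8 (π a)) false := by
  have h := F.data.sq a ha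
  cases hq : q8 (π a)
  · rw [h.2 hq]; simp [ee]
  · rcases F.data.sub.sq_eq ha with e | e
    · exact absurd ((h.1 e).symm.trans hq) (by decide)
    · rw [e]; simp [ee]

theorem Q_inv {a : G} (ha : a ∈ Q) : a⁻¹ = ee z s (q8 (π a)) false * a := by
  rw [← F.Q_sq ha]
  refine inv_eq_of_mul_eq_one_right ?_
  calc a * (a * a * a) = (a * a) * (a * a) := by group
    _ = 1 := by rw [F.Q_sq ha, F.ee_self]

theorem W_sq {w : G} (hw : w ∈ P) (hwz : w * z = z * w) :
    w * w = ee z s false (q8 (F.ups w)) := by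
  rw [F.sq_formula hw hwz]
  cases q8 (F.ups w) <;> simp [ee]

theorem W_inv {w : G} (hw : w ∈ P) (hwz : w * z = z * w) :
    w⁻¹ = ee z s false (q8 (F.ups w)) * w := by
  rw [← F.W_sq hw hwz]
  refine inv_eq_of_mul_eq_one_right ?_
  calc w * (w * w * w) = (w * w) * (w * w) := by group
    _ = 1 := by rw [F.W_sq hw hwz, F.ee_self]

theorem comm_QW {a w : G} (ha : a ∈ Q) (has : a * s = s * a) (hw : w ∈ P) (hwz : w * z = z * w) :
    w * a * w⁻¹ = ee z s (b8 (cls π a) (F.ups w)) (b8 (cls π a) (F.ups w)) * a ∧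
    a * w * a⁻¹ = ee z s (b8 (cls π a) (F.ups w)) (b8 (cls π a) (F.ups w)) * w := by
  obtain ⟨b, hb⟩ : ∃ b, b = b8 (cls π a) (F.ups w) := ⟨_, rfl⟩
  have h := F.comm_formula ha has hw hwz
  rw [← hb] at h ⊢
  have h1 : w * a * w⁻¹ = ee z s b b * a := by
    rw [h]
    cases b <;> simp [ee]
  refine ⟨h1, ?_⟩
  calc a * w * a⁻¹ = ee z s b b * (ee z s b b * a) * w * a⁻¹ := by
        rw [← mul_assoc (ee z s b b), F.ee_self, one_mul]
    _ = ee z s b b * (w * a * w⁻¹) * w * a⁻¹ := by rw [h1]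
    _ = ee z s b b * w := by group

theorem conj_QQ {a q : G} (ha : a ∈ Q) (has : a * s = s * a) (hq : q ∈ Q) (hqs : q * s = s * q) :
    q * a * q⁻¹ = ee z s (b8 (cls π q) (cls π a)) false * a := by
  have hb : b8 (cls π q) (cls π a) = b8 (π q) (π a) :=
    b8_pU ((F.comm_s_iff hq).1 hqs) ((F.comm_s_iff ha).1 has)
  have hcm := F.data.commute_iff hq ha
  rw [hb]
  cases hbb : b8 (π q) (π a)
  · rw [mul_inv_eq_iff_eq_mul.2 (hcm.2 hbb)]; simp [ee]
  · rw [F.data.sub.conj_of_not_commute hq ha fun e => by simp [hcm.1 e] at hbb]; simp [ee]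

theorem conj_WW {w v : G} (hw : w ∈ P) (hwz : w * z = z * w) (hv : v ∈ P) (hvz : v * z = z * v) :
    v * w * v⁻¹ = ee z s false (b8 (F.ups v) (F.ups w)) * w := by
  rcases F.pair.subP.conj_eq hv hw with e | e
  · have h : v * w * (v * w) = (v * v) * (w * w) := by
      rw [mul_inv_eq_iff_eq_mul] at e
      calc v * w * (v * w) = v * (w * v) * w := by group
        _ = v * (v * w) * w := by rw [e]
        _ = (v * v) * (w * w) := by group
    rw [F.W_sq (mul_mem hv hw) (Commute.mul_left hvz hwz).eq, F.W_sq hv hvz, F.W_sq hw hwz,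
      F.ee_mul, F.ups_mul hv hvz hw hwz, q8_add] at h
    have h' := (F.ee_inj h).2
    have hb : b8 (F.ups v) (F.ups w) = false := by
      revert h'
      cases q8 (F.ups v) <;> cases q8 (F.ups w) <;> cases b8 (F.ups v) (F.ups w) <;> simp
    rw [e, hb]
    simp [ee]
  · have e0 := e
    have hs' : s = ee z s false true := by simp [ee]
    rw [mul_inv_eq_iff_eq_mul] at e
    have h : v * w * (v * w) = ee z s false true * ((v * v) * (w * w)) := by
      rw [← hs']
      calc v * w * (v * w) = v * (w * v) * w := by group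
        _ = v * (s * (s * w * v)) * w := by rw [← mul_assoc s, ← mul_assoc s, F.s_mul_self, one_mul]
        _ = v * (s * (v * w)) * w := by rw [← e]
        _ = (v * s) * (v * (w * w)) := by group
        _ = (s * v) * (v * (w * w)) := by rw [F.W_comm_s hv]
        _ = s * ((v * v) * (w * w)) := by group
    rw [F.W_sq (mul_mem hv hw) (Commute.mul_left hvz hwz).eq, F.W_sq hv hvz, F.W_sq hw hwz,
      F.ee_mul, F.ee_mul, F.ups_mul hv hvz hw hwz, q8_add] at h
    have h' := (F.ee_inj h).2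
    have hb : b8 (F.ups v) (F.ups w) = true := by
      revert h'
      cases q8 (F.ups v) <;> cases q8 (F.ups w) <;> cases b8 (F.ups v) (F.ups w) <;> simp
    rw [e0, hb]
    simp [ee]

/-- An element of `P` moving `z`. -/
theorem exists_moving : ∃ p ∈ P, p * z * p⁻¹ = s * z ∧ p⁻¹ * z * p = s * z := by
  obtain ⟨p, hp, hpz⟩ := F.pair.subP.exists_not_commute F.data.sub.ne_one F.pair.ne.symm
  refine ⟨p, hp, F.pair.subP.conj_of_not_commute hp F.pair.z_mem hpz, ?_⟩
  have h : p⁻¹ * z ≠ z * p⁻¹ := fun h => hpz (by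
    have := (show Commute p⁻¹ z from h).inv_left
    rwa [inv_inv] at this)
  have := F.pair.subP.conj_of_not_commute (inv_mem hp) F.pair.z_mem h
  rwa [inv_inv] at this

theorem comm_P_mem {n p : G} (hn : n * z = z * n) (hns : n * s = s * n) (hp : p ∈ P)
    (hpz : p * z * p⁻¹ = s * z) (hpz' : p⁻¹ * z * p = s * z) :
    n * p * n⁻¹ * p⁻¹ ∈ P ∧ n * p * n⁻¹ * p⁻¹ * z = z * (n * p * n⁻¹ * p⁻¹) := by
  refine ⟨mul_mem (F.pair.subP.conj_mem hns hp) (inv_mem hp), mul_inv_eq_iff_eq_mul.1 ?_⟩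
  have h1 : n * z * n⁻¹ = z := mul_inv_eq_iff_eq_mul.2 hn
  have h2 : n⁻¹ * z * n = z := by rw [mul_assoc, ← hn, inv_mul_cancel_left]
  have h3 : p * s * p⁻¹ = s := mul_inv_eq_iff_eq_mul.2 (F.W_comm_s hp)
  have h4 : n * s * n⁻¹ = s := mul_inv_eq_iff_eq_mul.2 hns
  have h5 : n⁻¹ * s * n = s := by rw [mul_assoc, ← hns, inv_mul_cancel_left]
  calc n * p * n⁻¹ * p⁻¹ * z * (n * p * n⁻¹ * p⁻¹)⁻¹ = n * p * n⁻¹ * (p⁻¹ * z * p) * n * p⁻¹ * n⁻¹ := by group
    _ = n * p * ((n⁻¹ * s * n) * (n⁻¹ * z * n)) * p⁻¹ * n⁻¹ := by rw [hpz']; group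
    _ = n * ((p * s * p⁻¹) * (p * z * p⁻¹)) * n⁻¹ := by rw [h5, h2]; group
    _ = n * (s * (s * z)) * n⁻¹ := by rw [h3, hpz]
    _ = z := by rw [← mul_assoc s s z, F.s_mul_self, one_mul, h1]

/-- The exponent of `z` in the action on `C_P(z)` is given by a commutator with `p`. -/
theorem z_exponent {n p w : G} (hn : n * z = z * n) (hns : n * s = s * n) (hp : p ∈ P)
    (hpz : p * z * p⁻¹ = s * z) (hpz' : p⁻¹ * z * p = s * z) (hw : w ∈ P) (hwz : w * z = z * w)
    {i j : Bool} (h : n * w * n⁻¹ = ee z s i j * w) :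
    i = b8 (F.ups (n * p * n⁻¹ * p⁻¹)) (F.ups w) := by
  obtain ⟨hbP, hbz⟩ := F.comm_P_mem hn hns hp hpz hpz'
  have hbw := F.conj_WW hw hwz hbP hbz
  obtain ⟨b, hb⟩ : ∃ b, b = n * p * n⁻¹ * p⁻¹ := ⟨_, rfl⟩
  rw [← hb] at hbP hbz hbw ⊢
  have hnp : n * p * n⁻¹ = b * p := by rw [hb]; group
  have hbs := F.W_comm_s hbP
  obtain ⟨k, hk⟩ : ∃ k, p * w * p⁻¹ = ee z s false k * w := by
    rcases F.pair.subP.conj_eq hp hw with e | e
    · exact ⟨false, by rw [e]; simp [ee]⟩
    · exact ⟨true, by rw [e]; simp [ee]⟩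
  have h1 : n * (p * w * p⁻¹) * n⁻¹ = ee z s false k * (ee z s i j * w) := by
    rw [hk, ← h]
    calc n * (ee z s false k * w) * n⁻¹ = (n * ee z s false k * n⁻¹) * (n * w * n⁻¹) := by group
      _ = _ := by rw [F.conj_ee _ _ hn hns]
  have h2 : n * (p * w * p⁻¹) * n⁻¹ =
      (b * ee z s i (xor i j) * b⁻¹) * (b * ee z s false k * b⁻¹) * (b * w * b⁻¹) := by
    calc n * (p * w * p⁻¹) * n⁻¹ = (n * p * n⁻¹) * (n * w * n⁻¹) * (n * p * n⁻¹)⁻¹ := by group
      _ = b * (p * ee z s i j * p⁻¹) * (p * w * p⁻¹) * b⁻¹ := by rw [hnp, h]; group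
      _ = _ := by rw [F.conj_ee_P _ _ hp hpz, hk]; group
  rw [h1, F.conj_ee _ _ hbz hbs, F.conj_ee _ _ hbz hbs, hbw, ← mul_assoc, ← mul_assoc,
    F.ee_mul, F.ee_mul, F.ee_mul] at h2
  have h3 := (F.ee_mul_inj h2).2
  revert h3
  cases i <;> cases j <;> cases k <;> cases b8 (F.ups b) (F.ups w) <;> simp

/-- The commutator of an element of `C_Q(s)` with `p` has the same class. -/
theorem ups_comm_P {a p : G} (ha : a ∈ Q) (has : a * s = s * a) (hp : p ∈ P)
    (hpz : p * z * p⁻¹ = s * z) (hpz' : p⁻¹ * z * p = s * z) :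
    F.ups (a * p * a⁻¹ * p⁻¹) = cls π a := by
  refine eq_of_add_eq_zero8 (eq_zero_of_orthU _ (inU_add (F.ups_inU _) (cls_inU π a)) fun u hu => ?_)
  obtain ⟨w, hw, hwz, hwu⟩ := F.exists_ups hu
  have h := F.z_exponent (F.data.Q_comm ha) has hp hpz hpz' hw hwz (F.comm_QW ha has hw hwz).2
  rw [hwu] at h
  rw [b8_comm, b8_add_left, ← h, Bool.xor_self]

end Frame

end CfsgLib.ConwayType
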