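import Cfsg.Agent.ConwayType.Root

/-!
# Choosing the coordinates so that the first singular vector beside the axis is the good one
-/

set_option autoImplicit false
set_option linter.unusedSectionVars false
set_option maxRecDepth 100000

namespace CfsgLib.ConwayType

open CfsgLib.LargeExtraspecial

/-- The reflection exchanging `64` and `128`. -/
def flp (v : V8) : V8 := rf (mk8 192) v

theorem flp_facts : (∀ v : V8, flp (flp v) = v) ∧ flp 0 = 0 ∧ flp s0 = s0 ∧ flp d0 = d0 ∧
    flp (mk8 64) = mk8 128 ∧ flp (mk8 128) = mk8 64 ∧ (∀ v : V8, q8 (flp v) = q8 v) ∧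
    (∀ v : V8, flp (ell v) = ell (flp v)) ∧ ∀ v : V8, mk8 v.bits = v := by decide +kernel

theorem flp_add (u v : V8) : flp (u + v) = flp u + flp v := by
  simp only [flp, rf, b8_add_left]
  have h := add_self8 (mk8 192)
  cases b8 u (mk8 192) <;> cases b8 v (mk8 192) <;> simp
  · rw [add_assoc]
  · abel
  · calc u + v = u + v + (mk8 192 + mk8 192) := by rw [h, add_zero]
      _ = _ := by abel

theorem flp_iso : IsIso8 flp := ⟨flp_add, flp_facts.2.2.2.2.2.2.1⟩

theorem rf_flp (a v : V8) : rf (flp a) (flp v) = flp (rf a v) := by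
  rw [rf, rf, flp_iso.polar]
  split
  · rw [flp_add]
  · rfl

variable {G : Type*} [Group G] [Finite G] {z s q0 p : G} {Q P : Subgroup G} {π : G → V8}

/-- The data in the exchanged coordinates. -/
theorem Data.flip (D : Data z Q π) : Data z Q fun x => flp (π x) := by
  obtain ⟨h1, h2, -, -, -, -, hq, -, hmk⟩ := flp_facts
  refine ⟨D.sub, D.card, fun x hx y hy => by rw [D.map_mul x hx y hy, flp_add], fun x hx => ?_,
    fun v => ?_, fun x hx => by rw [D.sq x hx, hq], fun r hr => ?_, fun c hc h => ?_,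
    D.card_cent, D.nwc⟩
  · rw [← D.ker x hx]
    exact ⟨fun h => by rw [← h1 (π x), h, h2], fun h => by rw [h, h2]⟩
  · obtain ⟨x, hx, he⟩ := D.surj (flp v)
    exact ⟨x, hx, by rw [he, h1]⟩
  · obtain ⟨c, hc, hcv⟩ := D.pairs ((flp (mk8 r.1)).bits, (flp (mk8 r.2)).bits) (by
      simp only [okPair, hmk, hq] at hr ⊢; exact hr)
    refine ⟨c, hc, fun x hx => ?_⟩
    rw [hcv x hx]
    simp only [pr, hmk]
    rw [← rf_flp, ← rf_flp, h1, h1]
  · exact D.faithful c hc fun x hx => by
      have h' := h x hx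
      rw [← h1 (π (c * x * c⁻¹)), h', h1]

/-- The frame in the exchanged coordinates. -/
theorem Frame2.flip (K : Frame2 z Q π P s q0 p) : Frame2 z Q (fun x => flp (π x)) P s q0 p := by
  obtain ⟨h1, h2, hs, hd, -⟩ := flp_facts
  exact ⟨⟨K.toFrame.data.flip, K.toFrame.pair, by rw [K.toFrame.π_s, hs]⟩, K.q0_mem,
    by rw [K.π_q0, hd], K.p_mem, K.p_z, K.p_z'⟩

/-- A frame in which the root element centralizes the elements over `64`. -/
structure Good {G : Type*} [Group G] (z : G) (Q : Subgroup G) (π : G → V8) (P : Subgroup G)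
    (s q0 p k : G) : Prop where
  toFrame2 : Frame2 z Q π P s q0 p
  k_mem : k ∈ levi z s q0 p
  k_act : ∀ v, toFrame2.toFrame.data.act k v = ell v
  k_good : ∀ a ∈ Q, π a = mk8 64 → k * a = a * k

theorem exists_good (D : Data z Q π) :
    ∃ (π' : G → V8) (P : Subgroup G) (s q0 p k : G), Good z Q π' P s q0 p k := by
  obtain ⟨P, s, F⟩ := exists_frame D
  obtain ⟨q0, p, K⟩ := F.exists_frame2
  obtain ⟨k, hk, hact⟩ := K.exists_ell
  obtain ⟨e, he, hπe⟩ := F.data.surj (mk8 64)
  obtain ⟨f, hf, hπf⟩ := F.data.surj (mk8 128)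
  have hkz := K.levi_z hk
  rcases K.ell_good hk hact he hπe hf hπf with hc | hc
  · exact ⟨π, P, s, q0, p, k, K, hk, hact,
      fun a ha hπ => F.data.commute_congr hkz he ha (hπe.trans hπ.symm) hc⟩
  · obtain ⟨h1, -, -, -, -, h128, -, hell, -⟩ := flp_facts
    refine ⟨fun x => flp (π x), P, s, q0, p, k, K.flip, hk, fun v => ?_, fun a ha hπ => ?_⟩
    · obtain ⟨x, hx, he'⟩ := K.flip.toFrame.data.surj v
      rw [← he', K.flip.toFrame.data.act_π hkz hx, ← hell]
      rw [← hact, F.data.act_π hkz hx]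
    · exact F.data.commute_congr hkz hf ha
        (by rw [hπf, ← h1 (π a), hπ]; exact flp_facts.2.2.2.2.1.symm) hc

end CfsgLib.ConwayType
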