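import Cfsg.Agent.ConwayType.RankFour

/-!
# Every involution is conjugate to one of three
-/

set_option autoImplicit false

namespace CfsgLib.ConwayType

open CfsgLib.LargeExtraspecial

namespace Frame

variable {G : Type*} [Group G] [Finite G] {z s : G} {Q P : Subgroup G} {π : G → V8}
  (F : Frame z Q π P s)
include F

/-- An involution of `C(z)` outside `Q` fixes at least sixteen vectors. -/
theorem fixed_card {x : G} (hx : x * z = z * x) (h2 : x * x = 1) (hxQ : x ∉ Q) :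
    16 ≤ (Finset.univ.filter fun v => F.data.act x v = v).card := by
  classical
  obtain ⟨c, hc, hcase⟩ := F.normal_form hx h2 hxQ
  have key : ∀ f : V8 → V8, (∀ v, F.data.act (c * x * c⁻¹) v = f v) →
      (Finset.univ.filter fun v => f v = v).card ≤
        (Finset.univ.filter fun v => F.data.act x v = v).card := by
    intro f hf
    refine Finset.card_le_card_of_injOn (F.data.act c⁻¹) (fun v hv => ?_) fun a _ b _ h => ?_
    · simp only [Finset.coe_filter, Finset.mem_univ, true_and, Set.mem_ofPred_eq] at hv ⊢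
      rw [← hf, F.data.act_conj hc hx] at hv
      have := congrArg (F.data.act c⁻¹) hv
      rwa [(F.data.act_cancel hc _).1] at this
    · rw [← (F.data.act_cancel hc a).2, h, (F.data.act_cancel hc b).2]
  rcases hcase with ⟨u, hu, -, hact⟩ | ⟨-, u, hu, hfix, -, hact⟩
  · exact (sie_kernel u hu).trans (key _ hact)
  · exact (ell_sie_kernel u hu hfix).trans (key _ hact)

/-- The three classes cover all involutions. -/
theorem classify {aS wS aU wU : G}
    (haS : aS ∈ Q) (haSs : aS * s = s * aS) (hwS : wS ∈ P) (hwSz : wS * z = z * wS)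
    (hAS : cls π aS = aT) (hUS : F.ups wS = uT)
    (haU : aU ∈ Q) (haUs : aU * s = s * aU) (hwU : wU ∈ P) (hwUz : wU * z = z * wU)
    (hAU : cls π aU = aN) (hUU : F.ups wU = uN) {x : G} (hx : orderOf x = 2) :
    IsConj x z ∨ IsConj x (aS * wS) ∨ IsConj x (aU * wU) := by
  have : Fact (Nat.Prime 2) := ⟨Nat.prime_two⟩
  suffices H : ∃ x', IsConj x x' ∧
      (IsConj z x' ∨ IsConj (aS * wS) x' ∨ IsConj (aU * wU) x') by
    obtain ⟨x', h1, h2⟩ := H
    rcases h2 with h | h | h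
    · exact Or.inl (h1.trans h.symm)
    · exact Or.inr (Or.inl (h1.trans h.symm))
    · exact Or.inr (Or.inr (h1.trans h.symm))
  obtain ⟨S, -, hS, -⟩ := F.data.sub.exists_sylow
  have hp : IsPGroup 2 (Subgroup.zpowers x) := IsPGroup.of_card (n := 1) (by
    rw [Nat.card_zpowers, hx, pow_one])
  obtain ⟨T, hT⟩ := hp.exists_le_sylow
  obtain ⟨g, hg⟩ := MulAction.exists_smul_eq G T S
  have hmem : g * x * g⁻¹ ∈ (S : Subgroup G) := by
    rw [← hg]
    exact ⟨x, hT (Subgroup.mem_zpowers _), rfl⟩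
  have hx2 : x * x = 1 := by rw [← pow_two, ← hx, pow_orderOf_eq_one]
  have hx1 : x ≠ 1 := fun e => by simp [e] at hx
  obtain ⟨y, hy⟩ : ∃ y, y = g * x * g⁻¹ := ⟨_, rfl⟩
  rw [← hy] at hmem
  have hyz : y * z = z * y := Subgroup.mem_centralizer_singleton_iff.1 (hS hmem)
  have hyy : y * y = 1 := by
    rw [hy, show g * x * g⁻¹ * (g * x * g⁻¹) = g * (x * x) * g⁻¹ by group, hx2]; group
  have hy1 : y ≠ 1 := fun e => hx1 (conj_eq_one_iff.1 (hy ▸ e))
  have hgy : IsConj x y := isConj_iff.2 ⟨g, hy.symm⟩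
  by_cases hyQ : y ∈ Q
  · refine ⟨y, hgy, Or.inl ?_⟩
    by_cases hyz' : y = z
    · rw [hyz']
    · exact F.isConj_of_mem hyQ hyy hy1 hyz'
  have fin : ∀ (k : G) (u : V8), (k * y * k⁻¹) * z = z * (k * y * k⁻¹) → InU u → u ≠ 0 →
      (∀ v, F.data.act (k * y * k⁻¹) v = sie u v) → ∃ x', IsConj x x' ∧
        (IsConj z x' ∨ IsConj (aS * wS) x' ∨ IsConj (aU * wU) x') := by
    intro k u h1 hu hu0 hact
    have h2 : k * y * k⁻¹ * (k * y * k⁻¹) = 1 := by
      rw [show k * y * k⁻¹ * (k * y * k⁻¹) = k * (y * y) * k⁻¹ by group, hyy]; group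
    obtain ⟨a, w, ha, has, hw, hwz, hwu, heq⟩ := F.sie_decomp h1 h2 hu hu0 hact
    refine ⟨k * y * k⁻¹, hgy.trans (isConj_iff.2 ⟨k, rfl⟩), ?_⟩
    rw [heq] at h2 ⊢
    exact F.r_cases haS haSs hwS hwSz hAS hUS haU haUs hwU hwUz hAU hUU ha has hw hwz
      (by rw [hwu]; exact hu0) h2
  obtain ⟨c, hc, hcase⟩ := F.normal_form hyz hyy hyQ
  have hcy : (c * y * c⁻¹) * z = z * (c * y * c⁻¹) :=
    ((Commute.mul_left hc hyz).mul_left (Commute.inv_left hc)).eq
  rcases hcase with ⟨u, hu, hu0, hact⟩ | ⟨hcs, u, hu, hfix, hnI, hact⟩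
  · exact fin c u hcy hu hu0 hact
  · have h4 : Four F (c * y * c⁻¹) u := ⟨hcy, by
      rw [show c * y * c⁻¹ * (c * y * c⁻¹) = c * (y * y) * c⁻¹ by group, hyy]; group,
      hcs, hu, hfix, hnI, hact⟩
    obtain ⟨k, u', h1, h2, h3, -, h5⟩ := four_fuse h4
    have e : k * (c * y * c⁻¹) * k⁻¹ = k * c * y * (k * c)⁻¹ := by group
    rw [e] at h1 h5
    exact fin (k * c) u' h1 h2 h3 h5

end Frame

end CfsgLib.ConwayType
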