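import Cfsg.Agent.ConwayType.Exponents
import Cfsg.Agent.ConwayType.RGroup

/-!
# A Levi complement in `C(z) ∩ C(s)`

Fixing an element `q0` of `Q` over `d0` and an element `p` of `P` that moves `z`, the elements of
`C(z) ∩ C(s)` commuting with both are determined by their action on the orthogonal of `s0` and `d0`.
-/

set_option autoImplicit false
set_option linter.unusedSectionVars false

namespace CfsgLib.ConwayType

open CfsgLib.LargeExtraspecial

/-- A frame with chosen elements moving `s` and `z`. -/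
structure Frame2 {G : Type*} [Group G] (z : G) (Q : Subgroup G) (π : G → V8) (P : Subgroup G)
    (s q0 p : G) : Prop where
  toFrame : Frame z Q π P s
  q0_mem : q0 ∈ Q
  π_q0 : π q0 = d0
  p_mem : p ∈ P
  p_z : p * z * p⁻¹ = s * z
  p_z' : p⁻¹ * z * p = s * z

variable {G : Type*} [Group G] [Finite G] {z s q0 p : G} {Q P : Subgroup G} {π : G → V8}

theorem Frame.exists_frame2 (F : Frame z Q π P s) : ∃ q0 p, Frame2 z Q π P s q0 p := by
  obtain ⟨q0, hq, hπ⟩ := F.data.surj d0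
  obtain ⟨p, hp, h1, h2⟩ := F.exists_moving
  exact ⟨q0, p, F, hq, hπ, hp, h1, h2⟩

/-- The elements commuting with `z`, `s`, `q0` and `p`. -/
def levi {G : Type*} [Group G] (z s q0 p : G) : Subgroup G :=
  Subgroup.centralizer ({z, s, q0, p} : Set G)

theorem inU_of_orth : ∀ v : V8, b8 v s0 = false → b8 v d0 = false → InU v := by decide +kernel

theorem expand_hyper : ∀ v : V8, ∃ a b : Bool, v = pU v + sm a s0 + sm b d0 := by decide +kernel

namespace Frame2

variable (K : Frame2 z Q π P s q0 p)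
include K

theorem q0_z : q0 * z = z * q0 := K.toFrame.data.Q_comm K.q0_mem

theorem p_s : p * s = s * p := K.toFrame.W_comm_s K.p_mem

theorem q0_not_comm : ¬ q0 * s = s * q0 := fun e => by
  have := (K.toFrame.comm_s_iff K.q0_mem).1 e
  rw [K.π_q0] at this
  exact absurd this (by decide)

theorem q0_s : q0 * s * q0⁻¹ = z * s :=
  K.toFrame.data.sub.conj_of_not_commute K.q0_mem K.toFrame.pair.mem K.q0_not_comm

omit [Finite G] in
theorem mem_levi {n : G} : n ∈ levi z s q0 p ↔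
    n * z = z * n ∧ n * s = s * n ∧ n * q0 = q0 * n ∧ n * p = p * n := by
  rw [levi, Subgroup.mem_centralizer_iff]
  constructor
  · intro h
    exact ⟨(h z (by simp)).symm, (h s (by simp)).symm, (h q0 (by simp)).symm, (h p (by simp)).symm⟩
  · rintro ⟨h1, h2, h3, h4⟩ x hx
    rcases hx with rfl | rfl | rfl | rfl
    exacts [h1.symm, h2.symm, h3.symm, h4.symm]

theorem levi_z {n : G} (hn : n ∈ levi z s q0 p) : n * z = z * n := (K.mem_levi.1 hn).1

theorem levi_s {n : G} (hn : n ∈ levi z s q0 p) : n * s = s * n := (K.mem_levi.1 hn).2.1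

theorem act_levi_s0 {n : G} (hn : n ∈ levi z s q0 p) : K.toFrame.data.act n s0 = s0 :=
  K.toFrame.act_s (K.levi_z hn) (K.levi_s hn)

theorem act_levi_d0 {n : G} (hn : n ∈ levi z s q0 p) : K.toFrame.data.act n d0 = d0 := by
  rw [← K.π_q0, K.toFrame.data.act_π (K.levi_z hn) K.q0_mem,
    mul_inv_eq_iff_eq_mul.2 (K.mem_levi.1 hn).2.2.1]

/-- The action of a member of the complement preserves the orthogonal of `s0` and `d0`. -/
theorem act_levi_inU {n : G} (hn : n ∈ levi z s q0 p) {v : V8} (hv : InU v) :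
    InU (K.toFrame.data.act n v) := by
  have hi := K.toFrame.data.act_iso (K.levi_z hn)
  refine inU_of_orth _ ?_ ?_
  · rw [← K.act_levi_s0 hn, hi.polar, (inU_orth v hv).1]
  · rw [← K.act_levi_d0 hn, hi.polar, (inU_orth v hv).2]

/-- A member of the complement acting trivially on that space is trivial. -/
theorem eq_one_of_act {n : G} (hn : n ∈ levi z s q0 p)
    (h : ∀ v, InU v → K.toFrame.data.act n v = v) : n = 1 := by
  obtain ⟨hnz, hns, hnq, hnp⟩ := K.mem_levi.1 hn
  have hact : ∀ v, K.toFrame.data.act n v = v := by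
    intro v
    obtain ⟨a, b, he⟩ := expand_hyper v
    have hi := K.toFrame.data.act_iso hnz
    rw [he, hi.add, hi.add, hi.map_sm, hi.map_sm, K.act_levi_s0 hn, K.act_levi_d0 hn,
      h _ (pU_pU v)]
  have hnQ := K.toFrame.data.mem_of_act hnz hact
  have hcl : cls π n = 0 := by
    rw [← K.toFrame.ups_comm_P hnQ hns K.p_mem K.p_z K.p_z', hnp, mul_inv_cancel_right,
      mul_inv_cancel, K.toFrame.ups_memE (Or.inl rfl)]
  obtain ⟨hz1, hs1, hzs, hzs1, hzsz, hzss⟩ := K.toFrame.zs_facts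
  have hsz := K.toFrame.s_comm
  rcases K.toFrame.memE_of_cls hnQ hns hcl with e | e | e | e
  · exact e
  · subst e
    have h1 := K.p_z
    rw [← hnp, mul_inv_cancel_right] at h1
    exact absurd (mul_eq_right.1 h1.symm) hs1
  · subst e
    exact absurd hnq.symm K.q0_not_comm
  · subst e
    exfalso
    have h1 : q0 * (z * s) * q0⁻¹ = z * s := mul_inv_eq_iff_eq_mul.2 hnq.symm
    rw [show q0 * (z * s) * q0⁻¹ = (q0 * z * q0⁻¹) * (q0 * s * q0⁻¹) by group, K.q0_s,
      mul_inv_eq_iff_eq_mul.2 K.q0_z] at h1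
    exact hz1 (mul_eq_right.1 h1)

/-- Members of the complement with the same action are equal. -/
theorem eq_of_act {n m : G} (hn : n ∈ levi z s q0 p) (hm : m ∈ levi z s q0 p)
    (h : ∀ v, InU v → K.toFrame.data.act n v = K.toFrame.data.act m v) : n = m := by
  have hmi := inv_mem hm
  have := K.eq_one_of_act (mul_mem hmi hn) fun v hv => by
    rw [K.toFrame.data.act_mul (K.levi_z hmi) (K.levi_z hn), h v hv,
      ← K.toFrame.data.act_mul (K.levi_z hmi) (K.levi_z hm), inv_mul_cancel,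
      K.toFrame.data.act_one]
  exact (inv_mul_eq_one.1 this).symm

/-- Lifts into the complement of words fixing `s0` and `d0`. -/
theorem exists_levi (wd : List (ℕ × ℕ)) (hok : ∀ x ∈ wd, okPair x = true ∧ pr x s0 = s0)
    (hd : pw wd d0 = d0) : ∃ n ∈ levi z s q0 p, ∀ v, K.toFrame.data.act n v = pw wd v := by
  have F := K.toFrame
  obtain ⟨n₀, h0z, h0s, h0act⟩ := F.exists_pw wd hok
  -- kill the class of the commutator with `p`
  obtain ⟨hbP, hbz⟩ := F.comm_P_mem h0z h0s K.p_mem K.p_z K.p_z'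
  obtain ⟨a, ha, has, hπa⟩ := F.exists_mem (F.ups (n₀ * p * n₀⁻¹ * p⁻¹))
    (inU_orth _ (F.ups_inU _)).1
  have haz := F.data.Q_comm ha
  obtain ⟨n₁, hn₁⟩ : ∃ n₁, n₁ = a * n₀ := ⟨_, rfl⟩
  have h1z : n₁ * z = z * n₁ := hn₁ ▸ (Commute.mul_left haz h0z).eq
  have h1s : n₁ * s = s * n₁ := hn₁ ▸ (Commute.mul_left has h0s).eq
  have h1act : ∀ v, F.data.act n₁ v = pw wd v := fun v => by
    rw [hn₁, F.data.act_mul haz h0z, F.data.act_of_mem ha, h0act]
  obtain ⟨h1P, h1Pz⟩ := F.comm_P_mem h1z h1s K.p_mem K.p_z K.p_z'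
  have h1u : F.ups (n₁ * p * n₁⁻¹ * p⁻¹) = 0 := by
    obtain ⟨h8, h9⟩ := F.conj_mem_W haz has hbP hbz
    obtain ⟨h6, h7⟩ := F.comm_P_mem haz has K.p_mem K.p_z K.p_z'
    rw [hn₁, show a * n₀ * p * (a * n₀)⁻¹ * p⁻¹ =
      (a * (n₀ * p * n₀⁻¹ * p⁻¹) * a⁻¹) * (a * p * a⁻¹ * p⁻¹) by group,
      F.ups_mul h8 h9 h6 h7, F.ups_comm_P ha has K.p_mem K.p_z K.p_z',
      F.ups_conj haz has hbP hbz, F.data.act_of_mem ha, cls, hπa, F.ups_inU,
      add_self8]
  obtain ⟨i, j, hij⟩ := Frame.exists_ee (z := z) (s := s) (F.memE_of_ups h1P h1Pz h1u)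
  have hnp : n₁ * p * n₁⁻¹ = ee z s i j * p := by rw [← hij]; group
  -- the exponent of `z` vanishes
  obtain ⟨k, hk⟩ : ∃ k, p * p = ee z s false k := by
    rcases F.pair.subP.sq_eq K.p_mem with e | e
    · exact ⟨false, by rw [e]; simp [ee]⟩
    · exact ⟨true, by rw [e]; simp [ee]⟩
  have hi : i = false := by
    have h1 : n₁ * (p * p) * n₁⁻¹ = p * p := by rw [hk, F.conj_ee _ _ h1z h1s]
    rw [show n₁ * (p * p) * n₁⁻¹ = (n₁ * p * n₁⁻¹) * (n₁ * p * n₁⁻¹) by group, hnp,
      show ee z s i j * p * (ee z s i j * p) =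
        ee z s i j * (p * ee z s i j * p⁻¹) * (p * p) by group,
      F.conj_ee_P _ _ K.p_mem K.p_z, F.ee_mul] at h1
    have h2 := mul_eq_right.1 h1
    rw [← Frame.ee_false (z := z) (s := s)] at h2
    have h3 := (F.ee_inj h2).2
    revert h3
    cases i <;> cases j <;> simp
  subst hi
  -- the commutator with `q0`
  obtain ⟨l, hnq⟩ : ∃ l, n₁ * q0 * n₁⁻¹ = ee z s l false * q0 := by
    have h1 := F.data.sub.conj_mem h1z K.q0_mem
    rcases F.data.eq_or_eq_of_π_eq K.q0_mem h1 (by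
      rw [← F.data.act_π h1z K.q0_mem, K.π_q0, h1act, hd]) with e | e
    · exact ⟨false, by rw [e, Frame.ee_false, one_mul]⟩
    · exact ⟨true, by rw [e]; simp [ee]⟩
  -- correct by an element of `⟨z, s⟩`
  obtain ⟨n, hn⟩ : ∃ n, n = ee z s j l * n₁ := ⟨_, rfl⟩
  have hee : ∀ {x : G}, x * z = z * x → x * s = s * x → x * ee z s j l = ee z s j l * x :=
    fun hxz hxs => (F.ee_comm _ _ hxz hxs)
  obtain ⟨heQ, -⟩ := F.memE_mem (F.ee_memE j l)
  have hez := F.data.Q_comm heQ
  have hes : ee z s j l * s = s * ee z s j l :=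
    (hee (F.s_comm) rfl).symm
  refine ⟨n, K.mem_levi.2 ⟨hn ▸ (Commute.mul_left hez h1z).eq, hn ▸ (Commute.mul_left hes h1s).eq,
    mul_inv_eq_iff_eq_mul.1 ?_, mul_inv_eq_iff_eq_mul.1 ?_⟩, fun v => ?_⟩
  · have hq := F.conj_ee_Q j l K.q0_mem K.q0_s
    have hzq : ee z s l false * q0 = q0 * ee z s l false := by
      cases l
      · simp [ee]
      · simp [ee, K.q0_z]
    calc n * q0 * n⁻¹ = ee z s j l * (n₁ * q0 * n₁⁻¹) * (ee z s j l)⁻¹ := by rw [hn]; group
      _ = ee z s j l * ee z s l false * (q0 * (ee z s j l)⁻¹ * q0⁻¹) * q0 := by rw [hnq]; group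
      _ = q0 := by
        rw [F.ee_inv, hq, F.ee_mul, F.ee_mul]
        cases j <;> cases l <;> simp [ee]
  · calc n * p * n⁻¹ = ee z s j l * (n₁ * p * n₁⁻¹) * (ee z s j l)⁻¹ := by rw [hn]; group
      _ = ee z s j l * ee z s false j * (p * (ee z s j l)⁻¹ * p⁻¹) * p := by rw [hnp]; group
      _ = p := by
        rw [F.ee_inv, F.conj_ee_P _ _ K.p_mem K.p_z, F.ee_mul, F.ee_mul]
        cases j <;> cases l <;> simp [ee]
  · rw [hn, F.data.act_mul hez h1z, F.data.act_of_mem heQ, h1act]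

end Frame2

end CfsgLib.ConwayType
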