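import Cfsg.Agent.ConwayType.Basics
import Cfsg.Agent.LargeExtraspecial.PairNormalizer

/-!
# The pair `Q`, `P` attached to a conjugate `s` of `z` in `Q`
-/

set_option autoImplicit false

namespace CfsgLib.ConwayType

open CfsgLib.LargeExtraspecial

/-- A conjugate `s` of `z` in `Q` with standard coordinates, and its subgroup `P`. -/
structure Frame {G : Type*} [Group G] (z : G) (Q : Subgroup G) (π : G → V8) (P : Subgroup G)
    (s : G) : Prop where
  data : Data z Q π
  pair : PairData Q P z s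
  π_s : π s = s0

variable {G : Type*} [Group G] {z s : G} {Q P : Subgroup G} {π : G → V8}

theorem exists_frame [Finite G] (D : Data z Q π) : ∃ (P : Subgroup G) (s : G), Frame z Q π P s := by
  obtain ⟨g, hg, hne⟩ := D.nwc
  have hq : q8 (π (g * z * g⁻¹)) = false := (D.sq _ hg).1 (by
    calc g * z * g⁻¹ * (g * z * g⁻¹) = g * (z * z) * g⁻¹ := by group
      _ = 1 := by rw [D.sub.mul_self, mul_one, mul_inv_cancel])
  have h0 : π (g * z * g⁻¹) ≠ 0 := fun h => by
    rcases (D.ker _ hg).1 h with e | e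
    · exact D.sub.ne_one (conj_eq_one_iff.1 e)
    · exact hne e
  have hreach : ∀ v ∈ singList, ∃ c, c * z = z * c ∧ D.act c v = s0 :=
    chainOK_prop (P := fun v => ∃ c, c * z = z * c ∧ D.act c v = s0)
      ⟨1, by simp, D.act_one _⟩ (fun g hgm v hv => by
        obtain ⟨p, hp, rfl⟩ := List.mem_map.1 hgm
        obtain ⟨c, hc, hcv⟩ := hv
        obtain ⟨d, hd, hdv⟩ := D.exists_pr (allGens_ok p hp)
        have hdi : d⁻¹ * z = z * d⁻¹ := (Commute.inv_left hd).eq
        refine ⟨c * d⁻¹, (Commute.mul_left hc hdi).eq, ?_⟩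
        rw [← hdv, D.act_mul hc hdi, ← D.act_mul hdi hd, inv_mul_cancel, D.act_one, hcv])
      singList singList_facts.1
  obtain ⟨c, hc, hcs⟩ := hreach _ (singList_facts.2 _ hq h0)
  rw [D.act_π hc hg] at hcs
  have hmem : (c * g) * z * (c * g)⁻¹ ∈ Q := by
    have := D.sub.conj_mem hc hg
    simpa [mul_assoc] using this
  have hπ : π ((c * g) * z * (c * g)⁻¹) = s0 := by rw [← hcs]; congr 1; group
  refine ⟨_, _, D, pairData_of_mem D.sub (by rw [D.card]; norm_num) hmem fun e => ?_, hπ⟩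
  rw [e, D.π_z] at hπ
  exact s0_ne_zero hπ.symm

/-- The class of an element of `C_Q(s)` modulo `⟨z, s⟩`. -/
def cls (π : G → V8) (a : G) : V8 := pU (π a)

/-- Membership of `⟨z, s⟩`. -/
def MemE (z s e : G) : Prop := e = 1 ∨ e = z ∨ e = s ∨ e = z * s

omit [Group G] in
theorem cls_inU (π : G → V8) (a : G) : InU (cls π a) := pU_pU _

theorem hsStab_ok : ∀ p ∈ hsGens ++ stabPairs, okPair p = true ∧ pr p s0 = s0 := fun p hp => by
  rcases List.mem_append.1 hp with h | h
  · exact hsGens_ok p h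
  · exact stabPairs_ok p h

namespace Frame

variable (F : Frame z Q π P s)
include F

theorem s_comm : s * z = z * s := F.pair.comm

theorem s_mul_self : s * s = 1 := F.pair.subP.mul_self

theorem isConj_z_s : IsConj z s := by
  obtain ⟨g, hg, -⟩ := F.pair.conj
  exact isConj_iff.2 ⟨g, hg⟩

theorem exists_swap [Finite G] : ∃ y, y * z * y⁻¹ = s ∧ y * s * y⁻¹ = z := by
  obtain ⟨-, -, φ, hφ, hsurj⟩ := F.pair.main
  obtain ⟨a, -, ha⟩ := hsurj (Equiv.swap 0 1)
  have e0 := hφ a 0
  have e1 := hφ a 1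
  rw [ha, Equiv.swap_apply_left] at e0
  rw [ha, Equiv.swap_apply_right] at e1
  exact ⟨a, e0.symm, e1.symm⟩

theorem swap_inv {y : G} (h0 : y * z * y⁻¹ = s) (h1 : y * s * y⁻¹ = z) :
    y⁻¹ * z * (y⁻¹)⁻¹ = s ∧ y⁻¹ * s * (y⁻¹)⁻¹ = z := by
  constructor
  · conv_lhs => rw [← h1]
    group
  · conv_lhs => rw [← h0]
    group

theorem swap_mem {y : G} (h0 : y * z * y⁻¹ = s) (h1 : y * s * y⁻¹ = z) {x : G} :
    (x ∈ Q → y * x * y⁻¹ ∈ P) ∧ (x ∈ P → y * x * y⁻¹ ∈ Q) := by
  obtain ⟨g, hg, hgP⟩ := F.pair.conj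
  have hmap := F.data.sub.map_conj_eq (h0.trans hg.symm)
  refine ⟨fun hx => by rw [← hgP, ← hmap]; exact ⟨x, hx, rfl⟩, fun hx => ?_⟩
  have h2 : (y * y) * z * (y * y)⁻¹ = z := by
    calc _ = y * (y * z * y⁻¹) * y⁻¹ := by group
      _ = z := by rw [h0, h1]
  rw [← hgP, ← hmap] at hx
  obtain ⟨x', hx', rfl⟩ := hx
  have := F.data.sub.conj_mem (mul_inv_eq_iff_eq_mul.1 h2) hx'
  simpa [mul_assoc] using this

theorem swap_mem_W {y : G} (h0 : y * z * y⁻¹ = s) (h1 : y * s * y⁻¹ = z) {x : G} :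
    (x ∈ Q → x * s = s * x → y * x * y⁻¹ ∈ P ∧ y * x * y⁻¹ * z = z * (y * x * y⁻¹)) ∧
    (x ∈ P → x * z = z * x → y * x * y⁻¹ ∈ Q ∧ y * x * y⁻¹ * s = s * (y * x * y⁻¹)) := by
  refine ⟨fun hx hxs => ⟨(F.swap_mem h0 h1).1 hx, ?_⟩, fun hx hxz => ⟨(F.swap_mem h0 h1).2 hx, ?_⟩⟩
  · have := (Commute.conj_iff y).2 (show Commute x s from hxs)
    rw [h1] at this
    exact this.eq
  · have := (Commute.conj_iff y).2 (show Commute x z from hxz)
    rw [h0] at this
    exact this.eq

theorem comm_s_iff {a : G} (ha : a ∈ Q) : a * s = s * a ↔ b8 (π a) s0 = false := by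
  rw [F.data.commute_iff ha F.pair.mem, F.π_s]

theorem exists_mem (v : V8) (hv : b8 v s0 = false) : ∃ a ∈ Q, a * s = s * a ∧ π a = v := by
  obtain ⟨a, ha, rfl⟩ := F.data.surj v
  exact ⟨a, ha, (F.comm_s_iff ha).2 hv, rfl⟩

theorem act_s {c : G} (hc : c * z = z * c) (hcs : c * s = s * c) : F.data.act c s0 = s0 := by
  rw [← F.π_s, F.data.act_π hc F.pair.mem, mul_inv_eq_iff_eq_mul.2 hcs]

/-- Lifts into `C(z) ∩ C(s)` of pairs of reflections fixing `s0`. -/
theorem exists_pr {p : ℕ × ℕ} (hp : okPair p = true) (hps : pr p s0 = s0) :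
    ∃ n, n * z = z * n ∧ n * s = s * n ∧ ∀ v, F.data.act n v = pr p v := by
  obtain ⟨c, hc, hcv⟩ := F.data.exists_pr hp
  have h1 : π s = π (c * s * c⁻¹) := by
    rw [← F.data.act_π hc F.pair.mem, F.π_s, hcv, hps]
  rcases F.data.eq_or_eq_of_π_eq F.pair.mem (F.data.sub.conj_mem hc F.pair.mem) h1 with e | e
  · exact ⟨c, hc, mul_inv_eq_iff_eq_mul.1 e, hcv⟩
  · obtain ⟨q, hq, hqs⟩ := F.data.sub.exists_not_commute F.pair.subP.ne_one F.pair.ne
    have hqz := F.data.Q_comm hq
    have hqc := F.data.sub.conj_of_not_commute hq F.pair.mem hqs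
    refine ⟨q * c, (Commute.mul_left hqz hc).eq, mul_inv_eq_iff_eq_mul.1 ?_, fun v => ?_⟩
    · calc q * c * s * (q * c)⁻¹ = q * (c * s * c⁻¹) * q⁻¹ := by group
        _ = (q * z * q⁻¹) * (q * s * q⁻¹) := by rw [e]; group
        _ = s := by
          rw [hqc, mul_inv_eq_iff_eq_mul.2 hqz, ← mul_assoc, F.data.sub.mul_self, one_mul]
    · rw [F.data.act_mul hqz hc, F.data.act_of_mem hq, hcv]

theorem memE_mem {e : G} (he : MemE z s e) : e ∈ Q ∧ e ∈ P := by
  rcases he with rfl | rfl | rfl | rfl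
  · exact ⟨one_mem _, one_mem _⟩
  · exact ⟨F.data.sub.z_mem, F.pair.z_mem⟩
  · exact ⟨F.pair.mem, F.pair.subP.z_mem⟩
  · exact ⟨mul_mem F.data.sub.z_mem F.pair.mem, mul_mem F.pair.z_mem F.pair.subP.z_mem⟩

theorem memE_comm {e : G} (he : MemE z s e) {c : G} (hc : c * z = z * c) (hcs : c * s = s * c) :
    c * e = e * c := by
  rcases he with rfl | rfl | rfl | rfl
  · simp
  · exact hc
  · exact hcs
  · exact (Commute.mul_right hc hcs).eq

theorem memE_iff_cls {e : G} (he : e ∈ Q) : MemE z s e ↔ π e = 0 ∨ π e = s0 := by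
  constructor
  · rintro (rfl | rfl | rfl | rfl)
    · exact Or.inl F.data.π_one
    · exact Or.inl F.data.π_z
    · exact Or.inr F.π_s
    · exact Or.inr (by rw [F.data.π_z_mul F.pair.mem, F.π_s])
  · rintro (h | h)
    · rcases (F.data.ker e he).1 h with r | r
      · exact Or.inl r
      · exact Or.inr (Or.inl r)
    · rcases F.data.eq_or_eq_of_π_eq F.pair.mem he (by rw [h, F.π_s]) with r | r
      · exact Or.inr (Or.inr (Or.inl r))
      · exact Or.inr (Or.inr (Or.inr r))

theorem memE_of_mem [Finite G] {e : G} (heQ : e ∈ Q) (heP : e ∈ P) : MemE z s e := by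
  have hE : ∀ x, x ∈ Q → x ∈ P → x * x = 1 ∧ ∀ y, y ∈ Q → y ∈ P → x * y = y * x := by
    intro x hx hx'
    obtain ⟨⟨⟨hc⟩⟩, hsq⟩ := F.pair.isElementaryAbelian_inf
    refine ⟨?_, fun y hy hy' => congrArg Subtype.val
      (hc (⟨x, hx, hx'⟩ : (Q ⊓ P : Subgroup G)) ⟨y, hy, hy'⟩)⟩
    rw [← sq]; exact hsq x ⟨hx, hx'⟩
  rw [F.memE_iff_cls heQ]
  by_contra! hne
  have hes : b8 (π e) s0 = false := (F.comm_s_iff heQ).1 (F.pair.subP.z_comm heP)
  obtain ⟨p, hp, hb⟩ :=
    moved_by_gens (π e) ((F.data.sq e heQ).1 (hE e heQ heP).1) hes hne.1 hne.2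
  obtain ⟨n, hn, hns, hnv⟩ := F.exists_pr (hsStab_ok p hp).1 (hsStab_ok p hp).2
  have h := (F.data.commute_iff heQ (F.data.sub.conj_mem hn heQ)).1
    ((hE e heQ heP).2 _ (F.data.sub.conj_mem hn heQ) (F.pair.subP.conj_mem hns heP))
  rw [← F.data.act_π hn heQ, hnv, hb] at h
  exact Bool.noConfusion h

theorem cls_memE {e : G} (he : MemE z s e) : cls π e = 0 := by
  rcases (F.memE_iff_cls (F.memE_mem he).1).1 he with h | h <;> rw [cls, h] <;> decide

theorem memE_of_cls {a : G} (ha : a ∈ Q) (has : a * s = s * a) (h : cls π a = 0) : MemE z s a :=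
  (F.memE_iff_cls ha).2 (pU_eq_zero _ h ((F.comm_s_iff ha).1 has))

theorem cls_mul {a b : G} (ha : a ∈ Q) (hb : b ∈ Q) : cls π (a * b) = cls π a + cls π b := by
  rw [cls, F.data.map_mul a ha b hb, pU_add]; rfl

theorem cls_inv {a : G} (ha : a ∈ Q) : cls π a⁻¹ = cls π a := by rw [cls, F.data.π_inv ha]; rfl

theorem cls_conj {n a : G} (hn : n * z = z * n) (hns : n * s = s * n) (ha : a ∈ Q)
    (has : a * s = s * a) : cls π (n * a * n⁻¹) = pU (F.data.act n (cls π a)) := by
  rw [cls, ← F.data.act_π hn ha]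
  exact ((F.data.act_iso hn).pU_map_pU (F.act_s hn hns) ((F.comm_s_iff ha).1 has)).symm

/-! ### The subgroup `W = C_P(z)` -/

theorem W_comm_s {w : G} (hw : w ∈ P) : w * s = s * w := F.pair.subP.z_comm hw

/-- The coordinates of an element acting as a Siegel transformation. -/
noncomputable def ups (w : G) : V8 := pU (F.data.act w d0)

theorem ups_inU (w : G) : InU (F.ups w) := pU_pU _

theorem act_W [Finite G] {w : G} (hw : w ∈ P) (hwz : w * z = z * w) (v : V8) :
    F.data.act w v = sie (F.ups w) v := by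
  refine (F.data.act_iso hwz).eq_sie (F.act_s hwz (F.W_comm_s hw)) (fun x hx => ?_) v
  obtain ⟨a, ha, has, rfl⟩ := F.exists_mem x hx
  have hc : MemE z s (w * a * w⁻¹ * a⁻¹) := by
    refine F.memE_of_mem (mul_mem (F.data.sub.conj_mem hwz ha) (inv_mem ha)) ?_
    have := mul_mem hw (F.pair.subP.conj_mem has (inv_mem hw))
    simpa [mul_assoc] using this
  rw [F.data.act_π hwz ha, ← F.data.π_inv ha,
    ← F.data.map_mul _ (F.data.sub.conj_mem hwz ha) _ (inv_mem ha)]
  exact (F.memE_iff_cls (F.memE_mem hc).1).1 hc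

theorem ups_mul [Finite G] {w w' : G} (hw : w ∈ P) (hwz : w * z = z * w) (hw' : w' ∈ P)
    (hwz' : w' * z = z * w') : F.ups (w * w') = F.ups w + F.ups w' := by
  rw [ups, F.data.act_mul hwz hwz', F.act_W hw hwz, F.act_W hw' hwz']
  exact sie_sie_two _ (F.ups_inU w) _ (F.ups_inU w')

theorem memE_of_ups [Finite G] {w : G} (hw : w ∈ P) (hwz : w * z = z * w) (h : F.ups w = 0) :
    MemE z s w :=
  F.memE_of_mem (F.data.mem_of_act hwz fun v => by rw [F.act_W hw hwz, h, sie_zero]) hw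

theorem ups_memE {e : G} (he : MemE z s e) : F.ups e = 0 := by
  rw [ups, F.data.act_of_mem (F.memE_mem he).1]
  exact pU_d0

theorem ups_conj [Finite G] {n w : G} (hn : n * z = z * n) (hns : n * s = s * n) (hw : w ∈ P)
    (hwz : w * z = z * w) : F.ups (n * w * n⁻¹) = pU (F.data.act n (F.ups w)) := by
  have hz' : n * w * n⁻¹ * z = z * (n * w * n⁻¹) :=
    ((Commute.mul_left hn hwz).mul_left (Commute.inv_left hn)).eq
  have hni : n⁻¹ * z = z * n⁻¹ := (Commute.inv_left hn).eq
  have h := (F.data.act_iso hn).conj_sie (F.act_s hn hns) (F.ups_inU w) (F.data.act n⁻¹ d0)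
  rw [← F.act_W hw hwz, ← F.data.act_mul hn hwz, ← F.data.act_mul hn hni, mul_inv_cancel,
    F.data.act_one, ← F.data.act_mul (Commute.mul_left hn hwz).eq hni] at h
  rw [ups, h]
  exact sie_two _ (pU_pU _)

theorem card_centralizer_s [Finite G] :
    256 ≤ Nat.card ↥(Q ⊓ Subgroup.centralizer ({s} : Set G)) := by
  classical
  have hz : ∀ b : Bool, (if b then z else 1) ∈ Q := fun b => by
    cases b <;> simp [F.data.sub.z_mem]
  let f : {v : V8 // b8 v s0 = false} × Bool → ↥(Q ⊓ Subgroup.centralizer ({s} : Set G)) :=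
    fun x => ⟨(if x.2 then z else 1) * F.data.sec x.1.1, mul_mem (hz _) (F.data.sec_mem _),
      Subgroup.mem_centralizer_singleton_iff.2 ((F.comm_s_iff
        (mul_mem (hz _) (F.data.sec_mem _))).2 (by
          rw [F.data.map_mul _ (hz _) _ (F.data.sec_mem _), F.data.π_sec]
          cases x.2 <;> simp [F.data.π_z, F.data.π_one, x.1.2]))⟩
  have hinj : Function.Injective f := by
    rintro ⟨v, b⟩ ⟨v', b'⟩ h
    have h' : (if b then z else 1) * F.data.sec v.1 = (if b' then z else 1) * F.data.sec v'.1 :=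
      congrArg Subtype.val h
    have hv : v = v' := by
      apply Subtype.ext
      have := congrArg π h'
      rw [F.data.map_mul _ (hz b) _ (F.data.sec_mem _), F.data.map_mul _ (hz b') _ (F.data.sec_mem _),
        F.data.π_sec, F.data.π_sec] at this
      cases b <;> cases b' <;> simpa [F.data.π_z, F.data.π_one] using this
    subst hv
    have hne := F.data.sub.ne_one
    have h2 : (if b then z else 1) = (if b' then z else 1) := mul_right_cancel h'
    cases b <;> cases b'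
    · rfl
    · exact absurd h2.symm hne
    · exact absurd h2 hne
    · rfl
  have h := Nat.card_le_card_of_injective f hinj
  rwa [Nat.card_eq_fintype_card, card_orth_s0] at h

theorem exists_ups [Finite G] {u : V8} (hu : InU u) : ∃ w ∈ P, w * z = z * w ∧ F.ups w = u := by
  classical
  obtain ⟨y, hy1, hy2⟩ := F.exists_swap
  set W := P ⊓ Subgroup.centralizer ({z} : Set G)
  have hW : ∀ {w}, w ∈ W ↔ w ∈ P ∧ w * z = z * w := fun {w} => by
    rw [Subgroup.mem_inf, Subgroup.mem_centralizer_singleton_iff]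
  have hcard : 256 ≤ Nat.card W := by
    refine F.card_centralizer_s.trans (Nat.card_le_card_of_injective
      (fun a => ⟨y * a.1 * y⁻¹, hW.2 ((F.swap_mem_W hy1 hy2).1 a.2.1 ?_)⟩) fun a b h => ?_)
    · exact Subgroup.mem_centralizer_singleton_iff.1 a.2.2
    · exact Subtype.ext (mul_left_cancel (mul_right_cancel (congrArg Subtype.val h)))
  let f : W →* Multiplicative V8 :=
    MonoidHom.mk' (fun w => Multiplicative.ofAdd (F.ups w)) fun a b => by
      rw [← ofAdd_add]
      exact congrArg _ (F.ups_mul (hW.1 a.2).1 (hW.1 a.2).2 (hW.1 b.2).1 (hW.1 b.2).2)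
  have hker : Nat.card f.ker ≤ 4 := by
    let T : Finset G := {1, z, s, z * s}
    have : Nat.card f.ker ≤ T.card := by
      rw [← Nat.card_eq_finsetCard]
      refine Nat.card_le_card_of_injective (fun k => ⟨((k : W) : G), ?_⟩) fun a b h =>
        Subtype.ext (Subtype.ext (congrArg (fun t : T => (t : G)) h :))
      have h0 : F.ups ((k : W) : G) = 0 := Multiplicative.ofAdd.injective k.2
      rcases F.memE_of_ups (hW.1 k.1.2).1 (hW.1 k.1.2).2 h0 with e | e | e | e <;> simp [T, e]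
    exact this.trans Finset.card_le_four
  have hsub : ∀ x : f.range, InU (Multiplicative.toAdd (x : Multiplicative V8)) := by
    rintro ⟨_, w, rfl⟩
    exact F.ups_inU _
  have h16 : Fintype.card {v : V8 // InU v} = 64 := card_U
  let j : f.range → {v : V8 // InU v} := fun x => ⟨Multiplicative.toAdd x.1, hsub x⟩
  have hj : Function.Injective j := fun a b h =>
    Subtype.ext (Multiplicative.toAdd.injective (congrArg (fun t : {v : V8 // InU v} => t.1) h :))
  have hrange : 64 ≤ Nat.card f.range := by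
    have := f.ker.card_mul_index
    rw [Subgroup.index_ker] at this
    by_contra hlt
    have h2 : Nat.card f.ker * Nat.card f.range ≤ 4 * 63 :=
      Nat.mul_le_mul hker (by omega)
    omega
  let _ : Fintype f.range := Fintype.ofFinite _
  have hbij : Function.Bijective j := (Fintype.bijective_iff_injective_and_card j).2 ⟨hj, by
    have h2 := Fintype.card_le_of_injective j hj
    rw [Nat.card_eq_fintype_card] at hrange
    omega⟩
  obtain ⟨⟨_, w, rfl⟩, hx⟩ := hbij.2 ⟨u, hu⟩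
  exact ⟨w, (hW.1 w.2).1, (hW.1 w.2).2, congrArg Subtype.val hx⟩

theorem conj_mem_W {n w : G} (hn : n * z = z * n) (hns : n * s = s * n) (hw : w ∈ P)
    (hwz : w * z = z * w) : n * w * n⁻¹ ∈ P ∧ n * w * n⁻¹ * z = z * (n * w * n⁻¹) :=
  ⟨F.pair.subP.conj_mem hns hw,
    ((Commute.mul_left hn hwz).mul_left (Commute.inv_left hn)).eq⟩

end Frame

end CfsgLib.ConwayType
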