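import Cfsg.Agent.ConwayType.Involutions
import Cfsg.Agent.ConwayType.BitsThree

/-!
# The two standard involutions outside `Q` are not conjugate to `z`
-/

set_option autoImplicit false

namespace CfsgLib.ConwayType

open CfsgLib.LargeExtraspecial

theorem IsIso8.ext_span {f g : V8 → V8} (hf : IsIso8 f) (hg : IsIso8 g) {L : List V8}
    (hspan : ∀ v : V8, ∃ k ∈ List.range 256, bitsum L k = v) (h : ∀ x ∈ L, f x = g x) (v : V8) :
    f v = g v := by
  obtain ⟨k, -, rfl⟩ := hspan v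
  rw [← bitsum_map hf.add hf.zero, ← bitsum_map hg.add hg.zero, List.map_congr_left h]

/-- The isometries fixing the vectors of a list. -/
def stabL (L : List V8) : Subgroup (Equiv.Perm V8) where
  carrier := {σ | IsIso8 σ ∧ ∀ v ∈ L, σ v = v}
  one_mem' := ⟨⟨fun _ _ => rfl, fun _ => rfl⟩, fun _ _ => rfl⟩
  mul_mem' := by
    rintro σ τ ⟨hσ, h1⟩ ⟨hτ, h2⟩
    exact ⟨⟨fun u v => by simp [hσ.add, hτ.add], fun v => by simp [hσ.quad, hτ.quad]⟩,
      fun v hv => by simp [h1 v hv, h2 v hv]⟩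
  inv_mem' := by
    rintro σ ⟨hσ, h⟩
    refine ⟨⟨fun u v => σ.injective ?_, fun v => ?_⟩, fun v hv => σ.injective ?_⟩
    · simp [hσ.add]
    · rw [← hσ.quad]; simp
    · simp [h v hv]

theorem card_stabL_le (L : List V8) (e₁ e₂ e₃ : V8)
    (hspan : ∀ v : V8, ∃ k ∈ List.range 256, bitsum (L ++ [e₁, e₂, e₃]) k = v) :
    Nat.card (stabL L) ≤ (cand3 L e₁ e₂ e₃).length := by
  classical
  have hmem : ∀ σ : stabL L, (σ.1 e₁, σ.1 e₂, σ.1 e₃) ∈ (cand3 L e₁ e₂ e₃).toFinset := by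
    rintro ⟨σ, hσ, hL⟩
    have h1 : ∀ e, σ e ∈ candOf L e := fun e => by
      refine List.mem_filter.2 ⟨mem_range_mk8 _, ?_⟩
      simp only [Bool.and_eq_true, beq_iff_eq, List.all_eq_true]
      refine ⟨hσ.quad e, fun l hl => ?_⟩
      conv_lhs => rw [← hL l hl, hσ.polar]
    simp only [List.mem_toFinset, cand3, List.mem_flatMap, List.mem_map, List.mem_filter,
      Bool.and_eq_true, beq_iff_eq]
    exact ⟨σ e₁, h1 _, σ e₂, ⟨h1 _, hσ.polar _ _⟩, σ e₃, ⟨h1 _, hσ.polar _ _, hσ.polar _ _⟩, rfl⟩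
  have h := Nat.card_le_card_of_injective (fun σ => (⟨_, hmem σ⟩ : (cand3 L e₁ e₂ e₃).toFinset))
    fun σ τ h => Subtype.ext (Equiv.ext fun v => by
      obtain ⟨σ, hσ, hσL⟩ := σ
      obtain ⟨τ, hτ, hτL⟩ := τ
      have h' : (σ e₁, σ e₂, σ e₃) = (τ e₁, τ e₂, τ e₃) :=
        congrArg (fun t : (cand3 L e₁ e₂ e₃).toFinset => (t : V8 × V8 × V8)) h
      simp only [Prod.mk.injEq] at h'
      refine hσ.ext_span hτ hspan (fun x hx => ?_) v
      simp only [List.mem_append, List.mem_cons, List.not_mem_nil, or_false] at hx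
      rcases hx with hx | rfl | rfl | rfl
      · rw [hσL x hx, hτL x hx]
      · exact h'.1
      · exact h'.2.1
      · exact h'.2.2)
  rw [Nat.card_eq_finsetCard] at h
  exact h.trans (List.toFinset_card_le _)

namespace Frame

variable {G : Type*} [Group G] [Finite G] {z s : G} {Q P : Subgroup G} {π : G → V8}
  (F : Frame z Q π P s)
include F

/-- A lower bound for the centralizer in `Q` of an involution of `C(z)` outside `Q`. -/
theorem exists_centralizing {x : G} (hx : x * z = z * x) (h2 : x * x = 1) (hxQ : x ∉ Q) :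
    16 ≤ Nat.card ↥(Q ⊓ Subgroup.centralizer ({x} : Set G)) := by
  classical
  set T := Finset.univ.filter fun v => F.data.act x v = v with hTdef
  have hT : 16 ≤ T.card := F.fixed_card hx h2 hxQ
  have hzmem : ∀ b : Bool, (if b then z else 1) ∈ Q := fun b => by
    cases b <;> simp [F.data.sub.z_mem]
  set e : T × Bool → G := fun p => (if p.2 then z else 1) * F.data.sec p.1.1 with he
  have heQ : ∀ p, e p ∈ Q := fun p => mul_mem (hzmem _) (F.data.sec_mem _)
  have heπ : ∀ p, π (e p) = p.1.1 := fun p => by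
    show π (_ * _) = _
    rw [F.data.map_mul _ (hzmem _) _ (F.data.sec_mem _), F.data.π_sec]
    cases p.2 <;> simp [F.data.π_z, F.data.π_one]
  have hinj : Function.Injective e := by
    rintro ⟨v, b⟩ ⟨v', b'⟩ h
    have hv : v = v' := Subtype.ext (by rw [← heπ (v, b), h, heπ])
    subst hv
    have h2 : (if b then z else 1) = (if b' then z else 1) := mul_right_cancel h
    have hne := F.data.sub.ne_one
    cases b <;> cases b'
    · rfl
    · exact absurd h2.symm hne
    · exact absurd h2 hne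
    · rfl
  have hcomm : ∀ p, x * e p * x⁻¹ = e p ∨ x * e p * x⁻¹ = z * e p := fun p => by
    have h : π (e p) = π (x * e p * x⁻¹) := by
      rw [← F.data.act_π hx (heQ p), heπ]
      exact (Finset.mem_filter.1 p.1.2).2.symm
    exact F.data.eq_or_eq_of_π_eq (heQ p) (F.data.sub.conj_mem hx (heQ p)) h
  let K₀ : Subgroup G := Q ⊓ Subgroup.centralizer ({x} : Set G)
  show 16 ≤ Nat.card K₀
  have h32 : 32 ≤ Nat.card (T × Bool) := by
    rw [Nat.card_prod, Nat.card_eq_finsetCard, Nat.card_eq_fintype_card, Fintype.card_bool]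
    show 32 ≤ T.card * 2
    omega
  by_cases hall : ∀ p, x * e p * x⁻¹ = e p
  · have := Nat.card_le_card_of_injective (fun p => (⟨e p, heQ p,
      Subgroup.mem_centralizer_singleton_iff.2 (mul_inv_eq_iff_eq_mul.1 (hall p)).symm⟩ : K₀))
      fun a b h => hinj (congrArg Subtype.val h)
    omega
  · push Not at hall
    obtain ⟨p1, hp1⟩ := hall
    have hp1' := (hcomm p1).resolve_left hp1
    have key : ∀ p, x * e p * x⁻¹ ≠ e p →
        ((e p1)⁻¹ * e p) * x = x * ((e p1)⁻¹ * e p) := fun p hp => by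
      have hp' := (hcomm p).resolve_left hp
      refine (mul_inv_eq_iff_eq_mul.1 ?_).symm
      calc x * ((e p1)⁻¹ * e p) * x⁻¹ = (x * e p1 * x⁻¹)⁻¹ * (x * e p * x⁻¹) := by group
        _ = (e p1)⁻¹ * e p := by rw [hp1', hp']; group
    let j : T × Bool → K₀ × Bool := fun p =>
      if hp : x * e p * x⁻¹ = e p then
        (⟨e p, heQ p, Subgroup.mem_centralizer_singleton_iff.2 (mul_inv_eq_iff_eq_mul.1 hp).symm⟩, false)
      else (⟨(e p1)⁻¹ * e p, Q.mul_mem (Q.inv_mem (heQ p1)) (heQ p),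
        Subgroup.mem_centralizer_singleton_iff.2 (key p hp)⟩, true)
    have hj : Function.Injective j := fun a b h => by
      simp only [j] at h
      split at h <;> split at h <;> simp only [Prod.mk.injEq, Bool.false_eq_true,
        Bool.true_eq_false, and_false] at h
      · exact hinj (congrArg (fun t : K₀ => (t : G)) h.1 :)
      · exact hinj (mul_left_cancel (congrArg (fun t : K₀ => (t : G)) h.1 :))
    have := Nat.card_le_card_of_injective j hj
    have hb : Nat.card (K₀ × Bool) = Nat.card K₀ * 2 := by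
      rw [Nat.card_prod, Nat.card_eq_fintype_card (α := Bool), Fintype.card_bool]
    omega

/-- If a standard involution were conjugate to `z`, a subgroup of order sixteen would fix the
orthogonal of its classes. -/
theorem dvd_stab_of_isConj {a w : G} {A u : V8} (ha : a ∈ Q) (has : a * s = s * a) (hw : w ∈ P)
    (hwz : w * z = z * w) (hA : cls π a = A) (hU : F.ups w = u) (h2 : a * w * (a * w) = 1)
    (hu0 : u ≠ 0) (hfuse : ∃ v : V8, InU v ∧ b8 v A = true ∧ b8 v u = false) {L : List V8}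
    (hL : ∀ v ∈ L, b8 v s0 = false ∧ b8 v A = false ∧ b8 v u = false)
    (hconj : IsConj z (a * w)) : 16 ∣ Nat.card (stabL L) := by
  classical
  obtain ⟨g, hg⟩ := isConj_iff.1 hconj
  obtain ⟨x, hx⟩ : ∃ x, x = a * w := ⟨_, rfl⟩
  rw [← hx] at hg h2
  have hAU : InU A := hA ▸ cls_inU π a
  have huU : InU u := hU ▸ F.ups_inU w
  have hxz : x * z = z * x := hx ▸ (Commute.mul_left (F.data.Q_comm ha) hwz).eq
  have hxQ : x ∉ Q := fun h => by
    have hwQ : w ∈ Q := by
      rw [show w = a⁻¹ * x by rw [hx]; group]; exact mul_mem (inv_mem ha) h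
    exact hu0 (by rw [← hU, F.ups_memE (F.memE_of_mem hwQ hw)])
  have hactx : ∀ v, F.data.act x v = sie u v := fun v => by
    rw [hx, F.data.act_mul (F.data.Q_comm ha) hwz, F.data.act_of_mem ha, F.act_W hw hwz, hU]
  have hcard : 9 ≤ Nat.card Q := by rw [F.data.card]; norm_num
  have hkey : ∀ {h : G}, g⁻¹ * (h * z * h⁻¹) * g ∈ Q → h * z * h⁻¹ ≠ x → h⁻¹ * x * h ∈ Q := by
    intro h hm hne'
    have e1 : (g⁻¹ * h) * z * (g⁻¹ * h)⁻¹ = g⁻¹ * (h * z * h⁻¹) * g := by group
    obtain ⟨q, hq, hqe⟩ := F.data.sub.mem_of_conj_mem hcard (g := g⁻¹ * h) (e1 ▸ hm) (fun e => hne' (by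
      rw [← hg]
      calc h * z * h⁻¹ = g * ((g⁻¹ * h) * z * (g⁻¹ * h)⁻¹) * g⁻¹ := by group
        _ = g * z * g⁻¹ := by rw [e]))
    simp only [MulEquiv.coe_toMonoidHom, MulAut.conj_apply] at hqe
    have : q = h⁻¹ * x * h := by
      rw [← hg, ← hqe]; group
    exact this ▸ hq
  have hzX : g⁻¹ * z * g ∉ Q := fun hm => by
    have := hkey (h := 1) (by simpa using hm) (by
      intro e; apply hxQ; rw [← e]; simp [F.data.sub.z_mem])
    exact hxQ (by simpa using this)
  have hlift : ∀ v, b8 v s0 = false → b8 v A = false → b8 v u = false →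
      ∃ c ∈ Q, c * x = x * c ∧ π c = v := by
    intro v ho hva hvu
    obtain ⟨c, hc, hcs, rfl⟩ := F.exists_mem v ho
    refine ⟨c, hc, mul_inv_eq_iff_eq_mul.1 ?_, rfl⟩
    have h1 : b8 (cls π c) A = false := by rw [cls, b8_pU_left ho hAU]; exact hva
    have h2 : b8 (cls π c) u = false := by rw [cls, b8_pU_left ho huU]; exact hvu
    rw [hx, F.conj_aw ha has hw hwz hc hcs, hA, hU, h1, h2]; simp
  have hnormX : ∀ {c m : G}, c * x = x * c → g⁻¹ * m * g ∈ Q → g⁻¹ * (c * m * c⁻¹) * g ∈ Q := by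
    intro c m hcx hm
    have h : (g⁻¹ * c * g) * z = z * (g⁻¹ * c * g) := by
      calc g⁻¹ * c * g * z = g⁻¹ * (c * (g * z * g⁻¹)) * g := by group
        _ = g⁻¹ * ((g * z * g⁻¹) * c) * g := by rw [hg, hcx]
        _ = z * (g⁻¹ * c * g) := by group
    have := F.data.sub.conj_mem h hm
    rw [show g⁻¹ * (c * m * c⁻¹) * g = (g⁻¹ * c * g) * (g⁻¹ * m * g) * (g⁻¹ * c * g)⁻¹ by group]
    exact this
  have htriv : ∀ m ∈ Q, g⁻¹ * m * g ∈ Q → m = 1 := by
    intro m hm hmX
    by_contra hm1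
    have hmz : m ≠ z := fun e => hzX (e ▸ hmX)
    have hmm : m * m = 1 := by
      rcases F.data.sub.sq_eq hm with e | e
      · exact e
      · rcases F.data.sub.sq_eq hmX with e' | e'
        · rw [show g⁻¹ * m * g * (g⁻¹ * m * g) = g⁻¹ * (m * m) * g by group, e] at e'
          exact absurd (show z = 1 by
            calc z = g * (g⁻¹ * z * g) * g⁻¹ := by group
              _ = 1 := by rw [e']; group) F.data.sub.ne_one
        · rw [show g⁻¹ * m * g * (g⁻¹ * m * g) = g⁻¹ * (m * m) * g by group, e] at e'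
          exact absurd (e'.symm ▸ F.data.sub.z_mem) hzX
    have hq : q8 (π m) = false := (F.data.sq m hm).1 hmm
    have h0 : π m ≠ 0 := fun e => ((F.data.ker m hm).1 e).elim hm1 hmz
    obtain ⟨c, hc, hcm⟩ := F.data.exists_move hq h0
    obtain ⟨c', hc', hc's⟩ : ∃ c', c' * z = z * c' ∧ c' * m * c'⁻¹ = s := by
      have h1 : π s = π (c * m * c⁻¹) := by rw [← F.data.act_π hc hm, hcm, F.π_s]
      rcases F.data.eq_or_eq_of_π_eq F.pair.mem (F.data.sub.conj_mem hc hm) h1 with e | e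
      · exact ⟨c, hc, e⟩
      · obtain ⟨q, hq', hqz, hqs, -, -⟩ := F.exists_not_comm
        refine ⟨q * c, (Commute.mul_left hqz hc).eq, ?_⟩
        calc q * c * m * (q * c)⁻¹ = q * (c * m * c⁻¹) * q⁻¹ := by group
          _ = (q * z * q⁻¹) * (q * s * q⁻¹) := by rw [e]; group
          _ = s := by
            rw [hqs, mul_inv_eq_iff_eq_mul.2 hqz, ← mul_assoc, F.data.sub.mul_self, one_mul]
    obtain ⟨y, hy0, hy1⟩ := F.exists_swap
    have hm' : (c'⁻¹ * y) * z * (c'⁻¹ * y)⁻¹ = m := by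
      calc (c'⁻¹ * y) * z * (c'⁻¹ * y)⁻¹ = c'⁻¹ * (y * z * y⁻¹) * c' := by group
        _ = c'⁻¹ * (c' * m * c'⁻¹) * c' := by rw [hy0, hc's]
        _ = m := by group
    have h := hkey (h := c'⁻¹ * y) (by rw [hm']; exact hmX) (by
      intro e; apply hxQ; rw [← e, hm']; exact hm)
    have hW := (F.swap_mem hy0 hy1).1 h
    rw [show y * ((c'⁻¹ * y)⁻¹ * x * (c'⁻¹ * y)) * y⁻¹ = c' * x * c'⁻¹ by group] at hW
    have hWz : c' * x * c'⁻¹ * z = z * (c' * x * c'⁻¹) :=
      ((Commute.mul_left hc' hxz).mul_left (Commute.inv_left hc')).eq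
    -- an element of `Q` fixed in the class sense but not centralizing
    obtain ⟨v, hvU, hvA, hvu⟩ := hfuse
    obtain ⟨q, hq', hqs, hqv⟩ := F.exists_mem v (inU_orth v hvU).1
    have hcq : cls π q = v := by rw [cls, hqv]; exact hvU
    have hconjq : q * x * q⁻¹ = z * x := by
      rw [hx, F.conj_aw ha has hw hwz hq' hqs, hA, hU, hcq, hvA, hvu]; simp
    have hqfix : F.data.act x v = v := by
      rw [hactx]; exact sie_fixed (inU_orth v hvU).1 hvu
    obtain ⟨q', hq'def⟩ : ∃ q', q' = c' * q * c'⁻¹ := ⟨_, rfl⟩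
    have hq'Q : q' ∈ Q := hq'def ▸ F.data.sub.conj_mem hc' hq'
    have hπq' : π q' = F.data.act c' v := by rw [hq'def, ← F.data.act_π hc' hq', hqv]
    have hu'0 : F.ups (c' * x * c'⁻¹) ≠ 0 := fun e => hxQ (by
      have := F.data.sub.conj_mem (Commute.inv_left hc').eq
        (F.memE_mem (F.memE_of_ups hW hWz e)).1
      simpa [mul_assoc] using this)
    have hfix : sie (F.ups (c' * x * c'⁻¹)) (π q') = π q' := by
      rw [← F.act_W hW hWz, F.data.act_conj hc' hxz, hπq', (F.data.act_cancel hc' v).1, hqfix]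
    have ho := sie_moves _ (F.ups_inU _) hu'0 (π q') (Or.inl (by rw [hfix, add_self8]))
    have hcl : b8 (cls π q') (F.ups (c' * x * c'⁻¹)) = false := by
      have h1 := sie_add_orth (F.ups (c' * x * c'⁻¹)) (π q') ho
      rw [hfix, add_self8] at h1
      rw [cls, b8_pU_left ho (F.ups_inU _)]
      cases hb : b8 (π q') (F.ups (c' * x * c'⁻¹))
      · rfl
      · rw [hb] at h1; exact absurd h1.symm s0_ne_zero
    have h2 := (F.comm_QW hq'Q ((F.comm_s_iff hq'Q).2 ho) hW hWz).2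
    rw [hcl, ee_false, one_mul, hq'def] at h2
    have h3 : q * x * q⁻¹ = x := by
      calc q * x * q⁻¹ = c'⁻¹ * (c' * q * c'⁻¹ * (c' * x * c'⁻¹) * (c' * q * c'⁻¹)⁻¹) * c' := by group
        _ = x := by rw [h2]; group
    rw [h3] at hconjq
    exact F.data.sub.ne_one (mul_eq_right.1 hconjq.symm)
  -- the `2`-group `T = C(z) ∩ g Q g⁻¹`
  set T : Subgroup G := Q.map (MulAut.conj g).toMonoidHom ⊓ Subgroup.centralizer ({z} : Set G)
  have hT : ∀ t ∈ T, g⁻¹ * t * g ∈ Q ∧ t * z = z * t ∧ t * x = x * t := by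
    rintro _ ⟨⟨q, hq, rfl⟩, ht⟩
    refine ⟨by simpa [mul_assoc] using hq, Subgroup.mem_centralizer_singleton_iff.1 ht, ?_⟩
    show g * q * g⁻¹ * x = x * (g * q * g⁻¹)
    have := (Commute.conj_iff g).2 (show Commute q z from F.data.Q_comm hq)
    rw [hg] at this
    exact this.eq
  have hfixT : ∀ t ∈ T, ∀ v ∈ L, F.data.act t v = v := by
    intro t ht v hv
    obtain ⟨htX, htz, htx⟩ := hT t ht
    obtain ⟨h1v, h2v, h3v⟩ := hL v hv
    obtain ⟨c, hc, hcx, rfl⟩ := hlift v h1v h2v h3v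
    have h1 : t * c * t⁻¹ * c⁻¹ ∈ Q := mul_mem (F.data.sub.conj_mem htz hc) (inv_mem hc)
    have h2 : g⁻¹ * (t * c * t⁻¹ * c⁻¹) * g ∈ Q := by
      rw [show g⁻¹ * (t * c * t⁻¹ * c⁻¹) * g = (g⁻¹ * t * g) * (g⁻¹ * (c * t * c⁻¹) * g)⁻¹ by group]
      exact mul_mem htX (inv_mem (hnormX hcx htX))
    have h4 : t * c * t⁻¹ = c := mul_inv_eq_one.1 (htriv _ h1 h2)
    rw [F.data.act_π htz hc, h4]
  let f : T →* Equiv.Perm V8 :=
    F.data.actHom.comp (Subgroup.inclusion (inf_le_right : T ≤ Subgroup.centralizer ({z} : Set G)))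
  have hf : ∀ (t : T) v, f t v = F.data.act (t : G) v := fun t v => rfl
  have hfinj : Function.Injective f := by
    rw [← MonoidHom.ker_eq_bot_iff, eq_bot_iff]
    intro t ht
    refine Subgroup.mem_bot.2 (Subtype.ext (htriv t (F.data.mem_of_act (hT t t.2).2.1 fun v => ?_)
      (hT t t.2).1))
    rw [← hf, MonoidHom.mem_ker.1 ht]; rfl
  have hfM : f.range ≤ stabL L := by
    rintro _ ⟨t, rfl⟩
    exact ⟨F.data.act_iso (hT t t.2).2.1, hfixT t t.2⟩
  have h16 : 16 ≤ Nat.card T := by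
    have hz' : (g⁻¹ * z * g) * z = z * (g⁻¹ * z * g) := by
      have h := (Commute.conj_iff g⁻¹).2 (show Commute x z from hxz)
      rw [← hg, show g⁻¹ * (g * z * g⁻¹) * (g⁻¹)⁻¹ = z by group, inv_inv] at h
      exact h.eq.symm
    have hK := F.exists_centralizing hz' (by
      rw [show g⁻¹ * z * g * (g⁻¹ * z * g) = g⁻¹ * (z * z) * g by group, F.data.sub.mul_self]
      group) hzX
    refine hK.trans (Nat.card_le_card_of_injective (fun k => (⟨g * (k : G) * g⁻¹,
      ⟨k, k.2.1, rfl⟩, Subgroup.mem_centralizer_singleton_iff.2 ?_⟩ : T)) fun a b h => Subtype.ext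
        (mul_left_cancel (mul_right_cancel (congrArg Subtype.val h))))
    have h := (Commute.conj_iff g).2 (show Commute (k : G) (g⁻¹ * z * g) from
      Subgroup.mem_centralizer_singleton_iff.1 k.2.2)
    rw [show g * (g⁻¹ * z * g) * g⁻¹ = z by group] at h
    exact h.eq
  have : Fact (Nat.Prime 2) := ⟨Nat.prime_two⟩
  have hTp : IsPGroup 2 T := (F.data.sub.extra.1.1.map _).to_le inf_le_left
  obtain ⟨k, hk⟩ := hTp.exists_card_eq
  have hd : 2 ^ k ∣ Nat.card (stabL L) := by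
    rw [← hk, Nat.card_congr (MonoidHom.ofInjective hfinj).toEquiv]
    exact Subgroup.card_dvd_of_le hfM
  have hk4 : 4 ≤ k := by
    by_contra hlt
    have : 2 ^ k ≤ 2 ^ 3 := Nat.pow_le_pow_right (by norm_num) (by omega)
    omega
  exact (pow_dvd_pow 2 hk4).trans hd

/-- The standard totally singular involution is not conjugate to `z`. -/
theorem not_isConj_TS {a w : G} (ha : a ∈ Q) (has : a * s = s * a) (hw : w ∈ P)
    (hwz : w * z = z * w) (hA : cls π a = aT) (hU : F.ups w = uT) (h2 : a * w * (a * w) = 1) :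
    ¬ IsConj z (a * w) := fun h => by
  obtain ⟨-, -, -, -, -, -, hu0, -⟩ := std_TS
  have h16 := F.dvd_stab_of_isConj ha has hw hwz hA hU h2 hu0 (fuse_TS true false)
    fixT_facts.1 h
  have h8 := card_stabL_le fixT (mk8 2) (mk8 32) (mk8 128) fixT_facts.2.2
  rw [fixT_facts.2.1] at h8
  have := Nat.le_of_dvd Nat.card_pos h16
  omega

/-- The standard anisotropic involution is not conjugate to `z`. -/
theorem not_isConj_AN {a w : G} (ha : a ∈ Q) (has : a * s = s * a) (hw : w ∈ P)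
    (hwz : w * z = z * w) (hA : cls π a = aN) (hU : F.ups w = uN) (h2 : a * w * (a * w) = 1) :
    ¬ IsConj z (a * w) := fun h => by
  obtain ⟨-, -, -, -, -, -, hu0, -⟩ := std_AN
  have h16 := F.dvd_stab_of_isConj ha has hw hwz hA hU h2 hu0 (fuse_AN true false)
    fixN_facts.1 h
  have h24 := (card_stabL_le fixN (mk8 2) (mk8 4) (mk8 16) fixN_facts.2.2).trans fixN_facts.2.1
  obtain ⟨hok, hfix, ⟨v, hv⟩, hcube⟩ := pr_fixN
  obtain ⟨c, hc, hcv⟩ := F.data.exists_pr hok
  obtain ⟨σ, hσ⟩ : ∃ σ, σ = F.data.actHom ⟨c, Subgroup.mem_centralizer_singleton_iff.2 hc⟩ :=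
    ⟨_, rfl⟩
  have hσv : ∀ v, σ v = pr (12, 52) v := fun v => by rw [hσ]; exact hcv v
  have hσM : σ ∈ stabL fixN :=
    ⟨by rw [hσ]; exact F.data.act_iso hc, fun l hl => by rw [hσv, hfix l hl]⟩
  have : Fact (Nat.Prime 3) := ⟨Nat.prime_three⟩
  have h3σ : orderOf σ = 3 := by
    refine orderOf_eq_prime (Equiv.ext fun v => ?_) fun e => hv ?_
    · simp only [pow_succ, pow_zero, one_mul, Equiv.Perm.mul_apply, hσv, Equiv.Perm.one_apply]
      exact hcube v
    · rw [← hσv, e]; rfl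
  have hd3 : 3 ∣ Nat.card (stabL fixN) := by
    have h := orderOf_dvd_natCard (⟨σ, hσM⟩ : stabL fixN)
    rwa [Subgroup.orderOf_mk, h3σ] at h
  have h48 := Nat.Coprime.mul_dvd_of_dvd_of_dvd (by norm_num : Nat.Coprime 16 3) h16 hd3
  have := Nat.le_of_dvd Nat.card_pos h48
  omega

end Frame

end CfsgLib.ConwayType
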