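import Cfsg.Agent.ConwayType.Exponents

/-!
# Involutions acting with rank four
-/

set_option autoImplicit false

namespace CfsgLib.ConwayType

open CfsgLib.LargeExtraspecial

theorem sie_sie : ∀ c ∈ uVecs, ∀ v : V8, sie c (sie c v) = v := by decide +kernel

theorem sie_mem : ∀ c ∈ uVecs, ∀ v : V8, b8 v s0 = false → b8 (sie c v) s0 = false := by
  decide +kernel

theorem ell_b8_s0 (v : V8) : b8 (ell v) s0 = b8 v s0 := by
  conv_lhs => rw [← ell_fix.1, ell_iso.polar]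

theorem ell_zero : ell 0 = 0 := by decide

theorem ell_sm (b : Bool) : ell (sm b s0) = sm b s0 := by cases b <;> decide

theorem mk40 : InU (mk8 40) ∧ mk8 40 ≠ 0 ∧ q8 (mk8 40) = false := by decide

theorem ell_eight : pU (ell (mk8 8)) ≠ mk8 8 ∧ InU (mk8 8) := by decide

theorem pU_ell_sie {c u : V8} (hu : InU u) : pU (ell (sie c u)) = ell u := by
  have ho := (inU_orth u hu).1
  rw [ell_fix.2.2, show sie c u = u + sm (b8 u c) s0 by
    rw [← sie_add_orth c u ho, add_comm, add_add_cancel8], pU_add, pU_sm, pU_s0, hu]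
  cases b8 u c <;> simp [sm]

theorem act_d0_shape {c : V8} (hc : InU c) (hfix : ell c = c) :
    ell (sie c d0) = d0 + c + sm (q8 c) s0 := by
  have h1 : b8 d0 s0 = true := by decide
  have h2 : b8 d0 c = false := by rw [b8_comm]; exact (inU_orth c hc).2
  rw [sie, h1, h2]
  show ell (d0 + (c + sm (q8 c) s0) + 0) = _
  rw [add_zero, ell_add, ell_add, ell_fix.2.1, hfix, ell_sm, add_assoc]

/-- An involution commuting with `s` that acts as a standard element of rank four. -/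
structure Four {G : Type*} [Group G] {z s : G} {Q P : Subgroup G} {π : G → V8}
    (F : Frame z Q π P s) (x : G) (c : V8) : Prop where
  comm_z : x * z = z * x
  sq : x * x = 1
  comm_s : x * s = s * x
  inU : InU c
  fix : ell c = c
  not_mem : c ∉ iList
  act : ∀ v, F.data.act x v = ell (sie c v)

namespace Frame

variable {G : Type*} [Group G] [Finite G] {z s : G} {Q P : Subgroup G} {π : G → V8}
  {F : Frame z Q π P s} {x : G} {c : V8}

theorem four_act_orth (h : Four F x c) {a : G} (ha : a ∈ Q) (has : a * s = s * a) :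
    π (x * a * x⁻¹) = ell (π a) + sm (b8 (π a) c) s0 := by
  have ho := (F.comm_s_iff ha).1 has
  have e : sie c (π a) = π a + sm (b8 (π a) c) s0 := by
    rw [← sie_add_orth c (π a) ho, add_comm, add_add_cancel8]
  rw [← F.data.act_π h.comm_z ha, h.act, e, ell_add, ell_sm]

theorem four_on_Q (h : Four F x c) {a : G} (ha : a ∈ Q) (has : a * s = s * a)
    (hfix : ell (cls π a) = cls π a) :
    ∃ k, x * a * x⁻¹ = ee z s k (b8 (cls π a) c) * a := by
  have ho := (F.comm_s_iff ha).1 has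
  have hfix' : ell (π a) = π a := by
    rcases eq_pU_add (π a) ho with e | e
    · rw [e]; exact hfix
    · rw [e, ell_add, ell_fix.1]; rw [show pU (π a) = cls π a from rfl, hfix]
  have hb : b8 (π a) c = b8 (cls π a) c := (b8_pU_left ho h.inU).symm
  obtain ⟨i, j, hij⟩ := exists_ee (z := z) (s := s) (e := x * a * x⁻¹ * a⁻¹) ((F.memE_iff_cls
    (mul_mem (F.data.sub.conj_mem h.comm_z ha) (inv_mem ha))).2 (by
      rw [F.data.map_mul _ (F.data.sub.conj_mem h.comm_z ha) _ (inv_mem ha), F.data.π_inv ha,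
        four_act_orth h ha has, hfix', add_comm (π a), add_add_cancel8]
      cases b8 (π a) c
      · exact Or.inl rfl
      · exact Or.inr rfl))
  have hπ := congrArg π hij
  rw [F.data.map_mul _ (F.data.sub.conj_mem h.comm_z ha) _ (inv_mem ha), F.data.π_inv ha,
    four_act_orth h ha has, hfix', add_comm (π a), add_add_cancel8, F.ee_π, hb] at hπ
  refine ⟨i, ?_⟩
  have hj : j = b8 (cls π a) c := by
    revert hπ
    cases j <;> cases b8 (cls π a) c <;> simp [sm, s0_ne_zero, s0_ne_zero.symm]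
  rw [← hj, ← hij]
  group

theorem four_ups (h : Four F x c) {w : G} (hw : w ∈ P) (hwz : w * z = z * w) :
    F.ups (x * w * x⁻¹) = ell (F.ups w) := by
  rw [F.ups_conj h.comm_z h.comm_s hw hwz, h.act, pU_ell_sie (F.ups_inU w)]

theorem four_on_W (h : Four F x c) {w : G} (hw : w ∈ P) (hwz : w * z = z * w)
    (hfix : ell (F.ups w) = F.ups w) : ∃ i j, x * w * x⁻¹ = ee z s i j * w := by
  obtain ⟨h1, h2⟩ := F.conj_mem_W h.comm_z h.comm_s hw hwz
  have hwi : w⁻¹ * z = z * w⁻¹ := (Commute.inv_left hwz).eq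
  have h0 : F.ups (x * w * x⁻¹ * w⁻¹) = 0 := by
    rw [F.ups_mul h1 h2 (inv_mem hw) hwi, four_ups h hw hwz, hfix,
      ← F.ups_mul hw hwz (inv_mem hw) hwi, mul_inv_cancel, F.ups_memE (Or.inl rfl)]
  obtain ⟨i, j, hij⟩ := exists_ee (z := z) (s := s)
    (F.memE_of_ups (mul_mem h1 (inv_mem hw)) (Commute.mul_left h2 hwi).eq h0)
  exact ⟨i, j, by rw [← hij]; group⟩

/-- The two exponents that are not given by scalar products are equal. -/
theorem four_xi (h : Four F x c) {p a w : G} (hp : p ∈ P) (hpz : p * z * p⁻¹ = s * z)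
    (hpz' : p⁻¹ * z * p = s * z) (ha : a ∈ Q) (has : a * s = s * a) (hw : w ∈ P)
    (hwz : w * z = z * w) (hA : cls π a = F.ups w) (hfix : ell (F.ups w) = F.ups w) :
    ∃ k, x * a * x⁻¹ = ee z s k (b8 (F.ups w) c) * a ∧
      x * w * x⁻¹ = ee z s (b8 (F.ups (x * p * x⁻¹ * p⁻¹)) (F.ups w)) k * w := by
  obtain ⟨q0, hq0, hq0d⟩ := F.data.surj d0
  have hb0 : b8 (π q0) s0 = true := by rw [hq0d]; decide
  have hq0z := F.data.Q_comm hq0
  have hq0s : q0 * s ≠ s * q0 := fun e => by simp [(F.comm_s_iff hq0).1 e] at hb0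
  have hqs := F.data.sub.conj_of_not_commute hq0 F.pair.mem hq0s
  have hqs' : q0⁻¹ * s * q0 = z * s := by
    have h1 : q0⁻¹ * s ≠ s * q0⁻¹ := fun e => hq0s (by
      have := (show Commute q0⁻¹ s from e).inv_left
      rwa [inv_inv] at this)
    have := F.data.sub.conj_of_not_commute (inv_mem hq0) F.pair.mem h1
    rwa [inv_inv] at this
  obtain ⟨a', ha', has', hA', heq⟩ := F.conj_W_eq hq0 hqs' hb0 hw hwz
  obtain ⟨k, hk⟩ := four_on_Q h ha' has' (by rw [hA', hfix])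
  obtain ⟨i, j, hij⟩ := four_on_W h hw hwz hfix
  have hi := F.z_exponent h.comm_z h.comm_s hp hpz hpz' hw hwz hij
  -- the commutator of `x` and `q0`
  obtain ⟨a1, ha1def⟩ : ∃ a1, a1 = x * q0 * x⁻¹ * q0⁻¹ := ⟨_, rfl⟩
  have ha1 : a1 ∈ Q := ha1def ▸ mul_mem (F.data.sub.conj_mem h.comm_z hq0) (inv_mem hq0)
  have hπ1 : π a1 = c + sm (q8 c) s0 := by
    rw [ha1def, F.data.map_mul _ (F.data.sub.conj_mem h.comm_z hq0) _ (inv_mem hq0),
      F.data.π_inv hq0, ← F.data.act_π h.comm_z hq0, h.act, hq0d, act_d0_shape h.inU h.fix]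
    calc d0 + c + sm (q8 c) s0 + d0 = c + sm (q8 c) s0 + (d0 + d0) := by abel
      _ = _ := by rw [add_self8, add_zero]
  have has1 : a1 * s = s * a1 := (F.comm_s_iff ha1).2 (by
    rw [hπ1, b8_add_left, (inU_orth c h.inU).1, b8_sm_left, b8_self, Bool.and_false]; rfl)
  have hc1 : cls π a1 = c := by
    rw [cls, hπ1, pU_add, pU_sm, pU_s0, h.inU]; cases q8 c <;> simp [sm]
  obtain ⟨v, hv⟩ : ∃ v, v = b8 c (F.ups w) := ⟨_, rfl⟩
  have hconj : a1 * (a' * w) * a1⁻¹ = ee z s false v * (a' * w) := by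
    have h1 := F.conj_QQ ha' has' ha1 has1
    have h2 := (F.comm_QW ha1 has1 hw hwz).2
    rw [hc1, hA', ← hv] at h1
    rw [hc1, ← hv] at h2
    calc a1 * (a' * w) * a1⁻¹ = (a1 * a' * a1⁻¹) * (a1 * w * a1⁻¹) := by group
      _ = ee z s v false * (a' * ee z s v v) * w := by rw [h1, h2]; group
      _ = ee z s v false * (ee z s v v * a') * w := by
        rw [F.ee_comm _ _ (F.data.Q_comm ha') has']
      _ = (ee z s v false * ee z s v v) * (a' * w) := by group
      _ = _ := by rw [F.ee_mul, Bool.xor_self, Bool.false_xor]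
  have hL : x * (q0 * w * q0⁻¹) * x⁻¹ = ee z s (xor i j) (xor j v) * (a' * w) := by
    calc x * (q0 * w * q0⁻¹) * x⁻¹ = a1 * (q0 * (x * w * x⁻¹) * q0⁻¹) * a1⁻¹ := by
          rw [ha1def]; group
      _ = a1 * ((q0 * ee z s i j * q0⁻¹) * (q0 * w * q0⁻¹)) * a1⁻¹ := by rw [hij]; group
      _ = (a1 * ee z s (xor i j) j * a1⁻¹) * (a1 * (a' * w) * a1⁻¹) := by
        rw [F.conj_ee_Q _ _ hq0 hqs, heq]; group
      _ = _ := by
        rw [F.conj_ee _ _ (F.data.Q_comm ha1) has1, hconj, ← mul_assoc, F.ee_mul, Bool.xor_false]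
  have hR : x * (q0 * w * q0⁻¹) * x⁻¹ =
      ee z s (xor k i) (xor (b8 (F.ups w) c) j) * (a' * w) := by
    calc x * (q0 * w * q0⁻¹) * x⁻¹ = (x * a' * x⁻¹) * (x * w * x⁻¹) := by rw [heq]; group
      _ = ee z s k (b8 (F.ups w) c) * (a' * ee z s i j) * w := by rw [hk, hij, hA']; group
      _ = ee z s k (b8 (F.ups w) c) * (ee z s i j * a') * w := by
        rw [F.ee_comm _ _ (F.data.Q_comm ha') has']
      _ = (ee z s k (b8 (F.ups w) c) * ee z s i j) * (a' * w) := by group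
      _ = _ := by rw [F.ee_mul]
  have hkj : k = j := by
    have h' := (F.ee_mul_inj (hR.symm.trans hL)).1
    revert h'
    cases i <;> cases j <;> cases k <;> simp
  -- pass from `a'` to `a`
  have hE : MemE z s (a * a'⁻¹) := F.memE_of_cls (mul_mem ha (inv_mem ha'))
    (Commute.mul_left has (Commute.inv_left has')).eq
    (by rw [F.cls_mul ha (inv_mem ha'), F.cls_inv ha', hA, hA', add_self8])
  refine ⟨k, ?_, by rw [hij, hi, hkj]⟩
  calc x * a * x⁻¹ = (x * (a * a'⁻¹) * x⁻¹) * (x * a' * x⁻¹) := by group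
    _ = a * a'⁻¹ * (ee z s k (b8 (F.ups w) c) * a') := by
      rw [hk, hA', mul_inv_eq_iff_eq_mul.2 (F.memE_comm hE h.comm_z h.comm_s)]
    _ = (a * a'⁻¹ * ee z s k (b8 (F.ups w) c)) * a' := by group
    _ = ee z s k (b8 (F.ups w) c) * a := by
      rw [F.ee_comm _ _ (F.data.Q_comm (F.memE_mem hE).1) (F.W_comm_s (F.memE_mem hE).2)]
      group

/-- The class of the commutator with `p` is fixed. -/
theorem four_comm_fix (h : Four F x c) {p : G} (hp : p ∈ P) (hpz : p * z * p⁻¹ = s * z)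
    (hpz' : p⁻¹ * z * p = s * z) :
    ell (F.ups (x * p * x⁻¹ * p⁻¹)) = F.ups (x * p * x⁻¹ * p⁻¹) := by
  obtain ⟨hb, hbz⟩ := F.comm_P_mem h.comm_z h.comm_s hp hpz hpz'
  obtain ⟨b, hbdef⟩ : ∃ b, b = x * p * x⁻¹ * p⁻¹ := ⟨_, rfl⟩
  rw [← hbdef] at hb hbz ⊢
  have hxi : x⁻¹ = x := inv_eq_of_mul_eq_one_right h.sq
  have e : x * b * x⁻¹ = b⁻¹ := by
    rw [hbdef]
    calc x * (x * p * x⁻¹ * p⁻¹) * x⁻¹ = (x * x) * p * x⁻¹ * p⁻¹ * x⁻¹ := by group
      _ = (x * p * x⁻¹ * p⁻¹)⁻¹ := by rw [h.sq]; simp [mul_inv_rev, hxi, mul_assoc]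
  have hbi : b⁻¹ * z = z * b⁻¹ := (Commute.inv_left hbz).eq
  have h0 : F.ups b + F.ups b⁻¹ = 0 := by
    rw [← F.ups_mul hb hbz (inv_mem hb) hbi, mul_inv_cancel, F.ups_memE (Or.inl rfl)]
  rw [← four_ups h hb hbz, e]
  exact (eq_of_add_eq_zero8 h0).symm

/-- When the class of the commutator with `p` is small, so are all displacements of the
conjugate in which `z` and `s` are exchanged, and this conjugate acts as a transformation. -/
theorem four_small (h : Four F x c) {p : G} (hp : p ∈ P) (hpz : p * z * p⁻¹ = s * z)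
    (hpz' : p⁻¹ * z * p = s * z) (hI : F.ups (x * p * x⁻¹ * p⁻¹) ∈ iList) :
    ∃ g u, (g * x * g⁻¹) * z = z * (g * x * g⁻¹) ∧ InU u ∧ u ≠ 0 ∧ q8 u = false ∧
      ∀ v, F.data.act (g * x * g⁻¹) v = sie u v := by
  classical
  obtain ⟨y, hy0, hy1⟩ := F.exists_swap
  obtain ⟨hy0', hy1'⟩ := F.swap_inv hy0 hy1
  obtain ⟨hI1, hI2, hI3⟩ := iList_facts
  obtain ⟨x', hx'⟩ : ∃ x', x' = y * x * y⁻¹ := ⟨_, rfl⟩
  have hx'z : x' * z = z * x' := by
    have := (Commute.conj_iff y).2 (show Commute x s from h.comm_s)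
    rw [hy1, ← hx'] at this
    exact this.eq
  have hx'2 : x' * x' = 1 := by
    rw [hx', show y * x * y⁻¹ * (y * x * y⁻¹) = y * (x * x) * y⁻¹ by group, h.sq]; group
  have hx'Q : x' ∉ Q := fun hq => by
    have hxP := (F.swap_mem hy0' hy1').1 hq
    rw [hx', show y⁻¹ * (y * x * y⁻¹) * y⁻¹⁻¹ = x by group] at hxP
    have h1 := F.act_W hxP h.comm_z (mk8 8)
    rw [h.act] at h1
    have h2 := congrArg pU h1
    rw [pU_ell_sie ell_eight.2, pU_sie_U _ _ (F.ups_inU x) ell_eight.2] at h2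
    exact ell_eight.1 (by rw [h2, ell_eight.2])
  choose rep hrP hrz hru using fun u : V8 => F.exists_ups (pU_pU u)
  let J : Finset V8 := (iList.toFinset ×ˢ (Finset.univ : Finset Bool)).image
    fun m => π (y * rep m.1 * y⁻¹) + sm m.2 s0
  have hJ : J.card ≤ 8 := by
    refine Finset.card_image_le.trans ?_
    rw [Finset.card_product, Finset.card_univ, Fintype.card_bool]
    have : iList.toFinset.card ≤ 4 := (List.toFinset_card_le _).trans (by decide)
    omega
  have hdisp : ∀ v, F.data.act x' v + v ∈ J ∧ q8 (F.data.act x' v + v) = false := by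
    intro v
    obtain ⟨q, hq, rfl⟩ := F.data.surj v
    have hp' := (F.swap_mem hy0' hy1').1 hq
    rw [inv_inv] at hp'
    obtain ⟨p', hp'def⟩ : ∃ p', p' = y⁻¹ * q * y := ⟨_, rfl⟩
    rw [← hp'def] at hp'
    obtain ⟨t, ht⟩ : ∃ t, t = x * p' * x⁻¹ * p'⁻¹ := ⟨_, rfl⟩
    have hW : t ∈ P ∧ t * z = z * t ∧ F.ups t ∈ iList := by
      by_cases hp'z : p' * z = z * p'
      · obtain ⟨h1, h2⟩ := F.conj_mem_W h.comm_z h.comm_s hp' hp'z
        have hpi : p'⁻¹ * z = z * p'⁻¹ := (Commute.inv_left hp'z).eq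
        refine ⟨ht ▸ mul_mem h1 (inv_mem hp'), ht ▸ (Commute.mul_left h2 hpi).eq, ?_⟩
        have h0 : F.ups p'⁻¹ = F.ups p' := by
          refine (eq_of_add_eq_zero8 ?_).symm
          rw [← F.ups_mul hp' hp'z (inv_mem hp') hpi, mul_inv_cancel, F.ups_memE (Or.inl rfl)]
        rw [ht, F.ups_mul h1 h2 (inv_mem hp') hpi, four_ups h hp' hp'z, h0]
        exact hI1 _ (F.ups_inU p')
      · obtain ⟨w0, hw0def⟩ : ∃ w0, w0 = p' * p⁻¹ := ⟨_, rfl⟩
        have hw0 : w0 ∈ P := hw0def ▸ mul_mem hp' (inv_mem hp)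
        have hw0z : w0 * z = z * w0 := by
          refine mul_inv_eq_iff_eq_mul.1 ?_
          have h3 := F.pair.subP.conj_of_not_commute hp' F.pair.z_mem hp'z
          calc w0 * z * w0⁻¹ = p' * (p⁻¹ * z * p) * p'⁻¹ := by rw [hw0def]; group
            _ = (p' * s * p'⁻¹) * (p' * z * p'⁻¹) := by rw [hpz']; group
            _ = z := by
              rw [mul_inv_eq_iff_eq_mul.2 (F.W_comm_s hp'), h3, ← mul_assoc, F.s_mul_self, one_mul]
        obtain ⟨h1, h2⟩ := F.conj_mem_W h.comm_z h.comm_s hw0 hw0z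
        obtain ⟨hb, hbz⟩ := F.comm_P_mem h.comm_z h.comm_s hp hpz hpz'
        have hwi : w0⁻¹ * z = z * w0⁻¹ := (Commute.inv_left hw0z).eq
        have e : t = (x * w0 * x⁻¹) * (x * p * x⁻¹ * p⁻¹) * w0⁻¹ := by rw [ht, hw0def]; group
        have h4 := Commute.mul_left h2 hbz
        refine ⟨e ▸ mul_mem (mul_mem h1 hb) (inv_mem hw0), e ▸ (h4.mul_left hwi).eq, ?_⟩
        have h0 : F.ups w0⁻¹ = F.ups w0 := by
          refine (eq_of_add_eq_zero8 ?_).symm
          rw [← F.ups_mul hw0 hw0z (inv_mem hw0) hwi, mul_inv_cancel, F.ups_memE (Or.inl rfl)]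
        rw [e, F.ups_mul (mul_mem h1 hb) h4.eq (inv_mem hw0) hwi, F.ups_mul h1 h2 hb hbz,
          four_ups h hw0 hw0z, h0,
          show ∀ a b d : V8, a + b + d = a + d + b from fun a b d => by abel]
        exact hI3 _ (hI1 _ (F.ups_inU w0)) _ hI
    obtain ⟨htP, htz, htI⟩ := hW
    have hπt : π (y * t * y⁻¹) = F.data.act x' (π q) + π q := by
      have e : y * t * y⁻¹ = x' * q * x'⁻¹ * q⁻¹ := by rw [ht, hx', hp'def]; group
      rw [e, F.data.map_mul _ (F.data.sub.conj_mem hx'z hq) _ (inv_mem hq), F.data.π_inv hq,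
        F.data.act_π hx'z hq]
    rw [← hπt]
    have htQ := ((F.swap_mem_W hy0 hy1).2 htP htz).1
    refine ⟨?_, (F.data.sq _ htQ).1 ?_⟩
    · have hu : F.ups (rep (F.ups t)) = F.ups t := by rw [hru]; exact F.ups_inU t
      have hri : (rep (F.ups t))⁻¹ * z = z * (rep (F.ups t))⁻¹ := (Commute.inv_left (hrz _)).eq
      obtain ⟨i, j, hij⟩ := exists_ee (z := z) (s := s) (F.memE_of_ups
        (mul_mem htP (inv_mem (hrP (F.ups t)))) (Commute.mul_left htz hri).eq (by
          obtain ⟨tt, htt⟩ : ∃ tt, tt = rep (F.ups t) := ⟨_, rfl⟩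
          rw [← htt] at hu hri ⊢
          rw [F.ups_mul htP htz (inv_mem (htt ▸ hrP _)) hri, ← hu, ← F.ups_mul (htt ▸ hrP _)
            (htt ▸ hrz _) (inv_mem (htt ▸ hrP _)) hri, mul_inv_cancel, F.ups_memE (Or.inl rfl)]))
      refine Finset.mem_image.2 ⟨(F.ups t, i), Finset.mem_product.2
        ⟨List.mem_toFinset.2 htI, Finset.mem_univ _⟩, ?_⟩
      have hyee : y * ee z s i j * y⁻¹ = ee z s j i := by
        have hsz : s * z = z * s := F.s_comm
        cases i <;> cases j <;> simp only [ee, Bool.false_eq_true, if_true, if_false, one_mul,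
          mul_one, mul_inv_cancel]
        · exact hy1
        · exact hy0
        · rw [show y * (z * s) * y⁻¹ = (y * z * y⁻¹) * (y * s * y⁻¹) by group, hy0, hy1, hsz]
      have ht' : t = ee z s i j * rep (F.ups t) := by rw [← hij]; group
      have hrQ := ((F.swap_mem_W hy0 hy1).2 (hrP (F.ups t)) (hrz _)).1
      conv_rhs => rw [ht']
      rw [show y * (ee z s i j * rep (F.ups t)) * y⁻¹ =
        (y * ee z s i j * y⁻¹) * (y * rep (F.ups t) * y⁻¹) by group, hyee,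
        F.data.map_mul _ (F.memE_mem (F.ee_memE j i)).1 _ hrQ, F.ee_π, add_comm]
    · rw [show y * t * y⁻¹ * (y * t * y⁻¹) = y * (t * t) * y⁻¹ by group, F.W_sq htP htz,
        (hI2 _ htI).2]
      simp [ee]
  obtain ⟨d, hd, hd'⟩ := F.normal_form hx'z hx'2 hx'Q
  obtain ⟨y', hy'⟩ : ∃ y', y' = d * x' * d⁻¹ := ⟨_, rfl⟩
  rw [← hy'] at hd'
  have hy'z : y' * z = z * y' := hy' ▸ ((Commute.mul_left hd hx'z).mul_left (Commute.inv_left hd)).eq
  have hdisp' : ∀ v, F.data.act y' v + v ∈ J.image (F.data.act d) ∧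
      q8 (F.data.act y' v + v) = false := by
    intro v
    have e : F.data.act y' v + v =
        F.data.act d (F.data.act x' (F.data.act d⁻¹ v) + F.data.act d⁻¹ v) := by
      rw [hy', F.data.act_conj hd hx'z, (F.data.act_iso hd).add, (F.data.act_cancel hd v).2]
    rw [e, (F.data.act_iso hd).quad]
    exact ⟨Finset.mem_image_of_mem _ (hdisp _).1, (hdisp _).2⟩
  have hgx : d * y * x * (d * y)⁻¹ = y' := by rw [hy', hx']; group
  rcases hd' with ⟨u, hu, hu0, hact⟩ | ⟨-, u, hu, hfix, hnI, hact⟩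
  · refine ⟨d * y, u, hgx ▸ hy'z, hu, hu0, ?_, fun v => by rw [hgx]; exact hact v⟩
    have h1 := (hdisp' d0).2
    rw [hact, show sie u d0 + d0 = u + sm (q8 u) s0 by
      rw [sie, show b8 d0 s0 = true from by decide, b8_comm d0 u, (inU_orth u hu).2]
      show d0 + (u + sm (q8 u) s0) + 0 + d0 = _
      rw [add_zero, add_comm d0, add_add_cancel8], q8_add, b8_sm_right, (inU_orth u hu).1,
      Bool.and_false, Bool.xor_false] at h1
    revert h1
    cases hq : q8 u
    · simp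
    · simp [sm, q8_s0]
  · exfalso
    have h16 := ell_sie_image u hu hfix hnI
    have hle := Finset.card_le_card (s := Finset.univ.image fun v => ell (sie u v) + v)
      (t := J.image (F.data.act d)) fun m hm => by
        obtain ⟨v, -, rfl⟩ := Finset.mem_image.1 hm
        rw [← hact]; exact (hdisp' v).1
    have := hle.trans Finset.card_image_le
    omega

/-- An involution acting with rank four is conjugate to one acting as a singular transformation. -/
theorem four_fuse (h : Four F x c) :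
    ∃ g u, (g * x * g⁻¹) * z = z * (g * x * g⁻¹) ∧ InU u ∧ u ≠ 0 ∧ q8 u = false ∧
      ∀ v, F.data.act (g * x * g⁻¹) v = sie u v := by
  obtain ⟨p, hp, hpz, hpz'⟩ := F.exists_moving
  obtain ⟨hbP, hbz⟩ := F.comm_P_mem h.comm_z h.comm_s hp hpz hpz'
  have hfix2 := four_comm_fix h hp hpz hpz'
  obtain ⟨c2, hc2⟩ : ∃ c2, c2 = F.ups (x * p * x⁻¹ * p⁻¹) := ⟨_, rfl⟩
  have hc2U : InU c2 := hc2 ▸ F.ups_inU _
  rw [← hc2] at hfix2
  by_cases hI : c2 ∈ iList
  · exact four_small h hp hpz hpz' (hc2 ▸ hI)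
  have hxi : x⁻¹ = x := inv_eq_of_mul_eq_one_right h.sq
  by_cases hI' : c2 + c ∈ iList
  · obtain ⟨q0, hq0, hq0d⟩ := F.data.surj d0
    have hq0z := F.data.Q_comm hq0
    have hq0i : q0⁻¹ * z = z * q0⁻¹ := (Commute.inv_left hq0z).eq
    obtain ⟨x0, hx0⟩ : ∃ x0, x0 = q0⁻¹ * x * q0 := ⟨_, rfl⟩
    have hx0z : x0 * z = z * x0 := hx0 ▸ ((Commute.mul_left hq0i h.comm_z).mul_left hq0z).eq
    have hact0 : ∀ v, F.data.act x0 v = ell (sie c v) := fun v => by
      rw [hx0, F.data.act_mul (Commute.mul_left hq0i h.comm_z).eq hq0z,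
        F.data.act_mul hq0i h.comm_z, F.data.act_of_mem hq0, F.data.act_of_mem (inv_mem hq0), h.act]
    have hx02 : x0 * x0 = 1 := by
      rw [hx0, show q0⁻¹ * x * q0 * (q0⁻¹ * x * q0) = q0⁻¹ * (x * x) * q0 by group, h.sq]; group
    obtain ⟨a1, ha1def⟩ : ∃ a1, a1 = q0⁻¹ * (x * q0 * x⁻¹) := ⟨_, rfl⟩
    have ha1 : a1 ∈ Q := ha1def ▸ mul_mem (inv_mem hq0) (F.data.sub.conj_mem h.comm_z hq0)
    have hπ1 : π a1 = c + sm (q8 c) s0 := by
      rw [ha1def, F.data.map_mul _ (inv_mem hq0) _ (F.data.sub.conj_mem h.comm_z hq0),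
        F.data.π_inv hq0, ← F.data.act_π h.comm_z hq0, h.act, hq0d, act_d0_shape h.inU h.fix]
      calc d0 + (d0 + c + sm (q8 c) s0) = c + sm (q8 c) s0 + (d0 + d0) := by abel
        _ = _ := by rw [add_self8, add_zero]
    have has1 : a1 * s = s * a1 := (F.comm_s_iff ha1).2 (by
      rw [hπ1, b8_add_left, (inU_orth c h.inU).1, b8_sm_left, b8_self, Bool.and_false]; rfl)
    have hc1 : cls π a1 = c := by
      rw [cls, hπ1, pU_add, pU_sm, pU_s0, h.inU]; cases q8 c <;> simp [sm]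
    have hx0a : x0 = a1 * x := by rw [hx0, ha1def]; group
    have hx0s : x0 * s = s * x0 := by rw [hx0a]; exact (Commute.mul_left has1 h.comm_s).eq
    have h0 : Four F x0 c := ⟨hx0z, hx02, hx0s, h.inU, h.fix, h.not_mem, hact0⟩
    obtain ⟨g, u, h1, h2, h3, h4, h5⟩ := four_small h0 hp hpz hpz' (by
      obtain ⟨h6, h7⟩ := F.comm_P_mem (F.data.Q_comm ha1) has1 hp hpz hpz'
      obtain ⟨h8, h9⟩ := F.conj_mem_W (F.data.Q_comm ha1) has1 hbP hbz
      rw [show x0 * p * x0⁻¹ * p⁻¹ =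
        (a1 * (x * p * x⁻¹ * p⁻¹) * a1⁻¹) * (a1 * p * a1⁻¹ * p⁻¹) by rw [hx0a]; group,
        F.ups_mul h8 h9 h6 h7, F.ups_comm_P ha1 has1 hp hpz hpz', hc1,
        F.ups_conj (F.data.Q_comm ha1) has1 hbP hbz, F.data.act_of_mem ha1, ← hc2, hc2U]
      exact hI')
    refine ⟨g * q0⁻¹, u, ?_⟩
    rw [show g * q0⁻¹ * x * (g * q0⁻¹)⁻¹ = g * x0 * g⁻¹ by rw [hx0]; group]
    exact ⟨h1, h2, h3, h4, h5⟩
  exfalso
  have hB : b8 c c2 = true := b8_fixed_pair c (mem_uVecs _ h.inU) c2 (mem_uVecs _ hc2U) h.fix hfix2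
    h.not_mem hI (by rw [add_comm]; exact hI')
  obtain ⟨w, hw, hwz, hwu⟩ := F.exists_ups h.inU
  obtain ⟨A1, hA1, hA1s, hA1π⟩ := F.exists_mem c (inU_orth c h.inU).1
  obtain ⟨A2, hA2, hA2s, hA2π⟩ := F.exists_mem c2 (inU_orth c2 hc2U).1
  have hcl1 : cls π A1 = c := by rw [cls, hA1π]; exact h.inU
  have hcl2 : cls π A2 = c2 := by rw [cls, hA2π]; exact hc2U
  obtain ⟨b, hbdef⟩ : ∃ b, b = x * p * x⁻¹ * p⁻¹ := ⟨_, rfl⟩
  rw [← hbdef] at hbP hbz
  have hbu : F.ups b = c2 := by rw [hc2, hbdef]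
  obtain ⟨k1, hA1x, hwx⟩ := four_xi h hp hpz hpz' hA1 hA1s hw hwz (hcl1.trans hwu.symm)
    (by rw [hwu]; exact h.fix)
  obtain ⟨k2, hA2x, hbx⟩ := four_xi h hp hpz hpz' hA2 hA2s hbP hbz (hcl2.trans hbu.symm)
    (by rw [hbu]; exact hfix2)
  rw [← hc2, hwu, b8_comm c2 c, hB] at hwx
  rw [hwu, b8_self] at hA1x
  rw [hbu, b8_comm c2 c, hB] at hA2x
  rw [← hc2, hbu, b8_self] at hbx
  -- the values of the exponents
  have hk2 : k2 = q8 c2 := by
    have e : x * b * x⁻¹ = b⁻¹ := by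
      rw [hbdef]
      calc x * (x * p * x⁻¹ * p⁻¹) * x⁻¹ = (x * x) * p * x⁻¹ * p⁻¹ * x⁻¹ := by group
        _ = (x * p * x⁻¹ * p⁻¹)⁻¹ := by rw [h.sq]; simp [mul_inv_rev, hxi, mul_assoc]
    rw [hbx, F.W_inv hbP hbz, hbu] at e
    exact (F.ee_mul_inj e).2
  have hk1 : k1 = q8 c := by
    obtain ⟨q0, hq0, hq0d⟩ := F.data.surj d0
    obtain ⟨a1, ha1def⟩ : ∃ a1, a1 = x * q0 * x⁻¹ * q0⁻¹ := ⟨_, rfl⟩
    have ha1 : a1 ∈ Q := ha1def ▸ mul_mem (F.data.sub.conj_mem h.comm_z hq0) (inv_mem hq0)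
    have hπ1 : π a1 = c + sm (q8 c) s0 := by
      rw [ha1def, F.data.map_mul _ (F.data.sub.conj_mem h.comm_z hq0) _ (inv_mem hq0),
        F.data.π_inv hq0, ← F.data.act_π h.comm_z hq0, h.act, hq0d, act_d0_shape h.inU h.fix]
      calc d0 + c + sm (q8 c) s0 + d0 = c + sm (q8 c) s0 + (d0 + d0) := by abel
        _ = _ := by rw [add_self8, add_zero]
    have has1 : a1 * s = s * a1 := (F.comm_s_iff ha1).2 (by
      rw [hπ1, b8_add_left, (inU_orth c h.inU).1, b8_sm_left, b8_self, Bool.and_false]; rfl)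
    have hc1 : cls π a1 = c := by
      rw [cls, hπ1, pU_add, pU_sm, pU_s0, h.inU]; cases q8 c <;> simp [sm]
    obtain ⟨k, hk, hkw⟩ := four_xi h hp hpz hpz' ha1 has1 hw hwz (hc1.trans hwu.symm)
      (by rw [hwu]; exact h.fix)
    rw [hwx] at hkw
    have e1 : k1 = k := (F.ee_mul_inj hkw).2
    have e : x * a1 * x⁻¹ = a1⁻¹ := by
      rw [ha1def]
      calc x * (x * q0 * x⁻¹ * q0⁻¹) * x⁻¹ = (x * x) * q0 * x⁻¹ * q0⁻¹ * x⁻¹ := by group
        _ = (x * q0 * x⁻¹ * q0⁻¹)⁻¹ := by rw [h.sq]; simp [mul_inv_rev, hxi, mul_assoc]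
    rw [hk, F.Q_inv ha1] at e
    rw [e1, (F.ee_mul_inj e).1, ← q8_pU _ ((F.comm_s_iff ha1).1 has1)]
    exact congrArg q8 hc1
  subst hk1 hk2
  -- the auxiliary involution
  have hA2w := (F.comm_QW hA2 hA2s hw hwz).1
  rw [hcl2, hwu, b8_comm c2 c, hB] at hA2w
  obtain ⟨k, hk⟩ : ∃ k, k = x * (A2 * w) := ⟨_, rfl⟩
  have hkz : k * z = z * k := hk ▸ (Commute.mul_right (Commute.symm h.comm_z)
    (Commute.mul_right (Commute.symm (F.data.Q_comm hA2)) (Commute.symm hwz))).symm.eq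
  have hks : k * s = s * k := hk ▸ (Commute.mul_right (Commute.symm h.comm_s)
    (Commute.mul_right (Commute.symm hA2s) (Commute.symm (F.W_comm_s hw)))).symm.eq
  have hwA : (A2 * w) * z = z * (A2 * w) := (Commute.mul_left (F.data.Q_comm hA2) hwz).eq
  have hactk : ∀ v, F.data.act k v = ell v := fun v => by
    rw [hk, F.data.act_mul h.comm_z hwA, h.act, F.data.act_mul (F.data.Q_comm hA2) hwz,
      F.data.act_of_mem hA2, F.act_W hw hwz, hwu, sie_sie c (mem_uVecs _ h.inU)]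
  have hsq : A2 * w * (A2 * w) = ee z s (!q8 c2) (!q8 c) := by
    calc A2 * w * (A2 * w) = A2 * (w * A2 * w⁻¹) * (w * w) := by group
      _ = A2 * ee z s true true * A2 * (w * w) := by rw [hA2w]; group
      _ = ee z s true true * (A2 * A2) * (w * w) := by
        rw [F.ee_comm _ _ (F.data.Q_comm hA2) hA2s]; group
      _ = _ := by
        rw [F.Q_sq hA2, F.W_sq hw hwz, hA2π, hwu, F.ee_mul, F.ee_mul]; simp
  have hk2' : k * k = 1 := by
    have e : x * (A2 * w) * x⁻¹ = ee z s (!q8 c2) (!q8 c) * (A2 * w) := by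
      calc x * (A2 * w) * x⁻¹ = (x * A2 * x⁻¹) * (x * w * x⁻¹) := by group
        _ = ee z s (q8 c2) true * (A2 * ee z s true (q8 c)) * w := by rw [hA2x, hwx]; group
        _ = ee z s (q8 c2) true * (ee z s true (q8 c) * A2) * w := by
          rw [F.ee_comm _ _ (F.data.Q_comm hA2) hA2s]
        _ = (ee z s (q8 c2) true * ee z s true (q8 c)) * (A2 * w) := by group
        _ = _ := by rw [F.ee_mul]; cases q8 c <;> cases q8 c2 <;> rfl
    calc k * k = (x * (A2 * w) * x⁻¹) * (x * x) * (A2 * w) := by rw [hk]; group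
      _ = ee z s (!q8 c2) (!q8 c) * (A2 * w * (A2 * w)) := by rw [e, h.sq]; group
      _ = 1 := by rw [hsq, F.ee_self]
  -- its action on three fixed elements
  have hconj : ∀ {a : G}, a ∈ Q → a * s = s * a →
      (A2 * w) * a * (A2 * w)⁻¹ =
        ee z s (xor (b8 (cls π a) c) (b8 c2 (cls π a))) (b8 (cls π a) c) * a := by
    intro a ha has
    have h1 := (F.comm_QW ha has hw hwz).1
    have h2 := F.conj_QQ ha has hA2 hA2s
    rw [hwu] at h1
    rw [hcl2] at h2
    calc (A2 * w) * a * (A2 * w)⁻¹ = A2 * (w * a * w⁻¹) * A2⁻¹ := by group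
      _ = (A2 * ee z s (b8 (cls π a) c) (b8 (cls π a) c) * A2⁻¹) * (A2 * a * A2⁻¹) := by
        rw [h1]; group
      _ = _ := by
        rw [F.conj_ee _ _ (F.data.Q_comm hA2) hA2s, h2, ← mul_assoc, F.ee_mul, Bool.xor_false]
  have hkA : ∀ {a : G} {i j : Bool}, a ∈ Q → a * s = s * a → x * a * x⁻¹ = ee z s i j * a →
      k * a * k⁻¹ = ee z s (xor (xor (b8 (cls π a) c) (b8 c2 (cls π a))) i)
        (xor (b8 (cls π a) c) j) * a := by
    intro a i j ha has hax
    calc k * a * k⁻¹ = x * ((A2 * w) * a * (A2 * w)⁻¹) * x⁻¹ := by rw [hk]; group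
      _ = (x * ee z s (xor (b8 (cls π a) c) (b8 c2 (cls π a))) (b8 (cls π a) c) * x⁻¹) *
          (x * a * x⁻¹) := by rw [hconj ha has]; group
      _ = _ := by rw [F.conj_ee _ _ h.comm_z h.comm_s, hax, ← mul_assoc, F.ee_mul]
  have hk1c : k * A1 * k⁻¹ = ee z s (!q8 c) false * A1 := by
    rw [hkA hA1 hA1s hA1x, hcl1, b8_self, b8_comm c2 c, hB]
    cases q8 c <;> rfl
  have hk2c : k * A2 * k⁻¹ = ee z s (!q8 c2) false * A2 := by
    rw [hkA hA2 hA2s hA2x, hcl2, b8_self, b8_comm c2 c, hB]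
    cases q8 c2 <;> rfl
  have hksc : k * s * k⁻¹ = ee z s false false * s := by
    rw [ee_false, one_mul]; exact mul_inv_eq_iff_eq_mul.2 hks
  -- transport to a transformation
  obtain ⟨n, hn, hnv⟩ := F.data.exists_pw gWord gWord_ok.1
  have hni : n⁻¹ * z = z * n⁻¹ := (Commute.inv_left hn).eq
  obtain ⟨k', hk'⟩ : ∃ k', k' = n * k * n⁻¹ := ⟨_, rfl⟩
  have hk'z : k' * z = z * k' := hk' ▸ ((Commute.mul_left hn hkz).mul_left hni).eq
  have hk'2 : k' * k' = 1 := by
    rw [hk', show n * k * n⁻¹ * (n * k * n⁻¹) = n * (k * k) * n⁻¹ by group, hk2']; group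
  obtain ⟨hu40, hu40', hq40⟩ := mk40
  have hk'v : ∀ v, F.data.act k' v = sie (mk8 40) v := fun v => by
    obtain ⟨v', rfl⟩ : ∃ v', v = F.data.act n v' :=
      ⟨F.data.act n⁻¹ v, (F.data.act_cancel hn v).2.symm⟩
    rw [hk', F.data.act_conj hn hkz, (F.data.act_cancel hn v').1, hactk, hnv, hnv]
    exact gWord_ok.2 v'
  obtain ⟨a', w', ha', has', hw', hwz', hwu', hkaw⟩ := F.sie_decomp hk'z hk'2 hu40 hu40' hk'v
  obtain ⟨hqA, hqU⟩ := (F.sq_iff ha' has' hw' hwz').1 (hkaw ▸ hk'2)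
  rw [hwu', hq40] at hqU
  rw [hwu', ← hqU] at hqA
  have key : ∀ {a : G} {φ : Bool}, a ∈ Q → ell (π a) = π a → k * a * k⁻¹ = ee z s φ false * a →
      b8 (pU (pw gWord (π a))) (cls π a') = φ := by
    intro a φ ha hfa hka
    obtain ⟨q', hq'⟩ : ∃ q', q' = n * a * n⁻¹ := ⟨_, rfl⟩
    have hq'Q : q' ∈ Q := hq' ▸ F.data.sub.conj_mem hn ha
    have hq'π : π q' = pw gWord (π a) := by rw [hq', ← F.data.act_π hn ha, hnv]
    have hfix' : sie (mk8 40) (π q') = π q' := by rw [hq'π, ← gWord_ok.2, hfa]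
    have ho := sie_moves _ hu40 hu40' (π q') (Or.inl (by rw [hfix', add_self8]))
    have hq's := (F.comm_s_iff hq'Q).2 ho
    have hcu : b8 (cls π q') (mk8 40) = false := by
      have h1 := sie_add_orth (mk8 40) (π q') ho
      rw [hfix', add_self8] at h1
      rw [cls, b8_pU_left ho hu40]
      cases hb : b8 (π q') (mk8 40)
      · rfl
      · rw [hb] at h1; exact absurd h1.symm s0_ne_zero
    have h2 := F.conj_QQ ha' has' hq'Q hq's
    have h3 := (F.comm_QW hq'Q hq's hw' hwz').2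
    rw [hwu', hcu, ee_false, one_mul] at h3
    have h4 : q' * k' * q'⁻¹ = ee z s (b8 (cls π q') (cls π a')) false * k' := by
      rw [hkaw]
      calc q' * (a' * w') * q'⁻¹ = (q' * a' * q'⁻¹) * (q' * w' * q'⁻¹) := by group
        _ = _ := by rw [h2, h3]; group
    have h5 : q' * k' * q'⁻¹ = ee z s φ false * k' := by
      have hee : n * ee z s φ false * n⁻¹ = ee z s φ false := by
        cases φ
        · simp [ee]
        · simp [ee, mul_inv_eq_iff_eq_mul.2 hn]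
      have h6 : k' * q' * k'⁻¹ = ee z s φ false * q' := by
        calc k' * q' * k'⁻¹ = n * (k * a * k⁻¹) * n⁻¹ := by rw [hk', hq']; group
          _ = (n * ee z s φ false * n⁻¹) * (n * a * n⁻¹) := by rw [hka]; group
          _ = _ := by rw [hee, hq']
      have hcomm : k' * ee z s φ false = ee z s φ false * k' := by
        cases φ
        · simp [ee]
        · simp [ee, hk'z]
      calc q' * k' * q'⁻¹ = (ee z s φ false * ee z s φ false) * q' * k' * q'⁻¹ := by
            rw [F.ee_self, one_mul]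
        _ = ee z s φ false * (ee z s φ false * q') * k' * q'⁻¹ := by group
        _ = ee z s φ false * (k' * q' * k'⁻¹) * k' * q'⁻¹ := by rw [h6]
        _ = _ := by group
    have h7 := (F.ee_mul_inj (h4.symm.trans h5)).1
    rwa [cls, hq'π] at h7
  exact no_transport c (mem_uVecs _ h.inU) c2 (mem_uVecs _ hc2U) ⟨h.fix, hfix2, h.not_mem, hI,
    by rw [add_comm]; exact hI', cls π a', mem_uVecs _ (cls_inU π a'),
    hqA, hqU.symm,
    by rw [← F.π_s]; exact key F.pair.mem (by rw [F.π_s]; exact ell_fix.1) hksc,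
    by have := key hA1 (by rw [hA1π]; exact h.fix) hk1c; rwa [hA1π] at this,
    by have := key hA2 (by rw [hA2π]; exact hfix2) hk2c; rwa [hA2π] at this⟩

end Frame

end CfsgLib.ConwayType
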