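import Cfsg.Agent.ConwayType.Sylow

/-!
# The two shapes of an involution of `C(z)` outside `Q`
-/

set_option autoImplicit false

namespace CfsgLib.ConwayType

open CfsgLib.LargeExtraspecial

theorem ell_ell : ∀ v : V8, ell (ell v) = v := by decide +kernel

theorem basis8_ne : ∀ v : V8, (∀ e ∈ basis8, b8 v e = false) → v = 0 := by decide +kernel

namespace IsIso8

variable {f : V8 → V8}

theorem comp {g : V8 → V8} (hf : IsIso8 f) (hg : IsIso8 g) : IsIso8 fun v => f (g v) :=
  ⟨fun u v => by simp only [hg.add, hf.add], fun v => by simp only [hf.quad, hg.quad]⟩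

/-- The norm of `f v + v` is a scalar product. -/
theorem q8_move (hf : IsIso8 f) (v : V8) : q8 (f v + v) = b8 (f v) v := by
  rw [q8_add, hf.quad, Bool.xor_self, Bool.false_xor]

/-- For an involutive isometry that norm is additive. -/
theorem q8_move_add (hf : IsIso8 f) (h2 : ∀ v, f (f v) = v) (u v : V8) :
    q8 (f (u + v) + (u + v)) = xor (q8 (f u + u)) (q8 (f v + v)) := by
  rw [hf.q8_move, hf.q8_move, hf.q8_move, hf.add]
  simp only [b8_add_left, b8_add_right]
  have h : b8 (f u) v = b8 (f v) u := by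
    conv_lhs => rw [← hf.polar, h2]
    exact b8_comm _ _
  rw [h]
  cases b8 (f u) u <;> cases b8 (f v) u <;> cases b8 (f v) v <;> rfl

theorem q8_move_orth (hf : IsIso8 f) (h2 : ∀ v, f (f v) = v) {w : V8}
    (h : (∀ e ∈ basis8, q8 (f e + e) = false) ∨ ∀ e ∈ basis8, q8 (f e + e) = b8 e w) (v : V8)
    (hv : b8 v w = false) : q8 (f v + v) = false := by
  rcases h with h | h
  · exact bool_ext8 (g := fun _ => false) (hf.q8_move_add h2) (fun _ _ => rfl) h v
  · have := bool_ext8 (g := fun v => b8 v w) (hf.q8_move_add h2) (fun a b => b8_add_left a b w) h v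
    rw [this]; exact hv

end IsIso8

namespace Frame

variable {G : Type*} [Group G] {z s : G} {Q P : Subgroup G} {π : G → V8} (F : Frame z Q π P s)
include F

/-- An involution that moves something by `s0` centralizes `s`. -/
theorem comm_s_of_image {x : G} (hx : x * z = z * x) (h2 : x * x = 1) {e : V8}
    (he : F.data.act x e + e = s0) : x * s = s * x := by
  obtain ⟨q, hq, rfl⟩ := F.data.surj e
  rw [F.data.act_π hx hq, ← F.data.π_inv hq,
    ← F.data.map_mul _ (F.data.sub.conj_mem hx hq) _ (inv_mem hq)] at he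
  obtain ⟨t, ht⟩ : ∃ t, t = x * q * x⁻¹ * q⁻¹ := ⟨_, rfl⟩
  rw [← ht] at he
  have htQ : t ∈ Q := ht ▸ mul_mem (F.data.sub.conj_mem hx hq) (inv_mem hq)
  have hxi : x⁻¹ = x := inv_eq_of_mul_eq_one_right h2
  have htt : t * t = 1 := (F.data.sq t htQ).2 (by rw [he]; exact q8_s0)
  have hti : t⁻¹ = t := inv_eq_of_mul_eq_one_right htt
  have hxt : x * t * x⁻¹ = t⁻¹ := by
    rw [ht]
    calc x * (x * q * x⁻¹ * q⁻¹) * x⁻¹ = (x * x) * q * x⁻¹ * q⁻¹ * x⁻¹ := by group
      _ = (x * q * x⁻¹ * q⁻¹)⁻¹ := by rw [h2]; simp [mul_inv_rev, hxi, mul_assoc]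
  rw [hti] at hxt
  have hxt' : Commute x t := mul_inv_eq_iff_eq_mul.1 hxt
  rcases F.data.eq_or_eq_of_π_eq F.pair.mem htQ (by rw [he, F.π_s]) with r | r
  · exact (r ▸ hxt').eq
  · have : Commute x (z * t) := Commute.mul_right hx hxt'
    rw [r, ← mul_assoc, F.data.sub.mul_self, one_mul] at this
    exact this.eq

variable [Finite G]

omit [Finite G] in
/-- An involution of `C(z)` outside `Q` fixing `s0` and trivial on its orthogonal modulo `s0` acts
as a transformation. -/
theorem sie_of_trivial {y : G} (hy : y * z = z * y) (hyQ : y ∉ Q) (hs : F.data.act y s0 = s0)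
    (h : ∀ v, b8 v s0 = false → F.data.act y v + v = 0 ∨ F.data.act y v + v = s0) :
    ∃ u, InU u ∧ u ≠ 0 ∧ ∀ v, F.data.act y v = sie u v := by
  have hsie := (F.data.act_iso hy).eq_sie hs h
  exact ⟨_, pU_pU _, fun h0 => hyQ (F.data.mem_of_act hy fun v => by rw [hsie, h0, sie_zero]), hsie⟩

omit [Finite G] in
/-- A conjugate by an element of `C(z)` moving a suitable point to `s0` fixes `s0`. -/
theorem move_axis {y d : G} (hy : y * z = z * y) (hd : d * z = z * d) {w : V8}
    (hdw : F.data.act d w = s0) (hyw : F.data.act y w = w) :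
    F.data.act (d * y * d⁻¹) s0 = s0 := by
  have : F.data.act d⁻¹ s0 = w := by rw [← hdw]; exact (F.data.act_cancel hd w).1
  rw [F.data.act_conj hd hy, this, hyw, hdw]

/-- The first reduction: an involution outside `Q` moves some vector by a singular point, and
the orthogonal of that point gets singular displacements only. -/
theorem exists_alternating {x : G} (hx : x * z = z * x) (h2 : x * x = 1) (hxQ : x ∉ Q) :
    ∃ c, c * z = z * c ∧ F.data.InS (c * x * c⁻¹) ∧
      (∃ e, F.data.act (c * x * c⁻¹) e + e = s0) ∧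
      ∀ v, b8 v s0 = false → q8 (F.data.act (c * x * c⁻¹) v + v) = false := by
  obtain ⟨c, hc, hcS⟩ := F.exists_conj_inS (Subgroup.centralizer ({z} : Set G))
    (fun h hh => Subgroup.mem_centralizer_singleton_iff.1 hh)
    (fun h hh => Subgroup.mem_centralizer_singleton_iff.2 (F.data.mem_sylS.1 hh).1)
    (Subgroup.mem_centralizer_singleton_iff.2 hx) h2
  have hcz := Subgroup.mem_centralizer_singleton_iff.1 hc
  set y := c * x * c⁻¹ with hy
  have hyz : y * z = z * y := hcS.1
  have hyy : y * y = 1 := by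
    rw [hy, show c * x * c⁻¹ * (c * x * c⁻¹) = c * (x * x) * c⁻¹ by group, h2]; group
  have hyQ : y ∉ Q := fun h => hxQ (by
    have := F.data.sub.conj_mem (Commute.inv_left hcz).eq h
    simpa [hy, mul_assoc] using this)
  obtain ⟨n, wW, -, hwW, hwWz, -, hyv⟩ := F.inS_cases hcS
  set f := F.data.act y with hf
  have hiso : IsIso8 f := F.data.act_iso hyz
  have hff : ∀ v, f (f v) = v := fun v => by rw [hf, ← F.data.act_mul hyz hyz, hyy, F.data.act_one]
  rcases exists_axis _ hcS.2.2 _ (mem_uVecs _ (F.ups_inU wW))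
    (fun e _ => by rw [← hyv, ← hyv]; exact hff e) with h | ⟨k, -, hq, hne, hfun⟩
  · exact absurd (F.data.mem_of_act hyz fun v => (hiso.ext_basis (g := fun v => v)
      ⟨fun _ _ => rfl, fun _ => rfl⟩ (List.map_congr_left fun e he => by
        rw [hyv]; exact h e he) v)) hyQ
  obtain ⟨w, hw⟩ : ∃ w, w = bitsum (basis8.map fun e => f e + e) k := ⟨_, rfl⟩
  have hmap : (basis8.map fun e => app8 (ext8 (codeU (F.data.act y))) (sie (F.ups wW) e) + e) =
      basis8.map fun e => f e + e := List.map_congr_left fun e _ => by rw [← hyv]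
  rw [hmap, ← hw] at hq hne hfun
  simp only [show ∀ v, app8 (ext8 (codeU (F.data.act y))) (sie (F.ups wW) v) = f v from
    fun v => (hyv v).symm] at hfun
  have hwe : w = f (bitsum basis8 k) + bitsum basis8 k := by
    rw [hw]
    exact bitsum_map (f := fun e => f e + e) (fun a b => by
      rw [hiso.add]; abel) (by show f 0 + 0 = 0; rw [hiso.zero, add_zero]) _ _
  have hfw : f w = w := by rw [hwe, hiso.add, hff, add_comm]
  obtain ⟨d, hd, hdw⟩ := F.data.exists_move hq hne
  set y2 := d * y * d⁻¹ with hy2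
  have hy2z : y2 * z = z * y2 :=
    ((Commute.mul_left hd hyz).mul_left (Commute.inv_left hd)).eq
  have hy2s : F.data.act y2 s0 = s0 := F.move_axis hyz hd hdw hfw
  have hy22 : y2 * y2 = 1 := by
    rw [hy2, show d * y * d⁻¹ * (d * y * d⁻¹) = d * (y * y) * d⁻¹ by group, hyy]; group
  -- the stabilizer of `s0`
  let H : Subgroup G :=
    { carrier := {h | h * z = z * h ∧ F.data.act h s0 = s0}
      one_mem' := ⟨by simp, F.data.act_one _⟩
      mul_mem' := fun {a b} ha hb => ⟨(Commute.mul_left ha.1 hb.1).eq,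
        by rw [F.data.act_mul ha.1 hb.1, hb.2, ha.2]⟩
      inv_mem' := fun {a} ha => ⟨(Commute.inv_left ha.1).eq, by
        conv_lhs => rw [← ha.2]
        exact (F.data.act_cancel ha.1 s0).1⟩ }
  obtain ⟨g, hg, hgS⟩ := F.exists_conj_inS H (fun h hh => hh.1)
    (fun h hh => ⟨(F.data.mem_sylS.1 hh).1, (F.data.mem_sylS.1 hh).2.1⟩) (x := y2) ⟨hy2z, hy2s⟩ hy22
  obtain ⟨hgz, hgs⟩ : g * z = z * g ∧ F.data.act g s0 = s0 := hg
  have hgd : (g * d) * z = z * (g * d) := (Commute.mul_left hgz hd).eq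
  have hgdw : F.data.act (g * d) w = s0 := by rw [F.data.act_mul hgz hd, hdw, hgs]
  have heq : g * d * c * x * (g * d * c)⁻¹ = g * y2 * g⁻¹ := by rw [hy2, hy]; group
  have heq' : g * y2 * g⁻¹ = (g * d) * y * (g * d)⁻¹ := by rw [hy2]; group
  refine ⟨g * d * c, (Commute.mul_left hgd hcz).eq, heq ▸ hgS, ⟨F.data.act (g * d) (bitsum basis8 k), ?_⟩,
    fun v hv => ?_⟩
  · rw [heq, heq', F.data.act_conj hgd hyz, (F.data.act_cancel hgd _).1,
      ← (F.data.act_iso hgd).add, ← hf, ← hwe, hgdw]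
  · have hb : b8 (F.data.act (g * d)⁻¹ v) w = false := by
      have h1 := (F.data.act_iso hgd).polar (F.data.act (g * d)⁻¹ v) w
      rw [(F.data.act_cancel hgd v).2, hgdw, hv] at h1
      exact h1.symm
    rw [heq, heq', F.data.act_conj hgd hyz]
    conv_lhs => arg 1; arg 2; rw [← (F.data.act_cancel hgd v).2]
    rw [← (F.data.act_iso hgd).add, (F.data.act_iso hgd).quad]
    exact hiso.q8_move_orth hff hfun _ hb

omit [Finite G] in
/-- Conjugating the alternating involutions of the small group to `ell`. -/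
theorem exists_conj_ellCode {t : List V8} (ht : t ∈ ellClass) :
    ∃ n, n * z = z * n ∧ n * s = s * n ∧
      t = basisU.map fun e => pU (F.data.act n (ell (pU (F.data.act n⁻¹ e)))) := by
  refine chainOK_prop (P := fun l => ∃ n, n * z = z * n ∧ n * s = s * n ∧
      l = basisU.map fun e => pU (F.data.act n (ell (pU (F.data.act n⁻¹ e)))))
    ⟨1, by simp, by simp, List.map_congr_left fun e he => ?_⟩ (fun g hg l hl => ?_)
    ellClass ellClass_chain t ht
  · rw [inv_one, F.data.act_one, F.data.act_one, basisU_inU e he, ell_fix.2.2, basisU_inU e he]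
  · obtain ⟨p, hp, rfl⟩ := List.mem_map.1 hg
    obtain ⟨n, hn, hns, rfl⟩ := hl
    obtain ⟨h1, h2, -, hrs, h5⟩ := hgGens_ok p hp
    obtain ⟨m, hm, hms, hmv⟩ := F.exists_pr h1 h2
    have hni : n⁻¹ * z = z * n⁻¹ := (Commute.inv_left hn).eq
    have hmi : m⁻¹ * z = z * m⁻¹ := (Commute.inv_left hm).eq
    refine ⟨m * n, (Commute.mul_left hm hn).eq, (Commute.mul_left hms hns).eq,
      List.map_congr_left fun e he => ?_⟩
    have hmir : ∀ v, F.data.act m⁻¹ v = pr (p.2, p.1) v := fun v => by
      conv_lhs => rw [← h5 v, ← hmv]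
      exact (F.data.act_cancel hm _).1
    set F' : V8 → V8 := fun e => pU (F.data.act n (ell (pU (F.data.act n⁻¹ e)))) with hF'
    have hadd : ∀ a b, F' (a + b) = F' a + F' b := fun a b => by
      simp only [hF', (F.data.act_iso hni).add, pU_add, ell_add, (F.data.act_iso hn).add]
    have h0 : F' 0 = 0 := by
      have h := hadd 0 0
      rw [add_zero] at h
      exact left_eq_add.1 h
    show prU p (appU (basisU.map F') (prU (p.2, p.1) e)) = _
    rw [appU_map hadd h0, prU, prU, pU_pU, mul_inv_rev, F.data.act_mul hni hmi,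
      F.data.act_mul hm hn, hmir, hF']
    dsimp only
    have heo : b8 e s0 = false := (inU_orth e (basisU_inU e he)).1
    have hro : b8 (pr (p.2, p.1) e) s0 = false := by
      rw [← hmir]
      exact (F.data.act_iso hmi).orth_s0 (F.act_s hmi (Commute.inv_left hms).eq) heo
    rw [(F.data.act_iso hni).pU_map_pU (F.act_s hni (Commute.inv_left hns).eq) hro, ← hmv]
    have hio : b8 (ell (pU (F.data.act n⁻¹ (pr (p.2, p.1) e)))) s0 = false := by
      conv_lhs => rw [← ell_fix.1, ell_iso.polar]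
      exact (inU_orth _ (pU_pU _)).1
    exact (F.data.act_iso hm).pU_map_pU (F.act_s hm hms)
      ((F.data.act_iso hn).orth_s0 (F.act_s hn hns) hio)

/-- Every involution of `C(z)` outside `Q` is conjugate in `C(z)` to one acting as a transformation
or as a standard element of rank four. -/
theorem normal_form {x : G} (hx : x * z = z * x) (h2 : x * x = 1) (hxQ : x ∉ Q) :
    ∃ c, c * z = z * c ∧
      ((∃ u, InU u ∧ u ≠ 0 ∧ ∀ v, F.data.act (c * x * c⁻¹) v = sie u v) ∨
        (c * x * c⁻¹ * s = s * (c * x * c⁻¹) ∧ ∃ u, InU u ∧ ell u = u ∧ u ∉ iList ∧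
          ∀ v, F.data.act (c * x * c⁻¹) v = ell (sie u v))) := by
  obtain ⟨c, hc, hyS, ⟨e, he⟩, halt⟩ := F.exists_alternating hx h2 hxQ
  obtain ⟨y, hy⟩ : ∃ y, y = c * x * c⁻¹ := ⟨_, rfl⟩
  rw [← hy] at hyS he halt
  have hyz : y * z = z * y := hyS.1
  have hyy : y * y = 1 := by
    rw [hy, show c * x * c⁻¹ * (c * x * c⁻¹) = c * (x * x) * c⁻¹ by group, h2]; group
  have hyQ : y ∉ Q := fun h => hxQ (by
    have := F.data.sub.conj_mem (Commute.inv_left hc).eq h
    simpa [hy, mul_assoc] using this)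
  have hys : y * s = s * y := F.comm_s_of_image hyz hyy he
  have hiso := F.data.act_iso hyz
  have hff : ∀ v, F.data.act y (F.data.act y v) = v := fun v => by
    rw [← F.data.act_mul hyz hyz, hyy, F.data.act_one]
  have hs := hyS.2.1
  have hinv : ∀ e ∈ basisU, appU (codeU (F.data.act y)) (appU (codeU (F.data.act y)) e) = e := by
    intro e he'
    have heU := basisU_inU e he'
    rw [hiso.appU_code, hiso.appU_code, pU_pU, heU,
      hiso.pU_map_pU hs (hiso.orth_s0 hs (inU_orth e heU).1), hff, heU]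
  have halt' : ∀ v, InU v → q8 (appU (codeU (F.data.act y)) v + v) = false := by
    intro v hv
    have ho := (inU_orth v hv).1
    have h' := q8_pU _ (show b8 (F.data.act y v + v) s0 = false by
      rw [b8_add_left, hiso.orth_s0 hs ho, ho]; rfl)
    rw [pU_add, hv] at h'
    rw [hiso.appU_code, hv, h', halt v ho]
  rcases alt_cases _ hyS.2.2 hinv halt' with ht | ht
  · refine ⟨c, hc, Or.inl (hy ▸ F.sie_of_trivial hyz hyQ hs fun v hv => pU_eq_zero _ ?_ ?_)⟩
    · rw [pU_add, ← hiso.pU_map_pU hs hv, ← hiso.appU_code, ht, appU_basisU, add_self8]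
    · rw [b8_add_left, hiso.orth_s0 hs hv, hv]; rfl
  obtain ⟨n, hn, hns, htn⟩ := F.exists_conj_ellCode ht
  have hni : n⁻¹ * z = z * n⁻¹ := (Commute.inv_left hn).eq
  have hns0 := F.act_s hn hns
  have hns1 := F.act_s hni (Commute.inv_left hns).eq
  obtain ⟨y', hy'⟩ : ∃ y', y' = n⁻¹ * y * n⁻¹⁻¹ := ⟨_, rfl⟩
  have hy'z : y' * z = z * y' := hy' ▸ ((Commute.mul_left hni hyz).mul_left (Commute.inv_left hni)).eq
  have hy's : y' * s = s * y' := hy' ▸ (((Commute.inv_left hns).mul_left hys).mul_left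
    (Commute.inv_left (Commute.inv_left hns))).eq
  have hy'' : n⁻¹ * c * x * (n⁻¹ * c)⁻¹ = y' := by rw [hy', hy]; group
  have hcn : (n⁻¹ * c) * z = z * (n⁻¹ * c) := (Commute.mul_left hni hc).eq
  have hy'Q : y' ∉ Q := fun h => hyQ (by
    have := F.data.sub.conj_mem hn h
    simpa [hy', mul_assoc] using this)
  have hy'y : y' * y' = 1 := by
    rw [hy', show n⁻¹ * y * n⁻¹⁻¹ * (n⁻¹ * y * n⁻¹⁻¹) = n⁻¹ * (y * y) * n by group, hyy]; group
  have hiso' := F.data.act_iso hy'z
  have hs' := F.act_s hy'z hy's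
  have hell : ∀ v, b8 v s0 = false → pU (F.data.act y' v) = ell (pU v) := by
    intro v hv
    have hv1 : b8 (F.data.act n v) s0 = false := (F.data.act_iso hn).orth_s0 hns0 hv
    rw [hy', inv_inv]
    rw [show n⁻¹ * y * n = n⁻¹ * y * (n⁻¹)⁻¹ by group, F.data.act_conj hni hyz, inv_inv,
      ← (F.data.act_iso hni).pU_map_pU hns1 (hiso.orth_s0 hs hv1),
      ← hiso.pU_map_pU hs hv1, ← hiso.appU_code, htn]
    set F' : V8 → V8 := fun e => pU (F.data.act n (ell (pU (F.data.act n⁻¹ e)))) with hF'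
    have hadd : ∀ a b, F' (a + b) = F' a + F' b := fun a b => by
      simp only [hF', (F.data.act_iso hni).add, pU_add, ell_add, (F.data.act_iso hn).add]
    have h0 : F' 0 = 0 := by
      have h := hadd 0 0
      rw [add_zero] at h
      exact left_eq_add.1 h
    rw [appU_map hadd h0, hF']
    dsimp only
    rw [F.data.pU_act_cancel hn hns0 hv]
    have hio : b8 (ell (pU v)) s0 = false := by
      conv_lhs => rw [← ell_fix.1, ell_iso.polar]
      exact (inU_orth _ (pU_pU _)).1
    rw [F.data.pU_act_cancel hn hns0 hio, ell_fix.2.2, pU_pU]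
  have hsie := (ell_iso.comp hiso').eq_sie (by show ell (F.data.act y' s0) = s0; rw [hs', ell_fix.1])
    (fun v hv => by
      have ho : b8 (ell (F.data.act y' v)) s0 = false := by
        conv_lhs => rw [← ell_fix.1, ell_iso.polar]
        exact hiso'.orth_s0 hs' hv
      refine pU_eq_zero _ ?_ ?_
      · rw [pU_add, ell_fix.2.2, hell v hv, ell_ell, add_self8]
      · rw [b8_add_left, ho, hv]; rfl)
  obtain ⟨u, hu⟩ : ∃ u, u = pU (ell (F.data.act y' d0)) := ⟨_, rfl⟩
  rw [← hu] at hsie
  have huU : InU u := hu ▸ pU_pU _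
  have hact : ∀ v, F.data.act y' v = ell (sie u v) := fun v => by rw [← hsie, ell_ell]
  have hfix : ell u = u := ell_sie_fixed u huU fun e _ => by
    rw [← hact, ← hact, ← F.data.act_mul hy'z hy'z, hy'y, F.data.act_one]
  by_cases hI : u ∈ iList
  · obtain ⟨w, hwq, hw0, hww, hwo⟩ := iList_axis u hI
    obtain ⟨d, hd, hdw⟩ := F.data.exists_move hwq hw0
    obtain ⟨y5, hy5⟩ : ∃ y5, y5 = d * y' * d⁻¹ := ⟨_, rfl⟩
    have hy5z : y5 * z = z * y5 :=
      hy5 ▸ ((Commute.mul_left hd hy'z).mul_left (Commute.inv_left hd)).eq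
    refine ⟨d * (n⁻¹ * c), (Commute.mul_left hd hcn).eq, Or.inl ?_⟩
    rw [show d * (n⁻¹ * c) * x * (d * (n⁻¹ * c))⁻¹ = y5 by rw [hy5, ← hy'']; group]
    refine F.sie_of_trivial hy5z (fun h => hy'Q ?_)
      (hy5 ▸ F.move_axis hy'z hd hdw (by rw [hact, hww])) fun v hv => ?_
    · have := F.data.sub.conj_mem (Commute.inv_left hd).eq h
      simpa [hy5, mul_assoc] using this
    · have hb : b8 (F.data.act d⁻¹ v) w = false := by
        have h1 := (F.data.act_iso hd).polar (F.data.act d⁻¹ v) w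
        rw [(F.data.act_cancel hd v).2, hdw, hv] at h1
        exact h1.symm
      have key : F.data.act y5 v + v =
          F.data.act d (ell (sie u (F.data.act d⁻¹ v)) + F.data.act d⁻¹ v) := by
        rw [hy5, F.data.act_conj hd hy'z, (F.data.act_iso hd).add, (F.data.act_cancel hd v).2, hact]
      rw [key]
      rcases hwo _ hb with r | r <;> rw [r]
      · exact Or.inl (F.data.act_iso hd).zero
      · exact Or.inr hdw
  · exact ⟨n⁻¹ * c, hcn, Or.inr ⟨by rw [hy'']; exact hy's, u, huU, hfix, hI,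
      fun v => by rw [hy'']; exact hact v⟩⟩

end Frame

end CfsgLib.ConwayType
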