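import Cfsg.Agent.ConwayType.Levi
import Cfsg.Agent.ConwayType.Classes

/-!
# The lift of a root element in the Levi complement

The lift `k` of the standard root element is an involution.  The elements of `Q` over its fixed
vectors are centralized by `k` up to a sign which vanishes on one of the two totally singular
planes through the axis.
-/

set_option autoImplicit false
set_option linter.unusedSectionVars false
set_option maxRecDepth 100000

namespace CfsgLib.ConwayType

open CfsgLib.LargeExtraspecial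

theorem no_double : ∀ A ∈ uVecs, q8 A = false → b8 A (mk8 40) = false →
    b8 (pU (pw gWord s0)) A = false → b8 (pU (pw gWord (mk8 64))) A = true →
    b8 (pU (pw gWord (mk8 128))) A = true → False := by decide +kernel

theorem ell_ell8 : ∀ v : V8, ell (ell v) = v := by decide +kernel

theorem ell_axis_facts : ell (mk8 64) = mk8 64 ∧ ell (mk8 128) = mk8 128 ∧
    ell (mk8 32) + mk8 32 = mk8 4 ∧ ell (mk8 8) + mk8 8 = mk8 16 ∧
    InU (mk8 32) ∧ InU (mk8 8) ∧ q8 (mk8 4) = false ∧ q8 (mk8 16) = false := by decide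

variable {G : Type*} [Group G] [Finite G] {z s q0 p : G} {Q P : Subgroup G} {π : G → V8}

/-- The standard root element is induced in the complement. -/
theorem exists_ell_word : ∃ wd : List (ℕ × ℕ),
    (∀ x ∈ wd, okPair x = true ∧ pr x s0 = s0) ∧ ∀ v : V8, pw wd v = ell v :=
  ⟨[(208, 212), (192, 196)], by decide +kernel, by decide +kernel⟩

namespace Data

variable (D : Data z Q π)
include D

/-- An element fixing the class of an element of `Q` moves it by `z` at most. -/
theorem conj_cases {n a : G} (hn : n * z = z * n) (ha : a ∈ Q) (h : D.act n (π a) = π a) :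
    ∃ φ : Bool, n * a * n⁻¹ = ee z s φ false * a := by
  rcases D.eq_or_eq_of_π_eq ha (D.sub.conj_mem hn ha) (by rw [← D.act_π hn ha, h]) with e | e
  · exact ⟨false, by rw [e]; simp [ee]⟩
  · exact ⟨true, by rw [e]; simp [ee]⟩

/-- Commutation with an element of `Q` depends only on its class. -/
theorem commute_congr {n a b : G} (hn : n * z = z * n) (ha : a ∈ Q) (hb : b ∈ Q) (h : π a = π b)
    (hc : n * a = a * n) : n * b = b * n := by
  rcases D.eq_or_eq_of_π_eq ha hb h with e | e
  · rw [e]; exact hc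
  · rw [e]; exact (Commute.mul_right hn hc).eq

end Data

namespace Frame2

variable (K : Frame2 z Q π P s q0 p)
include K

theorem exists_ell : ∃ k ∈ levi z s q0 p, ∀ v, K.toFrame.data.act k v = ell v := by
  obtain ⟨wd, h1, h2⟩ := exists_ell_word
  obtain ⟨k, hk, hkv⟩ := K.exists_levi wd h1 (by rw [h2]; exact ell_fix.2.1)
  exact ⟨k, hk, fun v => by rw [hkv, h2]⟩

theorem ell_sq {k : G} (hk : k ∈ levi z s q0 p) (hact : ∀ v, K.toFrame.data.act k v = ell v) :
    k * k = 1 :=
  K.eq_one_of_act (mul_mem hk hk) fun v _ => by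
    rw [K.toFrame.data.act_mul (K.levi_z hk) (K.levi_z hk), hact, hact, ell_ell8]

/-- The root element centralizes the elements over its axis. -/
theorem ell_axis {k : G} (hk : k ∈ levi z s q0 p) (hact : ∀ v, K.toFrame.data.act k v = ell v)
    {a : G} (ha : a ∈ Q) (hπ : π a = mk8 4 ∨ π a = mk8 16) : k * a = a * k := by
  obtain ⟨-, -, h32, h8, hu32, hu8, hq4, hq16⟩ := ell_axis_facts
  have hD := K.toFrame.data
  have hkz := K.levi_z hk
  have hki : k⁻¹ = k := inv_eq_of_mul_eq_one_right (K.ell_sq hk hact)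
  obtain ⟨m, hm, hq⟩ : ∃ m : V8, ell m + m = π a ∧ q8 (π a) = false := by
    rcases hπ with e | e
    · exact ⟨_, h32.trans e.symm, by rw [e]; exact hq4⟩
    · exact ⟨_, h8.trans e.symm, by rw [e]; exact hq16⟩
  obtain ⟨b, hb, hπb⟩ := hD.surj m
  obtain ⟨c, hcdef⟩ : ∃ c, c = k * b * k⁻¹ * b⁻¹ := ⟨_, rfl⟩
  have hc : c ∈ Q := hcdef ▸ mul_mem (hD.sub.conj_mem hkz hb) (inv_mem hb)
  have hπc : π c = π a := by
    rw [hcdef, hD.map_mul _ (hD.sub.conj_mem hkz hb) _ (inv_mem hb), hD.π_inv hb,
      ← hD.act_π hkz hb, hact, hπb, hm]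
  have hc2 : c⁻¹ = c := inv_eq_of_mul_eq_one_right ((hD.sq c hc).2 (by rw [hπc]; exact hq))
  refine hD.commute_congr hkz hc ha hπc (mul_inv_eq_iff_eq_mul.1 ?_)
  calc k * c * k⁻¹ = (k * k) * b * k⁻¹ * b⁻¹ * k⁻¹ := by rw [hcdef]; group
    _ = c⁻¹ := by rw [K.ell_sq hk hact, hcdef]; simp [mul_inv_rev, hki, mul_assoc]
    _ = c := hc2

/-- It centralizes the elements over one of the two singular vectors beside the axis. -/
theorem ell_good {k : G} (hk : k ∈ levi z s q0 p) (hact : ∀ v, K.toFrame.data.act k v = ell v)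
    {e f : G} (he : e ∈ Q) (hπe : π e = mk8 64) (hf : f ∈ Q) (hπf : π f = mk8 128) :
    k * e = e * k ∨ k * f = f * k := by
  have F := K.toFrame
  obtain ⟨he64, hf128, -⟩ := ell_axis_facts
  by_contra hcon
  rw [not_or] at hcon
  obtain ⟨n, hn, hnv⟩ := F.data.exists_pw gWord gWord_ok.1
  have hkz := K.levi_z hk
  have hni : n⁻¹ * z = z * n⁻¹ := (Commute.inv_left hn).eq
  obtain ⟨k', hk'⟩ : ∃ k', k' = n * k * n⁻¹ := ⟨_, rfl⟩
  have hk'z : k' * z = z * k' := hk' ▸ ((Commute.mul_left hn hkz).mul_left hni).eq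
  have hk'2 : k' * k' = 1 := by
    rw [hk', show n * k * n⁻¹ * (n * k * n⁻¹) = n * (k * k) * n⁻¹ by group, K.ell_sq hk hact]
    group
  obtain ⟨hu40, hu40', hq40⟩ := mk40
  have hk'v : ∀ v, F.data.act k' v = sie (mk8 40) v := fun v => by
    obtain ⟨v', rfl⟩ : ∃ v', v = F.data.act n v' :=
      ⟨F.data.act n⁻¹ v, (F.data.act_cancel hn v).2.symm⟩
    rw [hk', F.data.act_conj hn hkz, (F.data.act_cancel hn v').1, hact, hnv, hnv]
    exact gWord_ok.2 v'
  obtain ⟨a', w', ha', has', hw', hwz', hwu', hkaw⟩ := F.sie_decomp hk'z hk'2 hu40 hu40' hk'v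
  obtain ⟨hqA, hqU⟩ := (F.sq_iff ha' has' hw' hwz').1 (hkaw ▸ hk'2)
  rw [hwu', hq40] at hqU
  rw [hwu', ← hqU] at hqA
  have key : ∀ {a : G} {φ : Bool}, a ∈ Q → ell (π a) = π a → k * a * k⁻¹ = ee z s φ false * a →
      b8 (pU (pw gWord (π a))) (cls π a') = φ := by
    intro a φ ha hfa hka
    obtain ⟨q', hq'⟩ : ∃ q', q' = n * a * n⁻¹ := ⟨_, rfl⟩
    have hq'Q : q' ∈ Q := hq' ▸ F.data.sub.conj_mem hn ha
    have hq'π : π q' = pw gWord (π a) := by rw [hq', ← F.data.act_π hn ha, hnv]
    have hfix' : sie (mk8 40) (π q') = π q' := by rw [hq'π, ← gWord_ok.2, hfa]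
    have ho := sie_moves _ hu40 hu40' (π q') (Or.inl (by rw [hfix', add_self8]))
    have hq's := (F.comm_s_iff hq'Q).2 ho
    have hcu : b8 (cls π q') (mk8 40) = false := by
      have h1 := sie_add_orth (mk8 40) (π q') ho
      rw [hfix', add_self8] at h1
      rw [cls, b8_pU_left ho hu40]
      cases hb : b8 (π q') (mk8 40)
      · rfl
      · rw [hb] at h1; exact absurd h1.symm s0_ne_zero
    have h2 := F.conj_QQ ha' has' hq'Q hq's
    have h3 := (F.comm_QW hq'Q hq's hw' hwz').2
    rw [hwu', hcu, Frame.ee_false, one_mul] at h3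
    have h4 : q' * k' * q'⁻¹ = ee z s (b8 (cls π q') (cls π a')) false * k' := by
      rw [hkaw]
      calc q' * (a' * w') * q'⁻¹ = (q' * a' * q'⁻¹) * (q' * w' * q'⁻¹) := by group
        _ = _ := by rw [h2, h3]; group
    have h5 : q' * k' * q'⁻¹ = ee z s φ false * k' := by
      have hee : n * ee z s φ false * n⁻¹ = ee z s φ false := by
        cases φ
        · simp [ee]
        · simp [ee, mul_inv_eq_iff_eq_mul.2 hn]
      have h6 : k' * q' * k'⁻¹ = ee z s φ false * q' := by
        calc k' * q' * k'⁻¹ = n * (k * a * k⁻¹) * n⁻¹ := by rw [hk', hq']; group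
          _ = (n * ee z s φ false * n⁻¹) * (n * a * n⁻¹) := by rw [hka]; group
          _ = _ := by rw [hee, hq']
      have hcomm : k' * ee z s φ false = ee z s φ false * k' := by
        cases φ
        · simp [ee]
        · simp [ee, hk'z]
      calc q' * k' * q'⁻¹ = (ee z s φ false * ee z s φ false) * q' * k' * q'⁻¹ := by
            rw [F.ee_self, one_mul]
        _ = ee z s φ false * (ee z s φ false * q') * k' * q'⁻¹ := by group
        _ = ee z s φ false * (k' * q' * k'⁻¹) * k' * q'⁻¹ := by rw [h6]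
        _ = _ := by group
    have h7 := (F.ee_mul_inj (h4.symm.trans h5)).1
    rwa [cls, hq'π] at h7
  have hval : ∀ {a : G} {v : V8}, a ∈ Q → π a = v → ell v = v → ¬ k * a = a * k →
      b8 (pU (pw gWord v)) (cls π a') = true := by
    intro a v ha hπa hfix hnc
    obtain ⟨φ, hφ⟩ := F.data.conj_cases (s := s) hkz ha (by rw [hact, hπa, hfix])
    rw [← hπa]
    cases φ
    · exact absurd (mul_inv_eq_iff_eq_mul.1 (by rw [hφ, Frame.ee_false, one_mul])) hnc
    · exact key ha (by rw [hπa]; exact hfix) hφ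
  refine no_double (cls π a') (mem_uVecs _ (cls_inU π a')) hqA hqU.symm ?_
    (hval he hπe he64 hcon.1) (hval hf hπf hf128 hcon.2)
  rw [← F.π_s]
  refine key F.pair.mem (by rw [F.π_s]; exact ell_fix.1) ?_
  rw [Frame.ee_false, one_mul]
  exact mul_inv_eq_iff_eq_mul.2 (K.levi_s hk)

end Frame2

end CfsgLib.ConwayType
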