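import Cfsg.Agent.ConwayType.StabU

/-!
# The totally singular and the anisotropic involutions are not conjugate
-/

set_option autoImplicit false

namespace CfsgLib.ConwayType

open CfsgLib.LargeExtraspecial

/-- The members of the small group fixing the standard totally singular pair. -/
def tFix : List (List V8) :=
  tList.filter fun t => decide (appU t aT = aT) && decide (appU t uT = uT)

theorem tFix_facts : tFix.length = 32 ∧ tFix.Nodup := by decide +kernel

theorem sieN_data : InU uN ∧ uN ≠ 0 := by decide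

namespace Frame

variable {G : Type*} [Group G] [Finite G] {z s : G} {Q P : Subgroup G} {π : G → V8}
  (F : Frame z Q π P s)
include F

theorem fix_classes {a w c : G} (ha : a ∈ Q) (has : a * s = s * a) (hw : w ∈ P)
    (hwz : w * z = z * w) (hc : c * z = z * c) (hcs : c * s = s * c)
    (hcx : c * (a * w) = a * w * c) :
    pU (F.data.act c (cls π a)) = cls π a ∧ pU (F.data.act c (F.ups w)) = F.ups w := by
  have h : c * a * c⁻¹ * (c * w * c⁻¹) = a * w := by
    rw [show c * a * c⁻¹ * (c * w * c⁻¹) = c * (a * w) * c⁻¹ by group]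
    exact mul_inv_eq_iff_eq_mul.2 hcx
  obtain ⟨hw', hwz'⟩ := F.conj_mem_W hc hcs hw hwz
  obtain ⟨h1, h2⟩ := F.classes_unique (F.data.sub.conj_mem hc ha) hw' hwz' ha hw hwz h
  rw [F.cls_conj hc hcs ha has] at h1
  rw [F.ups_conj hc hcs hw hwz] at h2
  exact ⟨h1, h2⟩

theorem act_s_of_comm {a w c : G} (ha : a ∈ Q) (hw : w ∈ P) (hwz : w * z = z * w)
    (hu : F.ups w = uN) (hc : c * z = z * c) (hcx : c * (a * w) = a * w * c) :
    F.data.act c s0 = s0 := by
  have hxz : a * w * z = z * (a * w) := (Commute.mul_left (F.data.Q_comm ha) hwz).eq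
  have hact : ∀ v, F.data.act (a * w) v = sie uN v := fun v => by
    rw [F.data.act_mul (F.data.Q_comm ha) hwz, F.data.act_of_mem ha, F.act_W hw hwz, hu]
  obtain ⟨e, he⟩ := sieN_s0
  have h : F.data.act c s0 = sie uN (F.data.act c e) + F.data.act c e := by
    conv_lhs => rw [← he, (F.data.act_iso hc).add, ← hact, ← F.data.act_mul hc hxz, hcx,
      F.data.act_mul hxz hc, hact]
  have hq : q8 (sie uN (F.data.act c e) + F.data.act c e) = false := by
    rw [← h, (F.data.act_iso hc).quad]; exact q8_s0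
  rcases sieN_image _ hq with r | r
  · exfalso
    rw [← h] at r
    apply s0_ne_zero
    rw [← (F.data.act_cancel hc s0).1, r, (F.data.act_iso (Commute.inv_left hc).eq).zero]
  · rw [h, r]

/-- The centralizer in `C_Q(s) C_P(z)` is normalized by the centralizer in `C(z)`. -/
theorem norm_cent_rGrp {a w c : G} (ha : a ∈ Q) (hw : w ∈ P) (hwz : w * z = z * w)
    (hu : F.ups w = uN) (hc : c * z = z * c) (hcx : c * (a * w) = a * w * c) {g : G}
    (hg : g ∈ F.rGrp ⊓ Subgroup.centralizer ({a * w} : Set G)) :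
    c * g * c⁻¹ ∈ F.rGrp ⊓ Subgroup.centralizer ({a * w} : Set G) := by
  obtain ⟨⟨hgz, hgs, hgU⟩, hgx⟩ := hg
  have hci : c⁻¹ * z = z * c⁻¹ := (Commute.inv_left hc).eq
  have hc0 := F.act_s_of_comm ha hw hwz hu hc hcx
  have hci0 : F.data.act c⁻¹ s0 = s0 := by
    conv_lhs => rw [← hc0]
    exact (F.data.act_cancel hc s0).1
  refine ⟨⟨((Commute.mul_left hc hgz).mul_left hci).eq, ?_, fun v hv => ?_⟩,
    Subgroup.mem_centralizer_singleton_iff.2 ((Commute.mul_left hcx
      (Subgroup.mem_centralizer_singleton_iff.1 hgx)).mul_left (Commute.inv_left hcx)).eq⟩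
  · have h1 : π s = π (c⁻¹ * s * c⁻¹⁻¹) := by rw [← F.data.act_π hci F.pair.mem, F.π_s, hci0]
    have h2 : Commute g (c⁻¹ * s * c⁻¹⁻¹) := by
      rcases F.data.eq_or_eq_of_π_eq F.pair.mem (F.data.sub.conj_mem hci F.pair.mem) h1 with e | e
      · rw [e]; exact hgs
      · rw [e]; exact Commute.mul_right hgz hgs
    have h3 := (Commute.conj_iff c).2 h2
    rw [show c * (c⁻¹ * s * c⁻¹⁻¹) * c⁻¹ = s by group] at h3
    exact h3.eq
  · have hv' : b8 (F.data.act c⁻¹ v) s0 = false := (F.data.act_iso hci).orth_s0 hci0 hv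
    rw [F.data.act_conj hc hgz, ← (F.data.act_iso hc).pU_map_pU hc0
      ((F.data.act_iso hgz).orth_s0 (F.act_s hgz hgs) hv'), hgU _ hv',
      (F.data.act_iso hc).pU_map_pU hc0 hv', (F.data.act_cancel hc v).2]

/-- An element of `2`-power order centralizing the standard anisotropic involution and exchanging
`s` with `z * s`. -/
theorem exists_swapping {a w : G} (ha : a ∈ Q) (has : a * s = s * a) (hw : w ∈ P)
    (hwz : w * z = z * w) (hA : cls π a = aN) (hU : F.ups w = uN) :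
    ∃ t k, t * z = z * t ∧ t * (a * w) = a * w * t ∧ t * s * t⁻¹ = z * s ∧
      orderOf t = 2 ^ k := by
  obtain ⟨q, hq, hqz, hqs, hqs', hqb⟩ := F.exists_not_comm
  obtain ⟨a', ha', has', hA', heq⟩ := F.conj_W_eq hq hqs' hqb hw hwz
  have hqa : q * a * q⁻¹ ∈ Q ∧ cls π (q * a * q⁻¹) = aN := by
    refine ⟨F.data.sub.conj_mem hqz ha, ?_⟩
    rw [cls, ← F.data.act_π hqz ha, F.data.act_of_mem hq]; exact hA
  have hqas : q * a * q⁻¹ * s = s * (q * a * q⁻¹) :=
    (F.comm_s_iff hqa.1).2 (by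
      rw [← F.data.act_π hqz ha, F.data.act_of_mem hq]; exact (F.comm_s_iff ha).1 has)
  obtain ⟨hok, hps, hsA, hsu⟩ := swap_facts
  obtain ⟨m, hm, hms, hmv⟩ := F.exists_pr hok hps
  have ha1 : q * a * q⁻¹ * a' ∈ Q := mul_mem hqa.1 ha'
  have has1 : q * a * q⁻¹ * a' * s = s * (q * a * q⁻¹ * a') := (Commute.mul_left hqas has').eq
  have hA1 : cls π (q * a * q⁻¹ * a') = aN + uN := by rw [F.cls_mul hqa.1 ha', hqa.2, hA', hU]
  obtain ⟨hmw, hmwz⟩ := F.conj_mem_W hm hms hw hwz
  obtain ⟨e, he, hee⟩ := F.eq_memE_mul ha has hw hwz (F.data.sub.conj_mem hm ha1)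
    ((Commute.mul_left hms has1).mul_left (Commute.inv_left hms)).eq hmw hmwz
    (by rw [F.cls_conj hm hms ha1 has1, hA1, hA, hmv]; exact hsA)
    (by rw [F.ups_conj hm hms hw hwz, hU, hmv]; exact hsu)
  obtain ⟨i, j, rfl⟩ := exists_ee he
  obtain ⟨v, hv, hvi, hvj⟩ := fuse_AN (xor i j) j
  obtain ⟨r, hr, hrs, hrv⟩ := F.exists_mem v (inU_orth v hv).1
  have hcr : cls π r = v := by rw [cls, hrv]; exact hv
  have hr1 := F.conj_QQ ha has hr hrs
  have hr2 := (F.comm_QW hr hrs hw hwz).2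
  rw [hcr, hA, hvi] at hr1
  rw [hcr, hU, hvj] at hr2
  have hrx : r * (a * w) * r⁻¹ = ee z s i j * (a * w) := by
    calc r * (a * w) * r⁻¹ = (r * a * r⁻¹) * (r * w * r⁻¹) := by group
      _ = ee z s (xor i j) false * (a * ee z s j j) * w := by rw [hr1, hr2]; group
      _ = ee z s (xor i j) false * (ee z s j j * a) * w := by
        rw [F.ee_comm _ _ (F.data.Q_comm ha) has]
      _ = (ee z s (xor i j) false * ee z s j j) * (a * w) := by group
      _ = _ := by rw [F.ee_mul]; cases i <;> cases j <;> rfl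
  obtain ⟨n, hn⟩ : ∃ n, n = r⁻¹ * m * q := ⟨_, rfl⟩
  have hnz : n * z = z * n :=
    hn ▸ ((Commute.mul_left (Commute.inv_left (F.data.Q_comm hr)) hm).mul_left hqz).eq
  have hnx : n * (a * w) * n⁻¹ = a * w := by
    calc n * (a * w) * n⁻¹ = r⁻¹ * ((m * (q * a * q⁻¹ * a') * m⁻¹) * (m * w * m⁻¹)) * r := by
          rw [hn]
          calc r⁻¹ * m * q * (a * w) * (r⁻¹ * m * q)⁻¹ =
              r⁻¹ * (m * ((q * a * q⁻¹) * (q * w * q⁻¹)) * m⁻¹) * r := by group
            _ = _ := by rw [heq]; group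
      _ = r⁻¹ * (r * (a * w) * r⁻¹) * r := by rw [hee, hrx]
      _ = a * w := by group
  have hns : n * s * n⁻¹ = z * s := by
    have hmzs : m * (z * s) * m⁻¹ = z * s := mul_inv_eq_iff_eq_mul.2 (Commute.mul_right hm hms).eq
    have hrzs : r⁻¹ * (z * s) * r = z * s := by
      rw [mul_assoc, ← (Commute.mul_right (F.data.Q_comm hr) hrs).eq, inv_mul_cancel_left]
    calc n * s * n⁻¹ = r⁻¹ * (m * (q * s * q⁻¹) * m⁻¹) * r := by rw [hn]; group
      _ = z * s := by rw [hqs, hmzs, hrzs]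
  have hns2 : n * (z * s) * n⁻¹ = s := by
    rw [show n * (z * s) * n⁻¹ = (n * z * n⁻¹) * (n * s * n⁻¹) by group,
      mul_inv_eq_iff_eq_mul.2 hnz, hns, ← mul_assoc, F.data.sub.mul_self, one_mul]
  have hn2 : Commute (n * n) s := mul_inv_eq_iff_eq_mul.1 (by
    calc n * n * s * (n * n)⁻¹ = n * (n * s * n⁻¹) * n⁻¹ := by group
      _ = s := by rw [hns, hns2])
  obtain ⟨k, m', hm', hord⟩ := Nat.exists_eq_two_pow_mul_odd (orderOf_pos n).ne'
  obtain ⟨l, rfl⟩ := hm'
  refine ⟨n ^ (2 * l + 1), k, ((show Commute n z from hnz).pow_left _).eq,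
    ((show Commute n (a * w) from mul_inv_eq_iff_eq_mul.1 hnx).pow_left _).eq, ?_, ?_⟩
  · have hp : Commute (n ^ (2 * l)) s := by
      rw [pow_mul, pow_two]; exact hn2.pow_left l
    calc n ^ (2 * l + 1) * s * (n ^ (2 * l + 1))⁻¹ =
        n * (n ^ (2 * l) * s * (n ^ (2 * l))⁻¹) * n⁻¹ := by rw [pow_succ']; group
      _ = z * s := by rw [mul_inv_eq_iff_eq_mul.2 hp.eq, hns]
  · rw [orderOf_pow' _ (by omega), hord,
      Nat.gcd_eq_right (Dvd.intro_left _ rfl), Nat.mul_div_cancel _ (by omega)]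

/-- The order of a `2`-subgroup centralizing the standard anisotropic involution. -/
theorem card_le_of_centralizing {a w : G} (ha : a ∈ Q) (has : a * s = s * a) (hw : w ∈ P)
    (hwz : w * z = z * w) (hA : cls π a = aN) (hU : F.ups w = uN)
    (hnc : ∀ a' w', a' ∈ Q → a' * s = s * a' → w' ∈ P → w' * z = z * w' →
      q8 (cls π a') = true → q8 (F.ups w') = true → b8 (cls π a') (F.ups w') = true →
      ¬ IsConj z (a' * w'))
    {S : Subgroup G} (hS : IsPGroup 2 S) (hSx : S ≤ Subgroup.centralizer ({a * w} : Set G)) :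
    Nat.card S ≤ 2 ^ 16 := by
  classical
  have : Fact (Nat.Prime 2) := ⟨Nat.prime_two⟩
  obtain ⟨x, hx⟩ : ∃ x, x = a * w := ⟨_, rfl⟩
  rw [← hx] at hSx
  set CR := F.rGrp ⊓ Subgroup.centralizer ({x} : Set G) with hCR
  set M := Subgroup.centralizer ({z} : Set G) ⊓ Subgroup.centralizer ({x} : Set G) with hM
  have hmemM : ∀ {c : G}, c ∈ M ↔ c * z = z * c ∧ c * x = x * c := fun {c} => by
    simp only [hM, Subgroup.mem_inf, Subgroup.mem_centralizer_singleton_iff]
  obtain ⟨t, k, htz, htx, hts, htord⟩ := F.exists_swapping ha has hw hwz hA hU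
  rw [← hx] at htx
  have hnormCR : ∀ c ∈ M, c ∈ Subgroup.normalizer (CR : Set G) := by
    have h1 : ∀ c ∈ M, ∀ g ∈ CR, c * g * c⁻¹ ∈ CR := fun c hc g hg => by
      obtain ⟨hcz, hcx⟩ := hmemM.1 hc
      rw [hCR, hx] at hg ⊢
      exact F.norm_cent_rGrp ha hw hwz hU hcz (hx ▸ hcx) hg
    intro c hc
    rw [Subgroup.mem_normalizer_iff]
    refine fun g => ⟨fun hg => h1 c hc g hg, fun hg => ?_⟩
    have := h1 c⁻¹ (inv_mem hc) _ hg
    simpa [mul_assoc] using this
  have hCRM : CR ≤ M := fun g hg =>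
    hmemM.2 ⟨(F.mem_rGrp.1 hg.1).1, Subgroup.mem_centralizer_singleton_iff.1 hg.2⟩
  have hCRp : IsPGroup 2 CR := F.rGrp_isPGroup.to_le inf_le_left
  -- a maximal `2`-subgroup of `M` containing `t` and `CR`
  have hzp : IsPGroup 2 (Subgroup.zpowers t) := IsPGroup.of_card (n := k) (by
    rw [Nat.card_zpowers, htord])
  have htM : t ∈ M := hmemM.2 ⟨htz, htx⟩
  have hT0 : IsPGroup 2 ↥(Subgroup.zpowers t ⊔ CR) :=
    hzp.to_sup_of_normal_right' hCRp
      (Subgroup.zpowers_le.2 (hnormCR t htM))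
  have hT0M : Subgroup.zpowers t ⊔ CR ≤ M := sup_le (Subgroup.zpowers_le.2 htM) hCRM
  have hT0M' : IsPGroup 2 ↥((Subgroup.zpowers t ⊔ CR).subgroupOf M) :=
    hT0.of_equiv (Subgroup.subgroupOfEquivOfLe hT0M).symm
  obtain ⟨TS, hTS⟩ := hT0M'.exists_le_sylow
  set T := (TS : Subgroup M).map M.subtype with hT
  have hTM : T ≤ M := Subgroup.map_subtype_le _
  have hTp : IsPGroup 2 T := TS.isPGroup'.map _
  have hT0T : Subgroup.zpowers t ⊔ CR ≤ T := fun g hg =>
    ⟨⟨g, hT0M hg⟩, hTS hg, rfl⟩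
  have hTmax : ∀ U : Subgroup G, IsPGroup 2 U → U ≤ M → T ≤ U → U = T := by
    intro U hU' hUM hTU
    have h : U.subgroupOf M = (TS : Subgroup M) := TS.is_maximal'
      (hU'.of_equiv (Subgroup.subgroupOfEquivOfLe hUM).symm)
      (fun g hg => hTU ⟨g, hg, rfl⟩)
    rw [hT, ← h, Subgroup.map_subgroupOf_eq_of_le hUM]
  have hsz : s * z = z * s := F.s_comm
  have hsx : x * s = s * x := by
    rw [hx]; exact (Commute.mul_left has (F.W_comm_s hw)).eq
  have hxz : x * z = z * x := by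
    rw [hx]; exact (Commute.mul_left (F.data.Q_comm ha) hwz).eq
  have hsCR : s ∈ CR := ⟨⟨hsz, rfl, fun v hv => by rw [F.data.act_of_mem F.pair.mem]⟩,
    Subgroup.mem_centralizer_singleton_iff.2 hsx.symm⟩
  have hzCR : z ∈ CR := ⟨⟨rfl, hsz.symm, fun v hv => by rw [F.data.act_of_mem F.data.sub.z_mem]⟩,
    Subgroup.mem_centralizer_singleton_iff.2 hxz.symm⟩
  have hCRT : CR ≤ T := le_trans le_sup_right hT0T
  have htT : t ∈ T := hT0T (Subgroup.mem_sup_left (Subgroup.mem_zpowers t))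
  -- only `z` among its conjugates is central in `T`
  have hcenter : ∀ τ ∈ T, (∀ r ∈ T, τ * r = r * τ) → IsConj z τ → τ = z := by
    intro τ hτ hcomm hconj
    have hτz : τ * z = z * τ := (hmemM.1 (hTM hτ)).1
    have hτs : τ * s = s * τ := hcomm s (hCRT hsCR)
    have hexists : ∀ (A u : V8), InU A → InU u → zExp aN uN A u = false →
        sExp aN uN A u = false → ∃ a' w', a' ∈ Q ∧ a' * s = s * a' ∧ w' ∈ P ∧
          w' * z = z * w' ∧ cls π a' = A ∧ F.ups w' = u ∧ a' * w' ∈ T := by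
      intro A u hA' hu' h1 h2
      obtain ⟨a', w', ha', has', hw', hwz', hA'', hu''⟩ := F.exists_type' hA' hu'
      refine ⟨a', w', ha', has', hw', hwz', hA'', hu'', hCRT ⟨F.inR_mk ha' has' hw' hwz',
        Subgroup.mem_centralizer_singleton_iff.2 ?_⟩⟩
      rw [hx]
      exact (F.commute_RR_iff ha has hw hwz ha' has' hw' hwz').2
        (by rw [hA, hU, hA'', hu'']; exact ⟨h1, h2⟩)
    have hτR : F.InR τ := by
      refine ⟨hτz, hτs, fun v hv => ?_⟩
      obtain ⟨u, hu, h1, h2⟩ := solN_fst (pU v) (mem_uAll _ (pU_pU v))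
      have huU : InU u := by
        have : ∀ u ∈ uAll, InU u := by decide +kernel
        exact this u hu
      obtain ⟨a', w', ha', has', hw', hwz', hA', -, hmem⟩ := hexists (pU v) u (pU_pU v) huU h1 h2
      have h3 := (F.fix_classes ha' has' hw' hwz' hτz hτs (hcomm _ hmem)).1
      rw [hA', (F.data.act_iso hτz).pU_map_pU (F.act_s hτz hτs) hv] at h3
      exact h3
    obtain ⟨a', w', ha', has', hw', hwz', hτ'⟩ := F.inR_decomp hτR
    obtain ⟨g, hg⟩ := isConj_iff.1 hconj
    have hτ1 : τ ≠ 1 := fun e => F.data.sub.ne_one (conj_eq_one_iff.1 (hg.trans e))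
    have htypes : ∀ p ∈ solGens, zExp p.1 p.2 (cls π a') (F.ups w') = false ∧
        sExp p.1 p.2 (cls π a') (F.ups w') = false := by
      intro p hp
      obtain ⟨h1, h2, h3, h4⟩ := solGens_mem p hp
      obtain ⟨b, v, hb, hbs, hv, hvz, hbA, hvu, hmem⟩ := hexists p.1 p.2 h1 h2 h3 h4
      have h5 := (F.commute_RR_iff hb hbs hv hvz ha' has' hw' hwz').1
        (by rw [← hτ']; exact hcomm _ hmem)
      rwa [hbA, hvu] at h5
    rcases central_types _ (mem_uAll _ (cls_inU π a')) _ (mem_uAll _ (F.ups_inU w')) htypes with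
      ⟨h1, h2⟩ | ⟨h1, h2, h3⟩
    · have hE : MemE z s τ := hτ' ▸ F.memE_mul (F.memE_of_cls ha' has' h1) (F.memE_of_ups hw' hwz' h2)
      obtain ⟨hz1, hs1, hzs, hzs1, hzsz, hzss⟩ := F.zs_facts
      rcases hE with r | r | r | r
      · exact absurd r hτ1
      · exact r
      · exfalso
        have h4 := mul_inv_eq_iff_eq_mul.2 (hcomm t htT).symm
        rw [r, hts] at h4
        exact hzss h4
      · exfalso
        have h4 := mul_inv_eq_iff_eq_mul.2 (hcomm t htT).symm
        rw [r, show t * (z * s) * t⁻¹ = (t * z * t⁻¹) * (t * s * t⁻¹) by group, hts,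
          mul_inv_eq_iff_eq_mul.2 htz, ← mul_assoc, F.data.sub.mul_self, one_mul] at h4
        exact hzss h4.symm
    · exact absurd (hτ' ▸ hconj) (hnc a' w' ha' has' hw' hwz' h1 h2 h3)
  -- `T` is a Sylow subgroup of the whole centralizer
  set CX := Subgroup.centralizer ({x} : Set G)
  have hTCX : T ≤ CX := hTM.trans inf_le_right
  obtain ⟨T', hT'⟩ := (hTp.of_equiv (Subgroup.subgroupOfEquivOfLe hTCX).symm).exists_le_sylow
  set T'' := (T' : Subgroup CX).map CX.subtype with hT''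
  have hT''p : IsPGroup 2 T'' := T'.isPGroup'.map _
  have hTT'' : T ≤ T'' := fun g hg => ⟨⟨g, hTCX hg⟩, hT' hg, rfl⟩
  have hT''CX : T'' ≤ CX := Subgroup.map_subtype_le _
  have hTeq : T'' = T := by
    by_contra hne
    have hlt : T.subgroupOf T'' < ⊤ := by
      rw [lt_top_iff_ne_top, ne_eq, Subgroup.subgroupOf_eq_top]
      exact fun h => hne (le_antisymm h hTT'')
    haveI := hT''p.isNilpotent
    obtain ⟨g, hgN, hgT⟩ := SetLike.exists_of_lt
      (Group.normalizerCondition_of_isNilpotent _ hlt)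
    rw [Subgroup.mem_normalizer_iff] at hgN
    have hgT' : (g : G) ∉ T := fun h => hgT (Subgroup.mem_subgroupOf.2 h)
    have hconjT : ∀ r ∈ T, (g : G) * r * (g : G)⁻¹ ∈ T ∧ (g : G)⁻¹ * r * g ∈ T := by
      intro r hr
      refine ⟨?_, ?_⟩
      · have := (hgN ⟨r, hTT'' hr⟩).1 (Subgroup.mem_subgroupOf.2 hr)
        simpa [Subgroup.mem_subgroupOf] using this
      · have h' := (hgN (g⁻¹ * ⟨r, hTT'' hr⟩ * g)).2 (by
          rw [show g * (g⁻¹ * ⟨r, hTT'' hr⟩ * g) * g⁻¹ = ⟨r, hTT'' hr⟩ by group]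
          exact Subgroup.mem_subgroupOf.2 hr)
        simpa [Subgroup.mem_subgroupOf] using h'
    have hzeq : (g : G) * z * (g : G)⁻¹ = z := by
      refine hcenter _ (hconjT z (hCRT hzCR)).1 (fun r hr => ?_) (isConj_iff.2 ⟨g, rfl⟩)
      have h := (hmemM.1 (hTM (hconjT r hr).2)).1
      have h' := (Commute.conj_iff (g : G)).2 (show Commute ((g : G)⁻¹ * r * g) z from h)
      rw [show (g : G) * ((g : G)⁻¹ * r * g) * (g : G)⁻¹ = r by group] at h'
      exact h'.eq.symm
    have hgM : (g : G) ∈ M := hmemM.2 ⟨mul_inv_eq_iff_eq_mul.1 hzeq,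
      Subgroup.mem_centralizer_singleton_iff.1 (hT''CX g.2)⟩
    have := hTmax (T'' ⊓ M) (hT''p.to_le inf_le_left) inf_le_right (le_inf hTT'' hTM)
    exact hgT' (this ▸ ⟨g.2, hgM⟩)
  obtain ⟨S', hS'⟩ := (hS.of_equiv (Subgroup.subgroupOfEquivOfLe hSx).symm).exists_le_sylow
  have hST : Nat.card S ≤ Nat.card T := by
    rw [← hTeq, hT'', Subgroup.card_map_of_injective CX.subtype_injective,
      ← Nat.card_congr (Subgroup.subgroupOfEquivOfLe hSx).toEquiv, T'.card_eq_multiplicity,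
      ← S'.card_eq_multiplicity]
    exact Subgroup.card_le_of_le hS'
  refine hST.trans ?_
  -- the order of `T`
  set TK := T ⊓ Subgroup.centralizer ({s} : Set G) with hTK
  have hTTK : Nat.card T ≤ 2 * Nat.card TK := by
    have hdich : ∀ r ∈ T, r * s * r⁻¹ = s ∨ r * s * r⁻¹ = z * s := by
      intro r hr
      obtain ⟨hrz, hrx⟩ := hmemM.1 (hTM hr)
      have h0 := F.act_s_of_comm ha hw hwz hU hrz (hx ▸ hrx)
      have h1 : π s = π (r * s * r⁻¹) := by rw [← F.data.act_π hrz F.pair.mem, F.π_s, h0]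
      exact F.data.eq_or_eq_of_π_eq F.pair.mem (F.data.sub.conj_mem hrz F.pair.mem) h1
    let j : T → TK × Bool := fun r =>
      if h : (r : G) * s * (r : G)⁻¹ = s then
        (⟨r, r.2, Subgroup.mem_centralizer_singleton_iff.2 (mul_inv_eq_iff_eq_mul.1 h)⟩, false)
      else (⟨t⁻¹ * r, T.mul_mem (T.inv_mem htT) r.2, Subgroup.mem_centralizer_singleton_iff.2 (by
        have h1 := (hdich r r.2).resolve_left h
        refine mul_inv_eq_iff_eq_mul.1 ?_
        calc t⁻¹ * r * s * (t⁻¹ * (r : G))⁻¹ = t⁻¹ * (r * s * (r : G)⁻¹) * t := by group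
          _ = t⁻¹ * (t * s * t⁻¹) * t := by rw [h1, hts]
          _ = s := by group)⟩, true)
    have hj : Function.Injective j := fun r r' h => by
      simp only [j] at h
      split at h <;> split at h <;> simp only [Prod.mk.injEq, Bool.false_eq_true,
        Bool.true_eq_false, and_false] at h
      · exact Subtype.ext (congrArg (fun v : TK => (v : G)) h.1 :)
      · exact Subtype.ext (mul_left_cancel (congrArg (fun v : TK => (v : G)) h.1 :))
    have h := Nat.card_le_card_of_injective j hj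
    rwa [Nat.card_prod, Nat.card_eq_fintype_card (α := Bool), Fintype.card_bool, mul_comm] at h
  have hTKle : TK ≤ Subgroup.centralizer ({z} : Set G) ⊓ Subgroup.centralizer ({s} : Set G) :=
    inf_le_inf (hTM.trans inf_le_left) le_rfl
  let ψ : TK →* Equiv.Perm USub := F.uAct.comp (Subgroup.inclusion hTKle)
  have hψ : ψ.range ≤ stabU := by
    rintro _ ⟨r, rfl⟩
    obtain ⟨h1, h2⟩ := hmemM.1 (hTM r.2.1)
    obtain ⟨h3, h4⟩ := F.fix_classes ha has hw hwz h1
      (Subgroup.mem_centralizer_singleton_iff.1 r.2.2) (hx ▸ h2)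
    rw [hA] at h3
    rw [hU] at h4
    exact F.uAct_mem h3 h4
  have hker : Nat.card ψ.ker ≤ 4096 := by
    have h := Nat.card_le_card_of_injective (α := ψ.ker)
      (β := ↥(F.rGrp ⊓ Subgroup.centralizer ({x} : Set G)))
      (fun r => ⟨((r : TK) : G), ?_, ?_⟩) fun p p' h => Subtype.ext (Subtype.ext
        (congrArg (fun v : ↥(F.rGrp ⊓ Subgroup.centralizer ({x} : Set G)) => (v : G)) h :))
    · rwa [hx, F.card_cent_rGrp ha has hw hwz, hA, hU, card_solN] at h
    · obtain ⟨h1, h2⟩ := hmemM.1 (hTM r.1.2.1)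
      have h3 := Subgroup.mem_centralizer_singleton_iff.1 r.1.2.2
      refine ⟨h1, h3, fun v hv => ?_⟩
      have h4 := congrArg (fun σ : Equiv.Perm USub => (σ ⟨pU v, pU_pU v⟩).1) r.2
      have h5 : pU (F.data.act ((r : TK) : G) (pU v)) = pU v := h4
      rwa [(F.data.act_iso h1).pU_map_pU (F.act_s h1 h3) hv] at h5
    · exact Subgroup.mem_centralizer_singleton_iff.2 (hmemM.1 (hTM r.1.2.1)).2
  have hrange : Nat.card ψ.range ≤ 8 := by
    have hTKp : IsPGroup 2 TK := hTp.to_le inf_le_left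
    obtain ⟨k', hk'⟩ := (hTKp.of_surjective ψ.rangeRestrict
      ψ.rangeRestrict_surjective).exists_card_eq
    have h1 : 2 ^ k' ∣ Nat.card stabU := hk' ▸ Subgroup.card_dvd_of_le hψ
    have h2 := Nat.Coprime.mul_dvd_of_dvd_of_dvd
      (Nat.Coprime.pow_left k' (by norm_num : Nat.Coprime 2 15)) h1 F.dvd_stabU
    have h3 := Nat.le_of_dvd Nat.card_pos h2
    have h4 := card_stabU_le
    rw [hk']
    omega
  have hmul := ψ.ker.card_mul_index
  rw [Subgroup.index_ker] at hmul
  calc Nat.card T ≤ 2 * Nat.card TK := hTTK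
    _ = 2 * (Nat.card ψ.ker * Nat.card ψ.range) := by rw [hmul]
    _ ≤ 2 * (4096 * 8) := Nat.mul_le_mul le_rfl (Nat.mul_le_mul hker hrange)
    _ = 2 ^ 16 := by norm_num

/-- A large `2`-subgroup centralizes the standard totally singular involution. -/
theorem exists_large {a w : G} (ha : a ∈ Q) (has : a * s = s * a) (hw : w ∈ P)
    (hwz : w * z = z * w) (hA : cls π a = aT) (hU : F.ups w = uT) :
    ∃ H : Subgroup G, IsPGroup 2 H ∧ H ≤ Subgroup.centralizer ({a * w} : Set G) ∧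
      2 ^ 17 ≤ Nat.card H := by
  classical
  obtain ⟨x, hx⟩ : ∃ x, x = a * w := ⟨_, rfl⟩
  set H := F.data.sylS ⊓ Subgroup.centralizer ({x} : Set G) with hH
  refine ⟨H, (IsPGroup.of_card F.card_sylS).to_le inf_le_left, hx ▸ inf_le_right, ?_⟩
  have hadj : ∀ t : tFix.toFinset, ∃ h, h * z = z * h ∧ h * x = x * h ∧ h * s = s * h ∧
      codeU (F.data.act h) = t.1 ∧ F.data.InS h := by
    intro t
    obtain ⟨ht, hfix⟩ := List.mem_filter.1 (List.mem_toFinset.1 t.2)
    simp only [Bool.and_eq_true, decide_eq_true_eq] at hfix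
    obtain ⟨n, hn, hns, -, hns0, hnt⟩ := F.exists_lift ht
    obtain ⟨hnw, hnwz⟩ := F.conj_mem_W hn hns hw hwz
    have hcl : ∀ v, InU v → pU (F.data.act n v) = appU t.1 v := fun v hv => by
      rw [← hnt, (F.data.act_iso hn).appU_code, hv]
    obtain ⟨e, he, hee⟩ := F.eq_memE_mul ha has hw hwz (F.data.sub.conj_mem hn ha)
      ((Commute.mul_left hns has).mul_left (Commute.inv_left hns)).eq hnw hnwz
      (by rw [F.cls_conj hn hns ha has, hA, hcl _ std_TS.1]; exact hfix.1)
      (by rw [F.ups_conj hn hns hw hwz, hU, hcl _ std_TS.2.1]; exact hfix.2)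
    obtain ⟨i, j, rfl⟩ := exists_ee he
    obtain ⟨v, hv, hvi, hvj⟩ := fuse_TS (xor i j) j
    obtain ⟨r, hr, hrs, hrv⟩ := F.exists_mem v (inU_orth v hv).1
    have hcr : cls π r = v := by rw [cls, hrv]; exact hv
    have hr1 := F.conj_QQ ha has hr hrs
    have hr2 := (F.comm_QW hr hrs hw hwz).2
    rw [hcr, hA, hvi] at hr1
    rw [hcr, hU, hvj] at hr2
    have hrx : r * (a * w) * r⁻¹ = ee z s i j * (a * w) := by
      calc r * (a * w) * r⁻¹ = (r * a * r⁻¹) * (r * w * r⁻¹) := by group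
        _ = ee z s (xor i j) false * (a * ee z s j j) * w := by rw [hr1, hr2]; group
        _ = ee z s (xor i j) false * (ee z s j j * a) * w := by
          rw [F.ee_comm _ _ (F.data.Q_comm ha) has]
        _ = (ee z s (xor i j) false * ee z s j j) * (a * w) := by group
        _ = _ := by rw [F.ee_mul]; cases i <;> cases j <;> rfl
    refine ⟨r⁻¹ * n, (Commute.mul_left (Commute.inv_left (F.data.Q_comm hr)) hn).eq,
      mul_inv_eq_iff_eq_mul.1 ?_, (Commute.mul_left (Commute.inv_left hrs) hns).eq, ?_, ?_⟩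
    · rw [hx]
      calc r⁻¹ * n * (a * w) * (r⁻¹ * n)⁻¹ = r⁻¹ * ((n * a * n⁻¹) * (n * w * n⁻¹)) * r := by group
        _ = r⁻¹ * (r * (a * w) * r⁻¹) * r := by rw [hee, hrx]
        _ = a * w := by group
    · rw [← hnt]
      refine List.map_congr_left fun e _ => ?_
      rw [F.data.act_mul (Commute.inv_left (F.data.Q_comm hr)).eq hn,
        F.data.act_of_mem (inv_mem hr)]
    · exact F.data.inS_mul (F.data.inS_of_mem (inv_mem hr))
        ⟨hn, hns0, by rw [hnt]; exact ht⟩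
  choose hl hlz hlx hls hlc hlS using hadj
  set CR := F.rGrp ⊓ Subgroup.centralizer ({x} : Set G) with hCR
  have hCRS : ∀ g ∈ CR, F.data.InS g := fun g hg => by
    obtain ⟨b, v, hb, hbs, hv, hvz, rfl⟩ := F.inR_decomp hg.1
    exact F.data.inS_mul (F.data.inS_of_mem hb) (F.inS_W hv hvz)
  let f : tFix.toFinset × CR → H := fun p => ⟨hl p.1 * p.2, F.data.inS_mul (hlS _) (hCRS _ p.2.2),
    Subgroup.mem_centralizer_singleton_iff.2 (Commute.mul_left (hlx _)
      (Subgroup.mem_centralizer_singleton_iff.1 p.2.2.2)).eq⟩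
  have hcode : ∀ p, codeU (F.data.act (f p : G)) = p.1.1 := fun p => by
    rw [← hlc p.1]
    refine List.map_congr_left fun e he => ?_
    obtain ⟨hgz, hgs, hgU⟩ := p.2.2.1
    have ho := (inU_orth e (basisU_inU e he)).1
    show pU (F.data.act (hl p.1 * (p.2 : G)) e) = _
    rw [F.data.act_mul (hlz _) hgz, ← (F.data.act_iso (hlz _)).pU_map_pU
      (F.act_s (hlz _) (hls _)) ((F.data.act_iso hgz).orth_s0 (F.act_s hgz hgs) ho), hgU e ho,
      basisU_inU e he]
  have hf : Function.Injective f := fun p p' h => by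
    have h' : hl p.1 * (p.2 : G) = hl p'.1 * (p'.2 : G) := congrArg Subtype.val h
    have h1 : p.1 = p'.1 := Subtype.ext (by rw [← hcode p, h, hcode])
    rw [h1] at h'
    exact Prod.ext h1 (Subtype.ext (mul_left_cancel h'))
  have h := Nat.card_le_card_of_injective f hf
  rw [Nat.card_prod, Nat.card_eq_finsetCard, List.toFinset_card_of_nodup tFix_facts.2,
    tFix_facts.1, hCR, hx, F.card_cent_rGrp ha has hw hwz, hA, hU, card_solT] at h
  exact le_trans (by norm_num) h

end Frame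

end CfsgLib.ConwayType
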