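import Cfsg.Agent.ConwayType.RGroup

/-!
# The stabilizer of the anisotropic pair in the isometries of the six dimensional space
-/

set_option autoImplicit false

namespace CfsgLib.ConwayType

open CfsgLib.LargeExtraspecial

/-- The orthogonal of `s0` and `d0`. -/
abbrev USub : Type := {v : V8 // InU v}

/-- Its isometries fixing the standard anisotropic pair. -/
def stabU : Subgroup (Equiv.Perm USub) where
  carrier := {σ | (∀ a b : USub, (σ ⟨a.1 + b.1, inU_add a.2 b.2⟩).1 = (σ a).1 + (σ b).1) ∧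
    (∀ a : USub, q8 (σ a).1 = q8 a.1) ∧ ∀ a : USub, a.1 = aN ∨ a.1 = uN → σ a = a}
  one_mem' := ⟨fun _ _ => rfl, fun _ => rfl, fun _ _ => rfl⟩
  mul_mem' := by
    rintro σ τ ⟨h1, h2, h3⟩ ⟨h1', h2', h3'⟩
    refine ⟨fun a b => ?_, fun a => ?_, fun a ha => ?_⟩
    · simp only [Equiv.Perm.mul_apply]
      rw [← h1]
      exact congrArg Subtype.val (congrArg σ (Subtype.ext (h1' a b)))
    · simp [h2, h2']
    · simp [h3' a ha, h3 a ha]
  inv_mem' := by
    rintro σ ⟨h1, h2, h3⟩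
    refine ⟨fun a b => ?_, fun a => ?_, fun a ha => σ.injective ?_⟩
    · refine congrArg Subtype.val (σ.injective ?_ :
          σ⁻¹ ⟨a.1 + b.1, _⟩ = ⟨(σ⁻¹ a).1 + (σ⁻¹ b).1, inU_add (σ⁻¹ a).2 (σ⁻¹ b).2⟩)
      refine Subtype.ext ?_
      rw [h1]
      simp
    · rw [← h2]; simp
    · simp [h3 a ha]

theorem stabU_polar {σ : Equiv.Perm USub} (hσ : σ ∈ stabU) (a b : USub) :
    b8 (σ a).1 (σ b).1 = b8 a.1 b.1 := by
  obtain ⟨h1, h2, -⟩ := hσ
  simp only [b8, ← h1, h2]

theorem card_stabU_le : Nat.card stabU ≤ 120 := by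
  classical
  let el : ℕ → USub := fun k => ⟨pU (mk8 k), pU_pU _⟩
  have hel : pU (mk8 4) = mk8 4 ∧ pU (mk8 16) = mk8 16 ∧ pU (mk8 64) = mk8 64 ∧
      pU (mk8 128) = mk8 128 := by decide
  obtain ⟨e4, e16, e64, e128⟩ := hel
  let code : stabU → V8 × V8 × V8 × V8 := fun σ =>
    ((σ.1 (el 4)).1, (σ.1 (el 16)).1, (σ.1 (el 64)).1, (σ.1 (el 128)).1)
  have hmem : ∀ σ : stabU, code σ ∈ cand4.toFinset := by
    rintro ⟨σ, hσ⟩
    have hA : σ ⟨aN, std_AN.1⟩ = ⟨aN, std_AN.1⟩ := hσ.2.2 _ (Or.inl rfl)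
    have hu : σ ⟨uN, std_AN.2.1⟩ = ⟨uN, std_AN.2.1⟩ := hσ.2.2 _ (Or.inr rfl)
    have hc : ∀ k, (σ (el k)).1 ∈ candU (el k).1 := fun k => by
      refine List.mem_filter.2 ⟨mem_uAll _ (σ (el k)).2, ?_⟩
      have h1 := stabU_polar hσ (el k) ⟨aN, std_AN.1⟩
      have h2 := stabU_polar hσ (el k) ⟨uN, std_AN.2.1⟩
      rw [hA] at h1
      rw [hu] at h2
      simp [hσ.2.1, h1, h2]
    have hp : ∀ j k, b8 (σ (el j)).1 (σ (el k)).1 = b8 (el j).1 (el k).1 := fun j k =>
      stabU_polar hσ _ _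
    have c4 := hc 4
    have c16 := hc 16
    have c64 := hc 64
    have c128 := hc 128
    have p1 := hp 16 4
    have p2 := hp 64 4
    have p3 := hp 64 16
    have p4 := hp 128 4
    have p5 := hp 128 16
    have p6 := hp 128 64
    simp only [el, e4, e16, e64, e128] at c4 c16 c64 c128 p1 p2 p3 p4 p5 p6
    simp only [List.mem_toFinset, cand4, List.mem_flatMap, List.mem_map, List.mem_filter,
      Bool.and_eq_true, beq_iff_eq]
    refine ⟨_, ?_, _, ⟨?_, ?_⟩, _, ⟨?_, ?_, ?_⟩, _, ⟨?_, ⟨?_, ?_⟩, ?_⟩, rfl⟩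
    all_goals simp only [code, el, e4, e16, e64, e128]
    all_goals assumption
  have hinj : Function.Injective fun σ : stabU => (⟨code σ, hmem σ⟩ : cand4.toFinset) := by
    intro σ τ h
    have h' : code σ = code τ := congrArg (fun t : cand4.toFinset => (t : V8 × V8 × V8 × V8)) h
    simp only [code, Prod.mk.injEq] at h'
    refine Subtype.ext (Equiv.ext fun v => Subtype.ext ?_)
    let f : Equiv.Perm USub → V8 → V8 := fun ρ x => (ρ ⟨pU x, pU_pU x⟩).1
    have hf : ∀ ρ : stabU, ∀ (l : List V8) (n : ℕ),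
        bitsum (l.map (f ρ.1)) n = f ρ.1 (bitsum l n) := fun ρ => by
      have hadd : ∀ a b, f ρ.1 (a + b) = f ρ.1 a + f ρ.1 b := fun a b => by
        show (ρ.1 ⟨pU (a + b), _⟩).1 = _
        rw [← ρ.2.1]
        exact congrArg (fun t => (ρ.1 t).1) (Subtype.ext (pU_add a b))
      refine bitsum_map hadd ?_
      have := hadd 0 0
      rw [add_zero] at this
      exact left_eq_add.1 this
    have hfix : ∀ ρ : stabU, f ρ.1 aN = aN ∧ f ρ.1 uN = uN := fun ρ => by
      constructor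
      · show (ρ.1 ⟨pU aN, _⟩).1 = aN
        rw [ρ.2.2.2 _ (Or.inl std_AN.1)]; exact std_AN.1
      · show (ρ.1 ⟨pU uN, _⟩).1 = uN
        rw [ρ.2.2.2 _ (Or.inr std_AN.2.1)]; exact std_AN.2.1
    have key : ∀ ρ : stabU, (ρ.1 v).1 = f ρ.1 v.1 := fun ρ =>
      congrArg (fun t => (ρ.1 t).1) (Subtype.ext v.2.symm)
    obtain ⟨k, -, hk⟩ := spanU v.1 v.2
    rw [key σ, key τ, ← hk, ← hf, ← hf]
    congr 1
    simp only [List.map_cons, List.map_nil, hfix, List.cons.injEq, and_true, true_and]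
    exact h'
  have h := Nat.card_le_card_of_injective _ hinj
  rw [Nat.card_eq_finsetCard] at h
  exact h.trans ((List.toFinset_card_le _).trans cand4_card)

namespace Frame

variable {G : Type*} [Group G] {z s : G} {Q P : Subgroup G} {π : G → V8} (F : Frame z Q π P s)
include F

omit F in
theorem mem_cc {c : G} (hc : c ∈ Subgroup.centralizer ({z} : Set G) ⊓
    Subgroup.centralizer ({s} : Set G)) : c * z = z * c ∧ c * s = s * c :=
  ⟨Subgroup.mem_centralizer_singleton_iff.1 hc.1, Subgroup.mem_centralizer_singleton_iff.1 hc.2⟩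

/-- The map induced on the orthogonal of `s0` and `d0`. -/
noncomputable def uAct :
    ↥(Subgroup.centralizer ({z} : Set G) ⊓ Subgroup.centralizer ({s} : Set G)) →*
      Equiv.Perm USub where
  toFun c :=
    { toFun := fun v => ⟨pU (F.data.act (c : G) v.1), pU_pU _⟩
      invFun := fun v => ⟨pU (F.data.act (c : G)⁻¹ v.1), pU_pU _⟩
      left_inv := fun v => Subtype.ext (by
        obtain ⟨h1, h2⟩ := mem_cc c.2
        exact (F.data.pU_act_cancel h1 (F.act_s h1 h2) (inU_orth _ v.2).1).trans v.2)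
      right_inv := fun v => Subtype.ext (by
        obtain ⟨h1, h2⟩ := mem_cc (inv_mem c.2)
        have := F.data.pU_act_cancel h1 (F.act_s h1 h2) (inU_orth _ v.2).1
        rw [inv_inv] at this
        exact this.trans v.2) }
  map_one' := Equiv.ext fun v => Subtype.ext (by
    show pU (F.data.act (1 : G) v.1) = v.1
    rw [F.data.act_one]; exact v.2)
  map_mul' c d := Equiv.ext fun v => Subtype.ext (by
    obtain ⟨h1, h2⟩ := mem_cc c.2
    obtain ⟨h3, h4⟩ := mem_cc d.2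
    show pU (F.data.act ((c : G) * d) v.1) = pU (F.data.act (c : G) (pU (F.data.act (d : G) v.1)))
    rw [(F.data.act_iso h1).pU_map_pU (F.act_s h1 h2)
      ((F.data.act_iso h3).orth_s0 (F.act_s h3 h4) (inU_orth _ v.2).1), F.data.act_mul h1 h3])

theorem uAct_apply
    (c : ↥(Subgroup.centralizer ({z} : Set G) ⊓ Subgroup.centralizer ({s} : Set G))) (v : USub) :
    (F.uAct c v).1 = pU (F.data.act (c : G) v.1) := rfl

theorem uAct_mem
    {c : ↥(Subgroup.centralizer ({z} : Set G) ⊓ Subgroup.centralizer ({s} : Set G))}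
    (hA : pU (F.data.act (c : G) aN) = aN) (hu : pU (F.data.act (c : G) uN) = uN) :
    F.uAct c ∈ stabU := by
  obtain ⟨h1, h2⟩ := mem_cc c.2
  refine ⟨fun a b => ?_, fun a => ?_, fun a ha => Subtype.ext ?_⟩
  · simp only [uAct_apply, (F.data.act_iso h1).add, pU_add]
  · rw [uAct_apply, (F.data.act_iso h1).q8_pU_map (F.act_s h1 h2) (inU_orth _ a.2).1]
  · rw [uAct_apply]
    rcases ha with e | e <;> rw [e] <;> assumption

theorem dvd_stabU : 15 ∣ Nat.card stabU := by
  have h1 : ∀ (n : ℕ) [Fact n.Prime] (w : List (ℕ × ℕ)), (∀ p ∈ w, okPair p = true ∧ pr p s0 = s0) →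
      pU (pw w aN) = aN → pU (pw w uN) = uN → (∃ v : V8, InU v ∧ pU (pw w v) ≠ v) →
      (∀ v : V8, InU v → (fun x => pU (pw w x))^[n] v = v) → n ∣ Nat.card stabU := by
    intro n _ w hw hA hu hmove hn
    obtain ⟨c, hc, hcs, hcv⟩ := F.exists_pw w hw
    obtain ⟨cc, hcc⟩ : ∃ cc : ↥(Subgroup.centralizer ({z} : Set G) ⊓
        Subgroup.centralizer ({s} : Set G)), (cc : G) = c :=
      ⟨⟨c, Subgroup.mem_centralizer_singleton_iff.2 hc, Subgroup.mem_centralizer_singleton_iff.2 hcs⟩, rfl⟩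
    have hv : ∀ v : USub, (F.uAct cc v).1 = pU (pw w v.1) := fun v => by rw [uAct_apply, hcc, hcv]
    have hiter : ∀ (k : ℕ) (v : USub), ((F.uAct cc ^ k) v).1 = (fun x => pU (pw w x))^[k] v.1 := by
      intro k
      induction k with
      | zero => intro v; rfl
      | succ k ih =>
        intro v
        rw [pow_succ', Equiv.Perm.mul_apply, hv, ih, Function.iterate_succ_apply']
    have hmem : F.uAct cc ∈ stabU := F.uAct_mem (by rw [hcc, hcv]; exact hA) (by rw [hcc, hcv]; exact hu)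
    have hord : orderOf (F.uAct cc) = n := by
      refine orderOf_eq_prime (Equiv.ext fun v => Subtype.ext ?_) fun e => ?_
      · rw [hiter, hn v.1 v.2]; rfl
      · obtain ⟨v, hvU, hne⟩ := hmove
        apply hne
        rw [← hv ⟨v, hvU⟩, e]; rfl
    have h := orderOf_dvd_natCard (⟨F.uAct cc, hmem⟩ : stabU)
    rwa [Subgroup.orderOf_mk, hord] at h
  have : Fact (Nat.Prime 3) := ⟨Nat.prime_three⟩
  have : Fact (Nat.Prime 5) := ⟨Nat.prime_five⟩
  obtain ⟨a1, a2, a3, a4, a5⟩ := ord3_facts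
  obtain ⟨b1, b2, b3, b4, b5⟩ := ord5_facts
  exact Nat.Coprime.mul_dvd_of_dvd_of_dvd (by norm_num : Nat.Coprime 3 5)
    (h1 3 ord3 a1 a2 a3 a4 fun v hv => a5 v hv) (h1 5 ord5 b1 b2 b3 b4 fun v hv => b5 v hv)

end Frame

end CfsgLib.ConwayType
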