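import Cfsg.Agent.ConwayType.Commutator
import Cfsg.Agent.ConwayType.BitsTwo

/-!
# A Sylow `2`-subgroup of `C(z)` and lifts of words
-/

set_option autoImplicit false

namespace CfsgLib.ConwayType

open CfsgLib.LargeExtraspecial

/-- The images of the basis of the orthogonal of `s0` and `d0`, projected back to it. -/
def codeU (f : V8 → V8) : List V8 := basisU.map fun e => pU (f e)

theorem basisU_inU : ∀ e ∈ basisU, InU e := by decide +kernel

theorem IsIso8.appU_code {f : V8 → V8} (hf : IsIso8 f) (v : V8) :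
    appU (codeU f) v = pU (f (pU v)) :=
  appU_map (f := fun e => pU (f e)) (fun a b => by simp only [hf.add, pU_add])
    (by show pU (f 0) = 0; rw [hf.zero]; decide) v

theorem pU_sie_U (u v : V8) (hu : InU u) (hv : InU v) : pU (sie u v) = v := by
  have h := pU_sie u v hu
  rw [(inU_orth v hv).1, pU_add, hv] at h
  exact eq_of_add_eq_zero8 h

namespace Data

variable {G : Type*} [Group G] {z : G} {Q : Subgroup G} {π : G → V8} (D : Data z Q π)
include D

theorem act_cancel {c : G} (hc : c * z = z * c) (v : V8) :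
    D.act c⁻¹ (D.act c v) = v ∧ D.act c (D.act c⁻¹ v) = v := by
  constructor <;> rw [← D.act_mul] <;>
    first
      | exact hc
      | exact (Commute.inv_left hc).eq
      | simp [D.act_one]

theorem act_conj {c x : G} (hc : c * z = z * c) (hx : x * z = z * x) (v : V8) :
    D.act (c * x * c⁻¹) v = D.act c (D.act x (D.act c⁻¹ v)) := by
  rw [D.act_mul (Commute.mul_left hc hx).eq (Commute.inv_left hc).eq, D.act_mul hc hx]

/-- Lifts of words in pairs of reflections. -/
theorem exists_pw : ∀ w : List (ℕ × ℕ), (∀ p ∈ w, okPair p = true) →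
    ∃ c, c * z = z * c ∧ ∀ v, D.act c v = pw w v
  | [], _ => ⟨1, by simp, D.act_one⟩
  | p :: w, h => by
    obtain ⟨c, hc, hcv⟩ := exists_pw w fun q hq => h q (List.mem_cons_of_mem p hq)
    obtain ⟨d, hd, hdv⟩ := D.exists_pr (h p List.mem_cons_self)
    exact ⟨d * c, (Commute.mul_left hd hc).eq,
      fun v => by rw [D.act_mul hd hc, hdv, hcv]; rfl⟩

/-- Every singular point can be moved to `s0`. -/
theorem exists_move {v : V8} (hq : q8 v = false) (h0 : v ≠ 0) :
    ∃ c, c * z = z * c ∧ D.act c v = s0 := by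
  have hreach : ∀ v ∈ singList, ∃ c, c * z = z * c ∧ D.act c v = s0 :=
    chainOK_prop (P := fun v => ∃ c, c * z = z * c ∧ D.act c v = s0)
      ⟨1, by simp, D.act_one _⟩ (fun g hg v hv => by
        obtain ⟨p, hp, rfl⟩ := List.mem_map.1 hg
        obtain ⟨c, hc, hcv⟩ := hv
        obtain ⟨d, hd, hdv⟩ := D.exists_pr (allGens_ok p hp)
        refine ⟨c * d⁻¹, (Commute.mul_left hc (Commute.inv_left hd)).eq, ?_⟩
        rw [← hdv, D.act_mul hc (Commute.inv_left hd).eq, (D.act_cancel hd v).1, hcv])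
      singList singList_facts.1
  exact hreach v (singList_facts.2 v hq h0)

theorem pU_act_cancel {c : G} (hc : c * z = z * c) (hs : D.act c s0 = s0) {v : V8}
    (hv : b8 v s0 = false) : pU (D.act c⁻¹ (pU (D.act c v))) = pU v := by
  have hsi : D.act c⁻¹ s0 = s0 := by
    conv_lhs => rw [← hs]
    exact (D.act_cancel hc s0).1
  rw [(D.act_iso (Commute.inv_left hc).eq).pU_map_pU hsi ((D.act_iso hc).orth_s0 hs hv),
    (D.act_cancel hc v).1]

theorem codeU_mul {c d : G} (hc : c * z = z * c) (hd : d * z = z * d) (hcs : D.act c s0 = s0)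
    (hds : D.act d s0 = s0) :
    codeU (D.act (c * d)) = (codeU (D.act d)).map (appU (codeU (D.act c))) := by
  simp only [codeU, List.map_map]
  refine List.map_congr_left fun e he => ?_
  show _ = appU (codeU (D.act c)) (pU (D.act d e))
  rw [(D.act_iso hc).appU_code, pU_pU, (D.act_iso hc).pU_map_pU hcs
    ((D.act_iso hd).orth_s0 hds (inU_orth e (basisU_inU e he)).1), D.act_mul hc hd]

/-- The elements fixing `s0` whose map on its orthogonal modulo `s0` lies in the fixed group of
order `64`. -/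
def InS (c : G) : Prop := c * z = z * c ∧ D.act c s0 = s0 ∧ codeU (D.act c) ∈ tList

theorem inS_mul {c d : G} (hc : D.InS c) (hd : D.InS d) : D.InS (c * d) :=
  ⟨(Commute.mul_left hc.1 hd.1).eq, by rw [D.act_mul hc.1 hd.1, hd.2.1, hc.2.1],
    by rw [D.codeU_mul hc.1 hd.1 hc.2.1 hd.2.1]; exact tList_closed _ hc.2.2 _ hd.2.2⟩

theorem inS_of_mem {c : G} (hc : c ∈ Q) : D.InS c := by
  refine ⟨D.Q_comm hc, D.act_of_mem hc _, ?_⟩
  have : codeU (D.act c) = basisU := by
    rw [codeU]
    conv_rhs => rw [← List.map_id basisU]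
    exact List.map_congr_left fun e he => by rw [D.act_of_mem hc]; exact basisU_inU e he
  rw [this]
  exact tList_facts.2.2

theorem inS_pow {c : G} (hc : D.InS c) : ∀ k : ℕ, D.InS (c ^ k)
  | 0 => by rw [pow_zero]; exact D.inS_of_mem (one_mem Q)
  | k + 1 => by rw [pow_succ]; exact D.inS_mul (inS_pow hc k) hc

/-- The subgroup with these elements. -/
def sylS [Finite G] : Subgroup G where
  carrier := {c | D.InS c}
  one_mem' := D.inS_of_mem (one_mem Q)
  mul_mem' := fun hc hd => D.inS_mul hc hd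
  inv_mem' := fun {c} hc => by
    have h : c⁻¹ = c ^ (orderOf c - 1) := inv_eq_of_mul_eq_one_right (by
      rw [← pow_succ', Nat.sub_add_cancel (orderOf_pos c), pow_orderOf_eq_one])
    show D.InS c⁻¹
    rw [h]
    exact D.inS_pow hc _

theorem mem_sylS [Finite G] {c : G} : c ∈ D.sylS ↔ D.InS c := Iff.rfl

end Data

namespace Frame

variable {G : Type*} [Group G] {z s : G} {Q P : Subgroup G} {π : G → V8} (F : Frame z Q π P s)
include F

/-- Lifts into `C(z) ∩ C(s)` of words fixing `s0`. -/
theorem exists_pw : ∀ w : List (ℕ × ℕ), (∀ p ∈ w, okPair p = true ∧ pr p s0 = s0) →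
    ∃ n, n * z = z * n ∧ n * s = s * n ∧ ∀ v, F.data.act n v = pw w v
  | [], _ => ⟨1, by simp, by simp, F.data.act_one⟩
  | p :: w, h => by
    obtain ⟨n, hn, hns, hnv⟩ := exists_pw w fun q hq => h q (List.mem_cons_of_mem p hq)
    obtain ⟨m, hm, hms, hmv⟩ := F.exists_pr (h p List.mem_cons_self).1 (h p List.mem_cons_self).2
    exact ⟨m * n, (Commute.mul_left hm hn).eq, (Commute.mul_left hms hns).eq,
      fun v => by rw [F.data.act_mul hm hn, hmv, hnv]; rfl⟩

/-- Lifts of the fixed group of order `64`. -/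
theorem exists_lift {t : List V8} (ht : t ∈ tList) :
    ∃ n, n * z = z * n ∧ n * s = s * n ∧ (∀ v, F.data.act n v = app8 (ext8 t) v) ∧
      F.data.act n s0 = s0 ∧ codeU (F.data.act n) = t := by
  have hreach : ∀ l ∈ tList.map ext8, ∃ n, n * z = z * n ∧ n * s = s * n ∧
      basis8.map (F.data.act n) = l :=
    chainOK_prop (P := fun l => ∃ n, n * z = z * n ∧ n * s = s * n ∧
      basis8.map (F.data.act n) = l)
      ⟨1, by simp, by simp, by
        conv_rhs => rw [← List.map_id basis8]
        exact List.map_congr_left fun e _ => F.data.act_one e⟩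
      (fun g hg l hl => by
        obtain ⟨w, hw, rfl⟩ := List.mem_map.1 hg
        obtain ⟨n, hn, hns, rfl⟩ := hl
        obtain ⟨m, hm, hms, hmv⟩ := F.exists_pw w (tGens_ok w hw)
        refine ⟨m * n, (Commute.mul_left hm hn).eq, (Commute.mul_left hms hns).eq, ?_⟩
        show _ = (List.map (F.data.act n) basis8).map (pw w)
        rw [List.map_map]
        exact List.map_congr_left fun e _ => by rw [F.data.act_mul hm hn, hmv]; rfl)
      _ tList_chain
  obtain ⟨n, hn, hns, hl⟩ := hreach _ (List.mem_map_of_mem ht)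
  refine ⟨n, hn, hns, fun v => ?_, F.act_s hn hns, ?_⟩
  · rw [← hl, (F.data.act_iso hn).app8_code]
  · have h2 : basisU.map (F.data.act n) = t := by
      have h3 : basis8 = mk8 1 :: mk8 2 :: basisU := rfl
      rw [h3, List.map_cons, List.map_cons, ext8] at hl
      exact (List.cons.inj (List.cons.inj hl).2).2
    calc codeU (F.data.act n) = (basisU.map (F.data.act n)).map pU := by
          rw [codeU, List.map_map]; rfl
      _ = t := by rw [h2, tList_inU t ht]

variable [Finite G]

theorem inS_W {w : G} (hw : w ∈ P) (hwz : w * z = z * w) : F.data.InS w := by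
  refine ⟨hwz, F.act_s hwz (F.W_comm_s hw), ?_⟩
  have : codeU (F.data.act w) = basisU := by
    rw [codeU]
    conv_rhs => rw [← List.map_id basisU]
    exact List.map_congr_left fun e he => by
      rw [F.act_W hw hwz]; exact pU_sie_U _ e (F.ups_inU w) (basisU_inU e he)
  rw [this]
  exact tList_facts.2.2

/-- The shape of the elements of the Sylow subgroup. -/
theorem inS_cases {c : G} (hc : F.data.InS c) :
    ∃ n w, n * z = z * n ∧ w ∈ P ∧ w * z = z * w ∧
      (∀ v, F.data.act n v = app8 (ext8 (codeU (F.data.act c))) v) ∧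
      (∀ v, F.data.act c v = app8 (ext8 (codeU (F.data.act c))) (sie (F.ups w) v)) := by
  obtain ⟨hcz, hcs, hct⟩ := hc
  obtain ⟨n, hn, hns, hnv, hns0, hnt⟩ := F.exists_lift hct
  have hni : n⁻¹ * z = z * n⁻¹ := (Commute.inv_left hn).eq
  set m := n⁻¹ * c with hm
  have hmz : m * z = z * m := (Commute.mul_left hni hcz).eq
  have hms : F.data.act m s0 = s0 := by
    rw [hm, F.data.act_mul hni hcz, hcs]
    conv_lhs => rw [← hns0]
    exact (F.data.act_cancel hn s0).1
  have hsie := (F.data.act_iso hmz).eq_sie hms fun x hx => by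
    refine pU_eq_zero _ ?_ ?_
    · rw [pU_add]
      have h1 : pU (F.data.act c x) = pU (F.data.act n (pU x)) := by
        rw [← (F.data.act_iso hcz).pU_map_pU hcs hx, ← (F.data.act_iso hcz).appU_code x,
          ← (F.data.act_iso hn).appU_code x, hnt]
      rw [(F.data.act_iso hn).pU_map_pU hns0 hx] at h1
      have h2 : pU (F.data.act m x) = pU x := by
        rw [hm, F.data.act_mul hni hcz, ← (F.data.act_iso hni).pU_map_pU
          (by conv_lhs => rw [← hns0]
              exact (F.data.act_cancel hn s0).1) ((F.data.act_iso hcz).orth_s0 hcs hx), h1]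
        exact F.data.pU_act_cancel hn hns0 hx
      rw [h2, add_self8]
    · rw [b8_add_left, (F.data.act_iso hmz).orth_s0 hms hx, hx]; rfl
  obtain ⟨w, hw, hwz, hwu⟩ := F.exists_ups (u := pU (F.data.act m d0)) (pU_pU _)
  refine ⟨n, w, hn, hw, hwz, hnv, fun v => ?_⟩
  rw [← hnv, hwu, ← hsie, ← F.data.act_mul hn hmz, hm, mul_inv_cancel_left]

theorem card_sylS : Nat.card F.data.sylS = 2 ^ 21 := by
  classical
  choose nl hnl hnls hnlv hnls0 hnlt using fun t : tList.toFinset =>
    F.exists_lift (List.mem_toFinset.1 t.2)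
  choose wu hwu hwuz hwuu using fun u : {v : V8 // InU v} => F.exists_ups u.2
  let f : tList.toFinset × {v : V8 // InU v} × Q → F.data.sylS := fun x =>
    ⟨nl x.1 * (wu x.2.1 * (x.2.2 : G)), F.data.inS_mul
      ⟨hnl _, hnls0 _, by rw [hnlt]; exact List.mem_toFinset.1 x.1.2⟩
      (F.data.inS_mul (F.inS_W (hwu _) (hwuz _)) (F.data.inS_of_mem x.2.2.2))⟩
  have hact : ∀ x, ∀ v, F.data.act (f x : G) v = F.data.act (nl x.1) (sie x.2.1.1 v) := fun x v => by
    show F.data.act (nl x.1 * (wu x.2.1 * (x.2.2 : G))) v = _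
    rw [F.data.act_mul (hnl _) (Commute.mul_left (hwuz _) (F.data.Q_comm x.2.2.2)).eq,
      F.data.act_mul (hwuz _) (F.data.Q_comm x.2.2.2), F.data.act_of_mem x.2.2.2,
      F.act_W (hwu _) (hwuz _), hwuu]
  have hcode : ∀ x, codeU (F.data.act (f x : G)) = x.1.1 := fun x => by
    rw [← hnlt x.1]
    refine List.map_congr_left fun e he => ?_
    have heU := basisU_inU e he
    rw [hact, ← (F.data.act_iso (hnl _)).pU_map_pU (hnls0 _) (v := sie x.2.1.1 e) ?_,
      pU_sie_U _ e x.2.1.2 heU]
    have hiso := F.data.act_iso (hwuz x.2.1)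
    have := hiso.orth_s0 (F.act_s (hwuz _) (F.W_comm_s (hwu _))) (inU_orth e heU).1
    rwa [F.act_W (hwu _) (hwuz _), hwuu] at this
  have hinj : Function.Injective f := fun x y h => by
    have h' : (f x : G) = f y := congrArg Subtype.val h
    have ht : x.1 = y.1 := Subtype.ext (by rw [← hcode x, h', hcode])
    obtain ⟨t, u, q⟩ := x
    obtain ⟨t', u', q'⟩ := y
    obtain rfl : t = t' := ht
    have hu : u = u' := by
      refine Subtype.ext ?_
      have h2 := congrArg (F.data.act (nl t)⁻¹) ((hact (t, u, q) d0).symm.trans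
        ((congrArg (F.data.act · d0) h').trans (hact (t, u', q') d0)))
      rw [(F.data.act_cancel (hnl t) _).1, (F.data.act_cancel (hnl t) _).1] at h2
      rw [← sie_two u.1 u.2, ← sie_two u'.1 u'.2, h2]
    subst hu
    have hq : (q : G) = q' := mul_left_cancel (mul_left_cancel h')
    rw [Subtype.ext hq]
  have hsurj : Function.Surjective f := fun ⟨c, hc⟩ => by
    obtain ⟨n, w, hn, hw, hwz, hnv, hcv⟩ := F.inS_cases hc
    set t : tList.toFinset := ⟨codeU (F.data.act c), List.mem_toFinset.2 hc.2.2⟩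
    set u : {v : V8 // InU v} := ⟨F.ups w, F.ups_inU w⟩
    have hz : (nl t * wu u) * z = z * (nl t * wu u) := (Commute.mul_left (hnl t) (hwuz u)).eq
    have hq : (nl t * wu u)⁻¹ * c ∈ Q := by
      refine F.data.mem_of_act (Commute.mul_left (Commute.inv_left hz) hc.1).eq fun v => ?_
      have h1 : F.data.act c v = F.data.act (nl t * wu u) v := by
        rw [F.data.act_mul (hnl t) (hwuz u), F.act_W (hwu u) (hwuz u), hwuu, hnlv, hcv]
      rw [F.data.act_mul (Commute.inv_left hz).eq hc.1, h1, (F.data.act_cancel hz v).1]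
    exact ⟨(t, u, ⟨_, hq⟩), Subtype.ext (by
      show nl t * (wu u * ((nl t * wu u)⁻¹ * c)) = c
      group)⟩
  rw [← Nat.card_congr (Equiv.ofBijective f ⟨hinj, hsurj⟩), Nat.card_prod, Nat.card_prod,
    Nat.card_eq_finsetCard, List.toFinset_card_of_nodup tList_facts.2.1, tList_facts.1,
    Nat.card_eq_fintype_card (α := {v : V8 // InU v}), card_U, F.data.card]
  norm_num

/-- A `2`-element of a subgroup of `C(z)` containing the Sylow subgroup can be conjugated into
it inside that subgroup. -/
theorem exists_conj_inS (H : Subgroup G) (hH : ∀ h ∈ H, h * z = z * h) (hSH : F.data.sylS ≤ H)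
    {x : G} (hx : x ∈ H) (h2 : x * x = 1) : ∃ c ∈ H, F.data.InS (c * x * c⁻¹) := by
  classical
  have : Fact (Nat.Prime 2) := ⟨Nat.prime_two⟩
  have hle : H ≤ Subgroup.centralizer ({z} : Set G) := fun h hh =>
    Subgroup.mem_centralizer_singleton_iff.2 (hH h hh)
  have hdvd := Subgroup.card_dvd_of_le hle
  rw [F.data.card_cent] at hdvd
  have hdvd' := Subgroup.card_dvd_of_le hSH
  rw [F.card_sylS] at hdvd'
  have hfac : (Nat.card H).factorization 2 = 21 := by
    have hC : (2 ^ 21 * 42525 : ℕ).factorization 2 = 21 := by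
      rw [Nat.factorization_mul (by norm_num) (by norm_num), Finsupp.add_apply,
        Nat.Prime.factorization_pow Nat.prime_two, Finsupp.single_eq_same,
        Nat.factorization_eq_zero_of_not_dvd (by norm_num : ¬ 2 ∣ 42525)]
    have hpos : Nat.card H ≠ 0 := Nat.card_pos.ne'
    have h1 := (Nat.factorization_le_iff_dvd hpos (by norm_num)).2 hdvd 2
    have h2' := (Nat.Prime.pow_dvd_iff_le_factorization Nat.prime_two hpos).1 hdvd'
    omega
  let S : Sylow 2 H := Sylow.ofCard (F.data.sylS.subgroupOf H) (by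
    rw [Nat.card_congr (Subgroup.subgroupOfEquivOfLe hSH).toEquiv, F.card_sylS, hfac])
  have hp : IsPGroup 2 (Subgroup.zpowers (⟨x, hx⟩ : H)) := by
    rintro ⟨g, k, rfl⟩
    refine ⟨1, Subtype.ext (Subtype.ext ?_)⟩
    show (x ^ k) ^ (2 ^ 1) = 1
    rw [pow_one, pow_two, ← zpow_add, ← two_mul, zpow_mul,
      show (x ^ (2 : ℤ)) = 1 by rw [zpow_ofNat, pow_two, h2], one_zpow]
  obtain ⟨T, hT⟩ := hp.exists_le_sylow
  obtain ⟨c, hc⟩ := MulAction.exists_smul_eq H T S
  refine ⟨c, c.2, ?_⟩
  have hmem : c * ⟨x, hx⟩ * c⁻¹ ∈ (S : Subgroup H) := by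
    rw [← hc]
    exact ⟨⟨x, hx⟩, hT (Subgroup.mem_zpowers _), rfl⟩
  exact hmem

end Frame

end CfsgLib.ConwayType
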